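import Mathlib

/-!
# Kummer covers of reduced rings
-/

set_option autoImplicit false

universe u

open IsLocalRing TensorProduct Polynomial

namespace Groth.Agent.H1Ram

/-- `R[X]/(X^e - t)` is reduced for `R` reduced, `e` and `t` units. -/
theorem isReduced_adjoinRoot {R : Type u} [CommRing R] [IsReduced R] (e : ℕ) (he : IsUnit (e : R)) (t : R)
    (ht : IsUnit t) : IsReduced (AdjoinRoot (X ^ e - C t)) := by
  rcases subsingleton_or_nontrivial R with hR | hR
  · haveI : Subsingleton (AdjoinRoot (X ^ e - C t)) := AdjoinRoot.mk_surjective.subsingleton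
    exact ⟨fun _ _ => Subsingleton.elim _ _⟩
  have he0 : e ≠ 0 := by rintro rfl; simp at he
  have hf : (X ^ e - C t).Monic := monic_X_pow_sub_C t he0
  refine ⟨fun z hz => ?_⟩
  obtain ⟨g, rfl⟩ := AdjoinRoot.mk_surjective z
  obtain ⟨n, hn⟩ := hz
  rw [← map_pow, AdjoinRoot.mk_eq_zero] at hn
  rw [AdjoinRoot.mk_eq_zero, ← modByMonic_eq_zero_iff_dvd hf]
  generalize hr : g %ₘ (X ^ e - C t) = r
  ext i
  rw [coeff_zero]
  refine IsNilpotent.eq_zero (mem_nilradical.1 ?_)
  rw [nilradical_eq_sInf, Ideal.mem_sInf]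
  intro p (hp : Ideal.IsPrime p)
  haveI := hp
  let φ : R →+* FractionRing (R ⧸ p) := (algebraMap (R ⧸ p) _).comp (Ideal.Quotient.mk p)
  have hsep : ((X ^ e - C t).map φ).Separable := by
    rw [Polynomial.map_sub, Polynomial.map_pow, map_X, map_C]
    refine separable_X_pow_sub_C _ ?_ (ht.map φ).ne_zero
    rw [← map_natCast φ]; exact (he.map φ).ne_zero
  have hd : (X ^ e - C t).map φ ∣ (g.map φ) ^ n := by
    rw [← Polynomial.map_pow]; exact Polynomial.map_dvd φ hn
  rcases eq_or_ne n 0 with rfl | hn0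
  · rw [pow_zero] at hd
    have := natDegree_eq_zero_of_isUnit (isUnit_of_dvd_one hd)
    rw [hf.natDegree_map φ, natDegree_X_pow_sub_C] at this
    exact absurd this he0
  have h1 : (X ^ e - C t).map φ ∣ g.map φ := (hsep.squarefree.dvd_pow_iff_dvd hn0).1 hd
  have h2 : g.map φ %ₘ (X ^ e - C t).map φ = 0 := (modByMonic_eq_zero_iff_dvd (hf.map φ)).2 h1
  rw [← map_modByMonic φ hf, hr] at h2
  have h3 : φ (r.coeff i) = 0 := by rw [← coeff_map, h2, coeff_zero]
  exact Ideal.Quotient.eq_zero_iff_mem.1 ((IsFractionRing.injective (R ⧸ p) (FractionRing (R ⧸ p)))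
    (h3.trans (map_zero _).symm))

theorem isGeometricallyReduced_adjoinRoot (k T : Type u) [Field k] [CommRing T] [Algebra k T]
    [Algebra.IsGeometricallyReduced k T] (e : ℕ) (he : (e : k) ≠ 0) (t : T) (ht : IsUnit t) :
    Algebra.IsGeometricallyReduced k (AdjoinRoot (X ^ e - C t)) := by
  haveI : IsReduced (AlgebraicClosure k ⊗[k] T) := (Algebra.isGeometricallyReduced_field_iff k T).1 ‹_›
  rw [Algebra.isGeometricallyReduced_field_iff]
  let ι : T →ₐ[k] AlgebraicClosure k ⊗[k] T := Algebra.TensorProduct.includeRight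
  haveI : IsReduced (AdjoinRoot (X ^ e - C (ι t))) := isReduced_adjoinRoot e (by
    rw [← map_natCast (algebraMap k (AlgebraicClosure k ⊗[k] T))]; exact (Ne.isUnit he).map _) (ι t) (ht.map ι)
  let inK : AlgebraicClosure k →ₐ[k] AdjoinRoot (X ^ e - C (ι t)) :=
    (IsScalarTower.toAlgHom k (AlgebraicClosure k ⊗[k] T) (AdjoinRoot (X ^ e - C (ι t)))).comp
      Algebra.TensorProduct.includeLeft
  let inT : AdjoinRoot (X ^ e - C t) →ₐ[k] AdjoinRoot (X ^ e - C (ι t)) :=
    AdjoinRoot.liftAlgHom (X ^ e - C t)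
      ((IsScalarTower.toAlgHom k (AlgebraicClosure k ⊗[k] T) (AdjoinRoot (X ^ e - C (ι t)))).comp ι)
      (AdjoinRoot.root _) (by
        simp only [eval₂_sub, eval₂_pow, eval₂_X, eval₂_C]
        have h := AdjoinRoot.eval₂_root (X ^ e - C (ι t))
        simp only [eval₂_sub, eval₂_pow, eval₂_X, eval₂_C] at h
        exact h)
  let Φ := Algebra.TensorProduct.lift inK inT fun _ _ => Commute.all _ _
  let Ψ₀ : AlgebraicClosure k ⊗[k] T →ₐ[k] AlgebraicClosure k ⊗[k] AdjoinRoot (X ^ e - C t) :=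
    Algebra.TensorProduct.map (AlgHom.id k _) (IsScalarTower.toAlgHom k T _)
  let Ψ : AdjoinRoot (X ^ e - C (ι t)) →ₐ[k] AlgebraicClosure k ⊗[k] AdjoinRoot (X ^ e - C t) :=
    AdjoinRoot.liftAlgHom (X ^ e - C (ι t)) Ψ₀ (1 ⊗ₜ AdjoinRoot.root (X ^ e - C t)) (by
      simp only [eval₂_sub, eval₂_pow, eval₂_X, eval₂_C]
      show _ - Ψ₀ ((1 : AlgebraicClosure k) ⊗ₜ t) = 0
      have h := AdjoinRoot.eval₂_root (X ^ e - C t)
      simp only [eval₂_sub, eval₂_pow, eval₂_X, eval₂_C, sub_eq_zero] at h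
      rw [Algebra.TensorProduct.tmul_pow, one_pow, Algebra.TensorProduct.map_tmul, map_one, h, sub_eq_zero]
      rfl)
  refine isReduced_of_injective Φ (Function.LeftInverse.injective (g := Ψ)
    fun x => AlgHom.congr_fun (φ₁ := Ψ.comp Φ) (φ₂ := AlgHom.id k _) ?_ x)
  refine Algebra.TensorProduct.ext' fun a z => ?_
  show Ψ (Φ (a ⊗ₜ z)) = a ⊗ₜ z
  rw [Algebra.TensorProduct.lift_tmul, map_mul]
  have hK : Ψ (inK a) = a ⊗ₜ 1 := by
    show Ψ (AdjoinRoot.of _ (a ⊗ₜ (1 : T))) = _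
    rw [AdjoinRoot.liftAlgHom_of, Algebra.TensorProduct.map_tmul, map_one]
    rfl
  have hT : ∀ z, Ψ (inT z) = 1 ⊗ₜ z := by
    intro z
    induction z using AdjoinRoot.induction_on with
    | _ p =>
      induction p using Polynomial.induction_on' with
      | add p q hp hq => rw [map_add, map_add, map_add, hp, hq, TensorProduct.tmul_add]
      | monomial m c =>
        rw [← C_mul_X_pow_eq_monomial, map_mul, map_pow, AdjoinRoot.mk_C, AdjoinRoot.mk_X, map_mul, map_mul, map_pow,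
          map_pow, AdjoinRoot.liftAlgHom_root, AdjoinRoot.liftAlgHom_of]
        show Ψ (AdjoinRoot.of _ ((1 : AlgebraicClosure k) ⊗ₜ c)) * Ψ (AdjoinRoot.root _) ^ m = _
        rw [AdjoinRoot.liftAlgHom_of, AdjoinRoot.liftAlgHom_root, Algebra.TensorProduct.tmul_pow,
          Algebra.TensorProduct.map_tmul, Algebra.TensorProduct.tmul_mul_tmul, one_pow, map_one, mul_one]
        rfl
  rw [hK, hT, Algebra.TensorProduct.tmul_mul_tmul, one_mul, mul_one]

end Groth.Agent.H1Ram
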