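import Groth.Agent.H1Ram.Formal
import Groth.Agent.H1Ram.Kummer
import Groth.Agent.GrpSchLib.FieldReduced

/-!
# Abhyankar's lemma
-/

set_option autoImplicit false

universe u

open IsLocalRing TensorProduct Polynomial
open scoped Pointwise

namespace Groth.Agent.H1Ram

theorem vn_of_mem_range {T R Q : Type u} [CommRing T] [CommRing R] [CommRing Q] [IsArtinianRing T] [IsReduced T]
    (Φ : T →+* Q) (q : R →+* Q) (hq : Function.Surjective q) (h : ∀ x, q x ∈ Φ.range) (x : R) :
    ∃ y : R, x - x * x * y ∈ RingHom.ker q := by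
  obtain ⟨t, ht⟩ := h x
  obtain ⟨s, hs⟩ := exists_sq t
  obtain ⟨y, hy⟩ := hq (Φ s)
  refine ⟨y, ?_⟩
  rw [RingHom.mem_ker, map_sub, map_mul, map_mul, hy, ← ht, ← map_mul, ← map_mul, ← hs, sub_self]

/-- Two homomorphisms killing the maximal ideals and agreeing on `A` give one on the fibre. -/
theorem exists_fibreHom {A B U Q : Type u} [CommRing A] [IsLocalRing A] [CommRing B] [CommRing U] [CommRing Q]
    [IsLocalRing B] [IsLocalRing U] [Algebra A B] [Algebra A U] [IsLocalHom (algebraMap A B)]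
    [IsLocalHom (algebraMap A U)] (qU : U →+* Q) (qB : B →+* Q) (hU0 : ∀ u ∈ maximalIdeal U, qU u = 0)
    (hB0 : ∀ b ∈ maximalIdeal B, qB b = 0) (hA : ∀ a, qU (algebraMap A U a) = qB (algebraMap A B a)) :
    ∃ Φ : ResidueField U ⊗[ResidueField A] ResidueField B →+* Q,
      (∀ u, Φ (residue U u ⊗ₜ 1) = qU u) ∧ ∀ b, Φ (1 ⊗ₜ residue B b) = qB b := by
  let rU : ResidueField U →+* Q := Ideal.Quotient.lift (maximalIdeal U) qU hU0
  let rB : ResidueField B →+* Q := Ideal.Quotient.lift (maximalIdeal B) qB hB0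
  letI : Algebra (ResidueField A) Q := (rU.comp (algebraMap (ResidueField A) (ResidueField U))).toAlgebra
  let ψU : ResidueField U →ₐ[ResidueField A] Q := { rU with commutes' := fun _ => rfl }
  let ψB : ResidueField B →ₐ[ResidueField A] Q :=
    { rB with
      commutes' := fun a => by
        obtain ⟨a, rfl⟩ := residue_surjective a
        show qB (algebraMap A B a) = qU (algebraMap A U a)
        exact (hA a).symm }
  refine ⟨(Algebra.TensorProduct.lift ψU ψB fun _ _ => Commute.all _ _).toRingHom, fun u => ?_, fun b => ?_⟩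
  · exact (Algebra.TensorProduct.lift_tmul _ _ _ _ _).trans (by rw [map_one, mul_one]; rfl)
  · exact (Algebra.TensorProduct.lift_tmul _ _ _ _ _).trans (by rw [map_one, one_mul]; rfl)

theorem abhyankar_fibre {M : Type u} [Field M] {A B U : Type u} [CommRing A] [IsLocalRing A] [CommRing B]
    [IsLocalRing B] [CommRing U] [IsLocalRing U] [Algebra A B] [Algebra A U] [IsLocalHom (algebraMap A B)]
    [IsLocalHom (algebraMap A U)]
    [IsArtinianRing (ResidueField U ⊗[ResidueField A] ResidueField B)]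
    [Algebra.IsGeometricallyReduced (ResidueField U) (ResidueField U ⊗[ResidueField A] ResidueField B)]
    (W : ValuationSubring M) [IsDiscreteValuationRing W] (ιU : U →+* W) (ιB : B →+* W) [IsLocalHom ιU]
    (hA : ∀ a, ιU (algebraMap A U a) = ιB (algebraMap A B a))
    (σ : U) (ρ : B) (hσ : maximalIdeal U = Ideal.span {σ}) (hρ : maximalIdeal B = Ideal.span {ρ})
    (hσ0 : ιU σ ≠ 0) (c e : ℕ) (hc : 0 < c) (he : (e : ResidueField U) ≠ 0)
    (ξ : W) (hξ : ιB ρ = ιU σ ^ c * ξ) (v : U) (w : B) (hv : IsUnit v) (hw : IsUnit w)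
    (hvw : ξ ^ e = ιU v * ιB w)
    (hfrac : ∀ x : M, ∃ r s : W, r ∈ Subring.closure (Set.range ιU ∪ Set.range ιB) ∧
      s ∈ Subring.closure (Set.range ιU ∪ Set.range ιB) ∧ s ≠ 0 ∧ x * (s : M) = (r : M)) :
    (maximalIdeal U).map ιU = maximalIdeal W ∧
      @Algebra.IsGeometricallyReduced (ResidueField U) (ResidueField W) _ _ (ResidueField.map ιU).toAlgebra := by
  haveI : IsReduced (ResidueField U ⊗[ResidueField A] ResidueField B) :=
    Algebra.isReduced_of_isGeometricallyReduced (ResidueField U)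
  obtain ⟨t, ht⟩ : ∃ t, residue U v ⊗ₜ[ResidueField A] residue B w = t := ⟨_, rfl⟩
  have htu : IsUnit t := by
    rw [← ht, show residue U v ⊗ₜ[ResidueField A] residue B w = (residue U v ⊗ₜ 1) * ((1 : ResidueField U) ⊗ₜ residue B w) by
      rw [Algebra.TensorProduct.tmul_mul_tmul, mul_one, one_mul]]
    exact ((hv.map (residue U)).map (Algebra.TensorProduct.includeLeft (S := ResidueField A) (B := ResidueField B))).mul
      ((hw.map (residue B)).map (Algebra.TensorProduct.includeRight (A := ResidueField U)))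
  have he0 : e ≠ 0 := by rintro rfl; simp at he
  have hmonic : (X ^ e - C t).Monic := monic_X_pow_sub_C t he0
  haveI : Module.Finite (ResidueField U ⊗[ResidueField A] ResidueField B) (AdjoinRoot (X ^ e - C t)) :=
    hmonic.finite_adjoinRoot
  haveI : IsArtinianRing (AdjoinRoot (X ^ e - C t)) :=
    IsArtinianRing.of_finite (ResidueField U ⊗[ResidueField A] ResidueField B) _
  haveI := isGeometricallyReduced_adjoinRoot (ResidueField U) (ResidueField U ⊗[ResidueField A] ResidueField B) e he t htu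
  haveI : IsReduced (AdjoinRoot (X ^ e - C t)) := Algebra.isReduced_of_isGeometricallyReduced (ResidueField U)
  generalize hR₀ : Subring.closure (Set.range ιU ∪ Set.range ιB ∪ {ξ}) = R₀
  have hmemU : ∀ u, ιU u ∈ R₀ := fun u => hR₀ ▸ Subring.subset_closure (Or.inl (Or.inl ⟨u, rfl⟩))
  have hmemB : ∀ b, ιB b ∈ R₀ := fun b => hR₀ ▸ Subring.subset_closure (Or.inl (Or.inr ⟨b, rfl⟩))
  have hmemξ : ξ ∈ R₀ := hR₀ ▸ Subring.subset_closure (Or.inr rfl)
  -- the fibre over any target
  have hgen : ∀ (Q : Type u) [CommRing Q] (q : R₀ →+* Q), q ⟨_, hmemU σ⟩ = 0 →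
      ∃ Φ : AdjoinRoot (X ^ e - C t) →+* Q, (∀ u, Φ (AdjoinRoot.of _ (residue U u ⊗ₜ 1)) = q ⟨_, hmemU u⟩) ∧
        ∀ x, q x ∈ Φ.range := by
    intro Q _ q hq
    have hU0 : ∀ u ∈ maximalIdeal U, (q.comp (ιU.codRestrict R₀ hmemU)) u = 0 := fun u hu => by
      obtain ⟨d, rfl⟩ := Ideal.mem_span_singleton'.1 (hσ ▸ hu)
      show q _ = 0
      rw [map_mul, map_mul]
      exact mul_eq_zero_of_right _ hq
    have hB0 : ∀ b ∈ maximalIdeal B, (q.comp (ιB.codRestrict R₀ hmemB)) b = 0 := fun b hb => by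
      obtain ⟨d, rfl⟩ := Ideal.mem_span_singleton'.1 (hρ ▸ hb)
      show q _ = 0
      rw [map_mul, map_mul]
      refine mul_eq_zero_of_right _ ?_
      obtain ⟨j, rfl⟩ := Nat.exists_eq_add_of_le' hc
      rw [show ιB.codRestrict R₀ hmemB ρ = (⟨_, hmemU σ⟩ : R₀) ^ (j + 1) * ⟨ξ, hmemξ⟩ from Subtype.ext hξ,
        map_mul, map_pow, hq, zero_pow j.succ_ne_zero, zero_mul]
    obtain ⟨Φ₀, hΦU, hΦB⟩ := exists_fibreHom (A := A) _ _ hU0 hB0 fun a => congrArg q (Subtype.ext (hA a))
    have heval : (X ^ e - C t).eval₂ Φ₀ (q ⟨ξ, hmemξ⟩) = 0 := by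
      simp only [eval₂_sub, eval₂_pow, eval₂_X, eval₂_C, sub_eq_zero]
      rw [← ht, show residue U v ⊗ₜ[ResidueField A] residue B w = (residue U v ⊗ₜ 1) * ((1 : ResidueField U) ⊗ₜ residue B w) by
        rw [Algebra.TensorProduct.tmul_mul_tmul, mul_one, one_mul], map_mul, hΦU, hΦB, ← map_pow]
      show q _ = q _ * q _
      rw [← map_mul]
      exact congrArg q (Subtype.ext hvw)
    refine ⟨AdjoinRoot.lift Φ₀ _ heval, fun u => by rw [AdjoinRoot.lift_of, hΦU]; rfl, ?_⟩
    rintro ⟨x, hx⟩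
    subst hR₀
    induction hx using Subring.closure_induction with
    | mem z hz =>
      rcases hz with (⟨u, rfl⟩ | ⟨b, rfl⟩) | hz
      · exact ⟨AdjoinRoot.of _ (residue U u ⊗ₜ 1), (AdjoinRoot.lift_of _).trans (hΦU u)⟩
      · exact ⟨AdjoinRoot.of _ (1 ⊗ₜ residue B b), (AdjoinRoot.lift_of _).trans (hΦB b)⟩
      · rw [Set.mem_singleton_iff] at hz
        subst hz
        exact ⟨AdjoinRoot.root _, AdjoinRoot.lift_root _⟩
    | zero => exact ⟨0, (map_zero _).trans (map_zero q).symm⟩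
    | one => exact ⟨1, (map_one _).trans (map_one q).symm⟩
    | add a b _ _ ha hb =>
      obtain ⟨x, hx⟩ := ha; obtain ⟨y, hy⟩ := hb
      exact ⟨x + y, by rw [map_add, hx, hy, ← map_add]; rfl⟩
    | neg a _ ha =>
      obtain ⟨x, hx⟩ := ha
      exact ⟨-x, by rw [map_neg, hx, ← map_neg]; rfl⟩
    | mul a b _ _ ha hb =>
      obtain ⟨x, hx⟩ := ha; obtain ⟨y, hy⟩ := hb
      exact ⟨x * y, by rw [map_mul, hx, hy, ← map_mul]; rfl⟩
  have hπ0 : (⟨_, hmemU σ⟩ : R₀) ≠ 0 := fun h => hσ0 (congrArg Subtype.val h)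
  have hvn : ∀ x : R₀, ∃ y : R₀, x - x * x * y ∈ Ideal.span {(⟨_, hmemU σ⟩ : R₀)} := by
    intro x
    obtain ⟨Φ, -, hr⟩ := hgen _ (Ideal.Quotient.mk (Ideal.span {(⟨_, hmemU σ⟩ : R₀)}))
      (Ideal.Quotient.eq_zero_iff_mem.2 (Ideal.mem_span_singleton_self _))
    obtain ⟨y, hy⟩ := vn_of_mem_range Φ _ Ideal.Quotient.mk_surjective hr x
    exact ⟨y, by rwa [Ideal.mk_ker] at hy⟩
  have hcl : Subring.closure (Set.range ιU ∪ Set.range ιB) ≤ R₀ :=
    hR₀ ▸ Subring.closure_mono Set.subset_union_left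
  obtain ⟨hmax, hres⟩ := maximalIdeal_eq_span_of_fibre W R₀ ⟨_, hmemU σ⟩
    ((mem_maximalIdeal _).2 fun hu => (mem_maximalIdeal _).1 (hσ ▸ Ideal.mem_span_singleton_self σ)
      ((isUnit_map_iff ιU σ).1 hu)) hπ0 hvn fun x => by
    obtain ⟨r, s, hr, hs, hs0, hx⟩ := hfrac x
    exact ⟨⟨r, hcl hr⟩, ⟨s, hcl hs⟩, fun h => hs0 (congrArg Subtype.val h), hx⟩
  refine ⟨by rw [hσ, Ideal.map_span, Set.image_singleton, hmax], ?_⟩
  letI : Algebra (ResidueField U) (ResidueField W) := (ResidueField.map ιU).toAlgebra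
  obtain ⟨Φ, hΦU, hr⟩ := hgen (ResidueField W) ((residue W).comp R₀.subtype)
    ((residue_eq_zero_iff _).2 (hmax ▸ Ideal.mem_span_singleton_self _))
  refine geomReduced_of_surjective (T := AdjoinRoot (X ^ e - C t)) (ResidueField U)
    { Φ with commutes' := fun z => ?_ } fun z => ?_
  · obtain ⟨u, rfl⟩ := residue_surjective z
    exact hΦU u
  · obtain ⟨r, rfl⟩ := hres z
    exact hr r

variable {A K : Type u} [CommRing A] [IsDomain A] [IsDiscreteValuationRing A] [Field K] [Algebra A K]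
  [IsFractionRing A K]
  {B L : Type u} [CommRing B] [IsDomain B] [IsDiscreteValuationRing B] [Algebra A B]
  [IsLocalHom (algebraMap A B)] [Field L] [Algebra B L] [IsFractionRing B L]
  [Algebra K L] [Algebra A L] [IsScalarTower A K L] [IsScalarTower A B L]
  {K₁ : Type u} [Field K₁] [Algebra K K₁] [FiniteDimensional K K₁]
  {M : Type u} [Field M] [Algebra K M] [Algebra L M] [Algebra K₁ M] [IsScalarTower K L M] [IsScalarTower K K₁ M]

include K in
theorem abhyankar_core (hinj : Function.Injective (algebraMap A B))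
    (htame : CharZero (ResidueField A) ∨
      ∃ p : ℕ, p.Prime ∧ CharP (ResidueField A) p ∧
        ¬ p ∣ Ideal.ramificationIdx' (maximalIdeal A) (maximalIdeal B) ∧
        Algebra.IsGeometricallyReduced (ResidueField A) (ResidueField B))
    (hgen : Algebra.adjoin L (Set.range (algebraMap K₁ M)) = ⊤) (W : ValuationSubring M)
    (hW : EtRam.Dominates B ((algebraMap L M).comp (algebraMap B L)) W)
    (hA' : ∀ a : A, (algebraMap K K₁) (algebraMap A K a) ∈ W.comap (algebraMap K₁ M))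
    (hdvd : letI : Algebra A (W.comap (algebraMap K₁ M)) :=
        (RingHom.codRestrict ((algebraMap K K₁).comp (algebraMap A K)) (W.comap (algebraMap K₁ M)) hA').toAlgebra
      Ideal.ramificationIdx' (maximalIdeal A) (maximalIdeal B) ∣
        Ideal.ramificationIdx' (maximalIdeal A) (maximalIdeal (W.comap (algebraMap K₁ M)))) :
    (letI : Algebra (W.comap (algebraMap K₁ M)) W := (EtRam.inclOfComap W (algebraMap K₁ M)).toAlgebra
     EtRam.IsWeaklyUnramified (W.comap (algebraMap K₁ M)) W) ∧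
      @Algebra.IsGeometricallyReduced (ResidueField (W.comap (algebraMap K₁ M))) (ResidueField W) _ _
        (ResidueField.map (EtRam.inclOfComap W (algebraMap K₁ M))).toAlgebra := by
  haveI : FiniteDimensional L M := Module.Finite.of_surjective
    (prodHom (K := K) (L := L) (K₁ := K₁) (M := M)).toLinearMap (prodHom_surjective hgen)
  have e : ∀ a : A, ((algebraMap L M).comp (algebraMap B L)) (algebraMap A B a) =
      ((algebraMap K M).comp (algebraMap A K)) a := fun a => by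
    rw [RingHom.comp_apply, RingHom.comp_apply, ← IsScalarTower.algebraMap_apply A B L,
      IsScalarTower.algebraMap_apply A K L, ← IsScalarTower.algebraMap_apply K L M]
  have hWA : EtRam.Dominates A ((algebraMap K M).comp (algebraMap A K)) W :=
    ⟨fun a => e a ▸ hW.1 _, fun a ha => e a ▸ hW.2 _
      ((mem_maximalIdeal _).2 fun hu => (mem_maximalIdeal _).1 ha ((isUnit_map_iff _ a).1 hu))⟩
  have hU := dominates_comap (L := K₁) W hWA
  letI : Algebra A (W.comap (algebraMap K₁ M)) :=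
    (RingHom.codRestrict ((algebraMap K K₁).comp (algebraMap A K)) (W.comap (algebraMap K₁ M)) hU.1).toAlgebra
  letI : Algebra B W := (RingHom.codRestrict ((algebraMap L M).comp (algebraMap B L)) W hW.1).toAlgebra
  haveI hdvW := (isDVR_of_dominates_finite (A := B) (K := L) W hW).1
  haveI hdvU := (isDVR_of_dominates_finite (W.comap (algebraMap K₁ M)) hU).1
  haveI : IsLocalHom (algebraMap A (W.comap (algebraMap K₁ M))) := ⟨fun a ha => by
    by_contra hna
    exact (mem_maximalIdeal _).1 (((W.comap (algebraMap K₁ M)).valuation_lt_one_iff _).2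
      (hU.2 a ((mem_maximalIdeal a).2 hna))) ha⟩
  haveI : IsLocalHom (algebraMap B W) := ⟨fun a ha => by
    by_contra hna
    exact (mem_maximalIdeal _).1 ((W.valuation_lt_one_iff _).2 (hW.2 a ((mem_maximalIdeal a).2 hna))) ha⟩
  obtain ⟨π, hπ⟩ := IsDiscreteValuationRing.exists_irreducible A
  obtain ⟨ρ, hρ⟩ := IsDiscreteValuationRing.exists_irreducible B
  obtain ⟨σ, hσ⟩ := IsDiscreteValuationRing.exists_irreducible (W.comap (algebraMap K₁ M))
  have hπU : algebraMap A (W.comap (algebraMap K₁ M)) π ≠ 0 := fun h => hπ.ne_zero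
    (((algebraMap K K₁).injective.comp (IsFractionRing.injective A K)) (by
      simp only [Function.comp_apply, map_zero]; exact congrArg Subtype.val h))
  obtain ⟨eB, u, hu⟩ := IsDiscreteValuationRing.eq_unit_mul_pow_irreducible
    ((map_ne_zero_iff _ hinj).2 hπ.ne_zero) hρ
  obtain ⟨a, v, hv⟩ := IsDiscreteValuationRing.eq_unit_mul_pow_irreducible hπU hσ
  have hmapB : (maximalIdeal A).map (algebraMap A B) = maximalIdeal B ^ eB := by
    rw [hπ.maximalIdeal_eq, Ideal.map_span, Set.image_singleton, hu, hρ.maximalIdeal_eq, Ideal.span_singleton_pow,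
      Ideal.span_singleton_mul_left_unit u.isUnit]
  have hmapU : (maximalIdeal A).map (algebraMap A (W.comap (algebraMap K₁ M))) =
      maximalIdeal (W.comap (algebraMap K₁ M)) ^ a := by
    rw [hπ.maximalIdeal_eq, Ideal.map_span, Set.image_singleton, hv, hσ.maximalIdeal_eq, Ideal.span_singleton_pow,
      Ideal.span_singleton_mul_left_unit v.isUnit]
  have he0 : eB ≠ 0 := fun h => by
    rw [h, pow_zero, mul_one] at hu
    exact hπ.not_isUnit ((isUnit_map_iff (algebraMap A B) π).1 (hu ▸ u.isUnit))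
  have ha0 : a ≠ 0 := fun h => by
    rw [h, pow_zero, mul_one] at hv
    exact hπ.not_isUnit ((isUnit_map_iff (algebraMap A (W.comap (algebraMap K₁ M))) π).1 (hv ▸ v.isUnit))
  obtain ⟨c, hc⟩ : eB ∣ a := by
    rw [← ramificationIdx'_of_map_eq hmapB, ← ramificationIdx'_of_map_eq hmapU]
    exact hdvd
  rw [ramificationIdx'_of_map_eq hmapB] at htame
  subst hc
  have hc0 : 0 < c := Nat.pos_of_ne_zero fun h => ha0 (by rw [h, mul_zero])
  obtain ⟨heA, hgrB⟩ : (eB : ResidueField A) ≠ 0 ∧ Algebra.IsGeometricallyReduced (ResidueField A) (ResidueField B) := by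
    rcases htame with h0 | ⟨p, hp, hcp, hpe, hg⟩
    · exact ⟨Nat.cast_ne_zero.2 he0, GrpSchLib.isGeometricallyReduced_of_isReduced (k := ResidueField A) (ResidueField B)⟩
    · exact ⟨fun h => hpe ((CharP.cast_eq_zero_iff (ResidueField A) p _).1 h), hg⟩
  haveI := finite_residueField (W.comap (algebraMap K₁ M)) hU
  haveI := isArtinianRing_baseChange (ResidueField A) (ResidueField B) (ResidueField (W.comap (algebraMap K₁ M)))
  haveI := isGeometricallyReduced_baseChange (ResidueField A) (ResidueField B)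
    (ResidueField (W.comap (algebraMap K₁ M)))
  have heU : (eB : ResidueField (W.comap (algebraMap K₁ M))) ≠ 0 := by
    rw [← map_natCast (algebraMap (ResidueField A) (ResidueField (W.comap (algebraMap K₁ M))))]
    exact (_root_.map_ne_zero _).2 heA
  have hA : ∀ a, EtRam.inclOfComap W (algebraMap K₁ M) (algebraMap A (W.comap (algebraMap K₁ M)) a) =
      algebraMap B W (algebraMap A B a) := fun a =>
    Subtype.ext ((IsScalarTower.algebraMap_apply K K₁ M _).symm.trans (e a).symm)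
  have hσ0 : EtRam.inclOfComap W (algebraMap K₁ M) σ ≠ 0 := fun h => hσ.ne_zero (Subtype.ext
    ((algebraMap K₁ M).injective (by rw [ZeroMemClass.coe_zero, map_zero]; exact congrArg Subtype.val h)))
  -- `ρ / σ ^ c` is a unit of `W`
  obtain ⟨ξ, hξ, hξe⟩ : ∃ ξ : W, algebraMap B W ρ = EtRam.inclOfComap W (algebraMap K₁ M) σ ^ c * ξ ∧
      ξ ^ eB = EtRam.inclOfComap W (algebraMap K₁ M) v * algebraMap B W (↑u⁻¹ : B) := by
    have h : EtRam.inclOfComap W (algebraMap K₁ M) v * EtRam.inclOfComap W (algebraMap K₁ M) σ ^ (eB * c) =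
        algebraMap B W u * algebraMap B W ρ ^ eB := by
      rw [← map_pow, ← map_mul, ← hv, hA, hu, map_mul, map_pow]
    have hu' : algebraMap B W u * algebraMap B W (↑u⁻¹ : B) = 1 := by rw [← map_mul, Units.mul_inv, map_one]
    have hdiv : EtRam.inclOfComap W (algebraMap K₁ M) σ ^ c ∣ algebraMap B W ρ := by
      rw [← (IsIntegrallyClosed.pow_dvd_pow_iff he0), ← pow_mul, mul_comm c eB]
      exact ⟨EtRam.inclOfComap W (algebraMap K₁ M) v * algebraMap B W (↑u⁻¹ : B), by
        linear_combination (-algebraMap B W (↑u⁻¹ : B)) * h + (-(algebraMap B W ρ ^ eB)) * hu'⟩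
    obtain ⟨ξ, hξ⟩ := hdiv
    refine ⟨ξ, hξ, mul_left_cancel₀ (pow_ne_zero (eB * c) hσ0) ?_⟩
    rw [hξ, mul_pow, ← pow_mul, mul_comm c eB] at h
    linear_combination (-algebraMap B W (↑u⁻¹ : B)) * h + (-(EtRam.inclOfComap W (algebraMap K₁ M) σ ^ (eB * c) * ξ ^ eB)) * hu'
  refine abhyankar_fibre (A := A) (U := W.comap (algebraMap K₁ M)) W (EtRam.inclOfComap W (algebraMap K₁ M))
    (algebraMap B W) hA σ ρ hσ.maximalIdeal_eq hρ.maximalIdeal_eq hσ0 c eB hc0 heU ξ hξ v _ v.isUnit u⁻¹.isUnit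
    hξe fun x => ?_
  generalize hR₀ : Subring.closure (Set.range (EtRam.inclOfComap W (algebraMap K₁ M)) ∪ Set.range (algebraMap B W)) = R₀
  have hmemU : ∀ z, EtRam.inclOfComap W (algebraMap K₁ M) z ∈ R₀ := fun z =>
    hR₀ ▸ Subring.subset_closure (Or.inl ⟨z, rfl⟩)
  have hmemB : ∀ b, algebraMap B W b ∈ R₀ := fun b => hR₀ ▸ Subring.subset_closure (Or.inr ⟨b, rfl⟩)
  have hx : x ∈ Algebra.adjoin L (Set.range (algebraMap K₁ M)) := hgen ▸ Algebra.mem_top
  induction hx using Algebra.adjoin_induction with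
  | mem z hz =>
    obtain ⟨k, rfl⟩ := hz
    obtain ⟨p, q, hq, rfl⟩ := IsFractionRing.div_surjective (A := W.comap (algebraMap K₁ M)) k
    have hq0 : algebraMap K₁ M (q : K₁) ≠ 0 :=
      (_root_.map_ne_zero _).2 fun h => nonZeroDivisors.ne_zero hq (Subtype.ext h)
    refine ⟨_, _, hmemU p, hmemU q, fun h => hq0 (congrArg Subtype.val h), ?_⟩
    show algebraMap K₁ M ((p : K₁) / (q : K₁)) * algebraMap K₁ M (q : K₁) = algebraMap K₁ M (p : K₁)
    rw [map_div₀, div_mul_cancel₀ _ hq0]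
  | algebraMap l =>
    obtain ⟨p, q, hq, rfl⟩ := IsFractionRing.div_surjective (A := B) l
    have hq0 : algebraMap L M (algebraMap B L q) ≠ 0 :=
      (_root_.map_ne_zero _).2 (IsFractionRing.to_map_ne_zero_of_mem_nonZeroDivisors hq)
    refine ⟨_, _, hmemB p, hmemB q, fun h => hq0 (congrArg Subtype.val h), ?_⟩
    show algebraMap L M (_ / _) * algebraMap L M (algebraMap B L q) = algebraMap L M (algebraMap B L p)
    rw [map_div₀, div_mul_cancel₀ _ hq0]
  | add a b _ _ ha hb =>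
    obtain ⟨r₁, s₁, hr₁, hs₁, hn₁, h₁⟩ := ha; obtain ⟨r₂, s₂, hr₂, hs₂, hn₂, h₂⟩ := hb
    refine ⟨r₁ * s₂ + r₂ * s₁, s₁ * s₂, add_mem (mul_mem hr₁ hs₂) (mul_mem hr₂ hs₁), mul_mem hs₁ hs₂,
      mul_ne_zero hn₁ hn₂, ?_⟩
    push_cast
    linear_combination ((s₂ : W) : M) * h₁ + ((s₁ : W) : M) * h₂
  | mul a b _ _ ha hb =>
    obtain ⟨r₁, s₁, hr₁, hs₁, hn₁, h₁⟩ := ha; obtain ⟨r₂, s₂, hr₂, hs₂, hn₂, h₂⟩ := hb
    refine ⟨r₁ * r₂, s₁ * s₂, mul_mem hr₁ hr₂, mul_mem hs₁ hs₂, mul_ne_zero hn₁ hn₂, ?_⟩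
    push_cast
    linear_combination (b * ((s₂ : W) : M)) * h₁ + ((r₁ : W) : M) * h₂

end Groth.Agent.H1Ram
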