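import Groth.Agent.H1Ram.Tower
import Groth.Agent.KrullAki.Valuation

/-!
# Totally ramified extensions and weakly unramified base change
-/

set_option autoImplicit false

universe u

open IsLocalRing
open scoped TensorProduct

namespace Groth.Agent.H1Ram

variable {A K : Type u} [CommRing A] [IsDomain A] [IsDiscreteValuationRing A] [Field K] [Algebra A K]
  [IsFractionRing A K]

theorem finrank_le_of_totallyRamified (K₁ : Type u) [Field K₁] [Algebra K K₁] [FiniteDimensional K K₁]
    [Algebra.IsSeparable K K₁] (ht : EtRam.IsTotallyRamified A ((algebraMap K K₁).comp (algebraMap A K)))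
    (U : ValuationSubring K₁) (hU : EtRam.Dominates A ((algebraMap K K₁).comp (algebraMap A K)) U) :
    letI : Algebra A U := (RingHom.codRestrict ((algebraMap K K₁).comp (algebraMap A K)) U hU.1).toAlgebra
    ∀ e : ℕ, (maximalIdeal A).map (algebraMap A U) = maximalIdeal U ^ e → Module.finrank K K₁ ≤ e := by
  classical
  letI : Algebra A U := (RingHom.codRestrict ((algebraMap K K₁).comp (algebraMap A K)) U hU.1).toAlgebra
  letI : Algebra A K₁ := ((algebraMap K K₁).comp (algebraMap A K)).toAlgebra
  haveI : IsScalarTower A K K₁ := IsScalarTower.of_algebraMap_eq fun _ => rfl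
  haveI : IsScalarTower A U K₁ := IsScalarTower.of_algebraMap_eq fun _ => rfl
  intro e he
  haveI := isDVR_of_dominates U hU
  obtain ⟨π, hπ⟩ := IsDiscreteValuationRing.exists_irreducible A
  have hπm : π ∈ maximalIdeal A := hπ.maximalIdeal_eq ▸ Ideal.mem_span_singleton_self π
  have hint : ∀ x ∈ U, IsIntegral A x := by
    intro x hx
    have h : IsIntegral (algebraMap A K₁).range x := by
      refine KrullAki.isIntegral_of_forall_mem fun V hV => ?_
      have hVA : ∀ a : A, algebraMap A K₁ a ∈ V := fun a => hV ⟨a, rfl⟩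
      by_cases hdom : ∀ a ∈ maximalIdeal A, V.valuation (algebraMap A K₁ a) < 1
      · rw [ht.2.1 V U ⟨hVA, hdom⟩ hU]; exact hx
      · push Not at hdom
        obtain ⟨a, ha, hva⟩ := hdom
        obtain ⟨b, rfl⟩ := Ideal.mem_span_singleton'.1 (hπ.maximalIdeal_eq ▸ ha)
        have hvπ : (algebraMap A K₁ π)⁻¹ ∈ V := by
          rw [← V.valuation_le_one_iff, map_inv₀]
          refine inv_le_one_of_one_le₀ ?_
          rw [map_mul, map_mul] at hva
          exact hva.trans (mul_le_of_le_one_left' ((V.valuation_le_one_iff _).2 (hVA b)))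
        have hK : ∀ z : K, algebraMap K K₁ z ∈ V := by
          intro z
          obtain ⟨p, q, hq, rfl⟩ := IsFractionRing.div_surjective (A := A) z
          obtain ⟨j, u, rfl⟩ := IsDiscreteValuationRing.eq_unit_mul_pow_irreducible (nonZeroDivisors.ne_zero hq) hπ
          rw [map_div₀, ← IsScalarTower.algebraMap_apply, ← IsScalarTower.algebraMap_apply, div_eq_mul_inv,
            map_mul, map_pow, mul_inv, ← inv_pow, ← map_units_inv]
          exact mul_mem (hVA p) (mul_mem (hVA _) (pow_mem hvπ j))
        let ιK : K →+* V := (algebraMap K K₁).codRestrict V hK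
        letI : Algebra K V := ιK.toAlgebra
        haveI : IsScalarTower K V K₁ := IsScalarTower.of_algebraMap_eq fun _ => rfl
        obtain ⟨y, hy⟩ := IsIntegrallyClosed.isIntegral_iff.1
          ((Algebra.IsIntegral.isIntegral (R := K) x).tower_top (A := V))
        exact hy ▸ y.2
    obtain ⟨p, hp, hpx⟩ := h
    let s : (algebraMap A K₁).range → A := fun y => y.2.choose
    have hmap : ∀ y, algebraMap A K₁ (s y) = y := fun y => y.2.choose_spec
    have hlift : p ∈ Polynomial.lifts (algebraMap A K₁).rangeRestrict :=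
      (Polynomial.lifts_iff_coeff_lifts p).2 fun n => RingHom.rangeRestrict_surjective _ _
    obtain ⟨q, hq, -, hqm⟩ := Polynomial.lifts_and_degree_eq_and_monic hlift hp
    refine ⟨q, hqm, ?_⟩
    rw [← hpx, ← hq, Polynomial.eval₂_map]
    rfl
  haveI hfinC : Module.Finite A (integralClosure A K₁) := IsIntegralClosure.finite A K K₁ _
  haveI : Module.Finite A U := by
    have hmem : ∀ c : integralClosure A K₁, (c : K₁) ∈ U := fun c => by
      obtain ⟨y, hy⟩ := IsIntegrallyClosed.isIntegral_iff.1 (c.2.tower_top (A := U))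
      exact hy ▸ y.2
    let f : integralClosure A K₁ →ₗ[A] U :=
      { toFun := fun c => ⟨(c : K₁), hmem c⟩
        map_add' := fun _ _ => rfl
        map_smul' := fun a c => Subtype.ext (by
          show ((a • c : integralClosure A K₁) : K₁) = ((algebraMap A U a * ⟨(c : K₁), hmem c⟩ : U) : K₁)
          rw [Subalgebra.coe_smul, Algebra.smul_def]; rfl) }
    exact Module.Finite.of_surjective f fun u => ⟨⟨(u : K₁), hint _ u.2⟩, rfl⟩
  obtain ⟨ρ, hρ⟩ := IsDiscreteValuationRing.exists_irreducible U
  have hsplit : ∀ u : U, ∃ (a : A) (v : U), u = algebraMap A U a + ρ * v := by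
    intro u
    obtain ⟨a, ha⟩ := ht.2.2 U hU (residue U u)
    have hmem : u - algebraMap A U a ∈ maximalIdeal U := by
      rw [← residue_eq_zero_iff, map_sub, sub_eq_zero]; exact ha.symm
    rw [hρ.maximalIdeal_eq, Ideal.mem_span_singleton'] at hmem
    obtain ⟨v, hv⟩ := hmem
    exact ⟨a, v, by rw [mul_comm, hv]; ring⟩
  let S : Submodule A U := Submodule.span A (Set.range fun i : Fin e => ρ ^ (i : ℕ))
  have hind : ∀ m ≤ e, ∀ u : U, ∃ z ∈ S, ρ ^ m ∣ u - z := by
    intro m
    induction m with
    | zero => exact fun _ u => ⟨0, zero_mem _, by simp⟩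
    | succ m ih =>
      intro hm u
      obtain ⟨z, hz, w, hw⟩ := ih (by omega) u
      obtain ⟨a, v, hv⟩ := hsplit w
      refine ⟨z + a • ρ ^ m, add_mem hz (S.smul_mem a (Submodule.subset_span ⟨⟨m, by omega⟩, rfl⟩)), v, ?_⟩
      rw [sub_add_eq_sub_sub, hw, hv, Algebra.smul_def]; ring
  have htop : (⊤ : Submodule A U) ≤ S := by
    refine Submodule.le_of_le_smul_of_le_jacobson_bot Module.Finite.fg_top (maximalIdeal_le_jacobson ⊥) ?_
    rintro u -
    obtain ⟨z, hz, w, hw⟩ := hind e le_rfl u
    have hmem : ρ ^ e * w ∈ (maximalIdeal A).map (algebraMap A U) := by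
      rw [he, hρ.maximalIdeal_eq, Ideal.span_singleton_pow]
      exact Ideal.mul_mem_right _ _ (Ideal.mem_span_singleton_self _)
    have h2 : u - z ∈ maximalIdeal A • (⊤ : Submodule A U) := by
      rw [Ideal.smul_top_eq_map, hw]; exact hmem
    rw [← sub_add_cancel u z]
    exact add_mem (Submodule.mem_sup_right h2) (Submodule.mem_sup_left hz)
  have hspan : Submodule.span K (Set.range fun i : Fin e => ((ρ : K₁)) ^ (i : ℕ)) = ⊤ := by
    rw [eq_top_iff]
    rintro x -
    haveI : Algebra.IsAlgebraic A K₁ := (IsFractionRing.comap_isAlgebraic_iff (A := A) (K := K) (C := K₁)).2 inferInstance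
    obtain ⟨y, hy0, hy⟩ := (Algebra.IsAlgebraic.isAlgebraic (R := A) x).exists_integral_multiple
    obtain ⟨z, hz⟩ := IsIntegrallyClosed.isIntegral_iff.1 (hy.tower_top (A := U))
    have hzS : z ∈ S := htop trivial
    have h3 : (z : K₁) ∈ Submodule.span K (Set.range fun i : Fin e => ((ρ : K₁)) ^ (i : ℕ)) := by
      have h4 : (IsScalarTower.toAlgHom A U K₁).toLinearMap z ∈ S.map (IsScalarTower.toAlgHom A U K₁).toLinearMap :=
        ⟨z, hzS, rfl⟩
      rw [Submodule.map_span, ← Set.range_comp] at h4
      refine Submodule.span_le_restrictScalars A K _ ?_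
      exact h4
    have hy' : algebraMap A K y ≠ 0 := (map_ne_zero_iff _ (IsFractionRing.injective A K)).2 hy0
    have : x = (algebraMap A K y)⁻¹ • (z : K₁) := by
      rw [show (z : K₁) = y • x from hz, ← algebraMap_smul K y x, smul_smul, inv_mul_cancel₀ hy', one_smul]
    rw [this]
    exact Submodule.smul_mem _ _ h3
  have := (finrank_range_le_card (R := K) (b := fun i : Fin e => ((ρ : K₁)) ^ (i : ℕ)))
  rw [Set.finrank, hspan, finrank_top, Fintype.card_fin] at this
  exact this

/-- The ramification index is at most the degree. -/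
theorem exponent_le_finrank (L : Type u) [Field L] [Algebra K L] [FiniteDimensional K L] [Algebra.IsSeparable K L]
    (V : ValuationSubring L) (hV : EtRam.Dominates A ((algebraMap K L).comp (algebraMap A K)) V) :
    letI : Algebra A V := (RingHom.codRestrict ((algebraMap K L).comp (algebraMap A K)) V hV.1).toAlgebra
    ∀ e : ℕ, (maximalIdeal A).map (algebraMap A V) = maximalIdeal V ^ e → e ≤ Module.finrank K L := by
  classical
  letI : Algebra A V := (RingHom.codRestrict ((algebraMap K L).comp (algebraMap A K)) V hV.1).toAlgebra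
  letI : Algebra A L := ((algebraMap K L).comp (algebraMap A K)).toAlgebra
  haveI : IsScalarTower A K L := IsScalarTower.of_algebraMap_eq fun _ => rfl
  haveI : IsScalarTower A V L := IsScalarTower.of_algebraMap_eq fun _ => rfl
  intro e he
  haveI := isDVR_of_dominates V hV
  haveI : IsLocalHom (algebraMap A V) := ⟨fun a ha => by
    by_contra hna
    exact (mem_maximalIdeal _).1 ((V.valuation_lt_one_iff _).2 (hV.2 a ((mem_maximalIdeal a).2 hna))) ha⟩
  obtain ⟨ρ, hρ⟩ := IsDiscreteValuationRing.exists_irreducible V
  have hli : LinearIndependent A (fun i : Fin e => ((ρ : L)) ^ (i : ℕ)) := by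
    rw [Fintype.linearIndependent_iff]
    intro c hc
    have hzero : ∑ i, algebraMap A V (c i) * ρ ^ (i : ℕ) = 0 := by
      refine Subtype.ext ?_
      rw [AddSubmonoidClass.coe_finsetSum]
      refine (Finset.sum_congr rfl fun i _ => ?_).trans hc
      rw [Algebra.smul_def]; rfl
    have hm : ∀ (j : ℕ) (i : Fin e), c i ∈ maximalIdeal A ^ j := by
      intro j
      induction j with
      | zero => simp
      | succ j ih =>
        obtain ⟨π, hπ⟩ := IsDiscreteValuationRing.exists_irreducible A
        have ih' : ∀ i, ∃ d, c i = π ^ j * d := fun i => by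
          have := ih i
          rwa [hπ.maximalIdeal_eq, Ideal.span_singleton_pow, Ideal.mem_span_singleton] at this
        choose d hd using ih'
        have hd0 : ∑ i, algebraMap A V (d i) * ρ ^ (i : ℕ) = 0 := by
          have h1 : algebraMap A V π ^ j * ∑ i, algebraMap A V (d i) * ρ ^ (i : ℕ) = 0 := by
            rw [Finset.mul_sum, ← hzero]
            refine Finset.sum_congr rfl fun i _ => ?_
            rw [hd i, map_mul, map_pow]; ring
          refine (mul_eq_zero.1 h1).resolve_left (pow_ne_zero _ fun h => hπ.ne_zero ?_)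
          refine (((algebraMap K L).injective.comp (IsFractionRing.injective A K))) ?_
          simp only [Function.comp_apply, map_zero]
          exact congrArg Subtype.val h
        have hdm : ∀ (l : ℕ) (i : Fin e), (i : ℕ) < l → d i ∈ maximalIdeal A := by
          intro l
          induction l with
          | zero => intro i hi; omega
          | succ l ihl =>
            intro i hi
            rcases Nat.lt_succ_iff_lt_or_eq.1 hi with h | h
            · exact ihl i h
            by_contra hu
            have hunit : IsUnit (algebraMap A V (d i)) := (IsLocalRing.notMem_maximalIdeal.1 hu).map _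
            have hrest : ∀ i' ∈ Finset.univ, i' ≠ i → ρ ^ ((i : ℕ) + 1) ∣ algebraMap A V (d i') * ρ ^ (i' : ℕ) := by
              intro i' _ hne
              rcases lt_trichotomy (i' : ℕ) (i : ℕ) with h' | h' | h'
              · refine dvd_mul_of_dvd_left ((pow_dvd_pow ρ (show (i : ℕ) + 1 ≤ e by omega)).trans ?_) _
                rw [← Ideal.mem_span_singleton, ← Ideal.span_singleton_pow, ← hρ.maximalIdeal_eq, ← he]
                exact Ideal.mem_map_of_mem _ (ihl i' (by omega))
              · exact absurd (Fin.ext h') hne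
              · exact dvd_mul_of_dvd_right (pow_dvd_pow ρ h') _
            have hsum := Finset.dvd_sum (s := Finset.univ.erase i) fun i' hi' =>
              hrest i' (Finset.mem_univ _) (Finset.ne_of_mem_erase hi')
            rw [← Finset.add_sum_erase _ _ (Finset.mem_univ i)] at hd0
            rw [eq_neg_of_add_eq_zero_right hd0, dvd_neg, pow_succ,
              mul_comm (algebraMap A V (d i))] at hsum
            exact hρ.not_isUnit (isUnit_of_dvd_unit ((mul_dvd_mul_iff_left (pow_ne_zero _ hρ.ne_zero)).1 hsum) hunit)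
        intro i
        rw [hd i, pow_succ]
        exact Ideal.mul_mem_mul (Ideal.pow_mem_pow (hπ.maximalIdeal_eq ▸ Ideal.mem_span_singleton_self π) j)
          (hdm e i i.isLt)
    intro i
    have : c i ∈ ⨅ j, maximalIdeal A ^ j := (Submodule.mem_iInf _).2 fun j => hm j i
    rwa [Ideal.iInf_pow_eq_bot_of_isLocalRing _ (maximalIdeal.isMaximal A).ne_top, Ideal.mem_bot] at this
  have := ((LinearIndependent.iff_fractionRing A K).1 hli).fintype_card_le_finrank
  rwa [Fintype.card_fin] at this

variable {B L : Type u} [CommRing B] [IsDomain B] [IsDiscreteValuationRing B] [Algebra A B]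
  [IsLocalHom (algebraMap A B)] [Field L] [Algebra B L] [IsFractionRing B L]
  [Algebra K L] [Algebra A L] [IsScalarTower A K L] [IsScalarTower A B L]
  {K₁ : Type u} [Field K₁] [Algebra K K₁] [FiniteDimensional K K₁] [Algebra.IsSeparable K K₁]
  {M : Type u} [Field M] [Algebra K M] [Algebra L M] [Algebra K₁ M] [IsScalarTower K L M] [IsScalarTower K K₁ M]

/-- The canonical map `L ⊗ K₁ → M`. -/
noncomputable def prodHom : TensorProduct K L K₁ →ₐ[L] M :=
  Algebra.TensorProduct.lift (Algebra.ofId L M) (IsScalarTower.toAlgHom K K₁ M) fun _ _ => Commute.all _ _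

omit [FiniteDimensional K K₁] [Algebra.IsSeparable K K₁] in
theorem prodHom_surjective (hgen : Algebra.adjoin L (Set.range (algebraMap K₁ M)) = ⊤) :
    Function.Surjective (prodHom (K := K) (L := L) (K₁ := K₁) (M := M)) := by
  rw [← AlgHom.range_eq_top, eq_top_iff, ← hgen]
  refine Algebra.adjoin_le ?_
  rintro _ ⟨x, rfl⟩
  exact ⟨1 ⊗ₜ x, by simp [prodHom]⟩

theorem isSeparable_of_gen (F : Type u) {F₁ E N : Type u} [Field F] [Field F₁] [Field E] [Field N]
    [Algebra F F₁] [Algebra.IsSeparable F F₁] [Algebra F E] [Algebra F N] [Algebra E N] [Algebra F₁ N]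
    [IsScalarTower F E N] [IsScalarTower F F₁ N]
    (hgen : Algebra.adjoin E (Set.range (algebraMap F₁ N)) = ⊤) :
    Algebra.IsSeparable E N := by
  rw [← separableClosure.eq_top_iff, eq_top_iff]
  intro x _
  have h : Algebra.adjoin E (Set.range (algebraMap F₁ N)) ≤ (separableClosure E N).toSubalgebra := by
    refine Algebra.adjoin_le ?_
    rintro _ ⟨y, rfl⟩
    exact mem_separableClosure_iff.2
      ((IsSeparable.tower_top E (IsSeparable.map (IsScalarTower.toAlgHom F F₁ N) (IsScalarTower.toAlgHom F F₁ N).injective (Algebra.IsSeparable.isSeparable F y))))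
  exact h (hgen ▸ Algebra.mem_top)

theorem weakSolution_core
    (hw : EtRam.IsWeaklyUnramified A B)
    (ht : EtRam.IsTotallyRamified A ((algebraMap K K₁).comp (algebraMap A K)))
    (hgen : Algebra.adjoin L (Set.range (algebraMap K₁ M)) = ⊤) (W : ValuationSubring M)
    (hW : EtRam.Dominates B ((algebraMap L M).comp (algebraMap B L)) W) :
    (letI : Algebra (W.comap (algebraMap K₁ M)) W := (EtRam.inclOfComap W (algebraMap K₁ M)).toAlgebra
     EtRam.IsWeaklyUnramified (W.comap (algebraMap K₁ M)) W) ∧
      Module.finrank K K₁ ≤ Module.finrank L M := by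
  haveI : Algebra.IsSeparable L M := isSeparable_of_gen K hgen
  haveI : FiniteDimensional L M := Module.Finite.of_surjective
    (prodHom (K := K) (L := L) (K₁ := K₁) (M := M)).toLinearMap (prodHom_surjective hgen)
  have hle : Module.finrank L M ≤ Module.finrank K K₁ := by
    rw [← Module.finrank_baseChange (R := L) (S := K)]
    have := LinearMap.finrank_range_le (prodHom (K := K) (L := L) (K₁ := K₁) (M := M)).toLinearMap
    rwa [(LinearMap.range_eq_top (f := (prodHom (K := K) (L := L) (K₁ := K₁) (M := M)).toLinearMap)).2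
      (prodHom_surjective hgen), finrank_top] at this
  have e : ∀ a : A, ((algebraMap L M).comp (algebraMap B L)) (algebraMap A B a) =
      ((algebraMap K M).comp (algebraMap A K)) a := fun a => by
    rw [RingHom.comp_apply, RingHom.comp_apply, ← IsScalarTower.algebraMap_apply A B L,
      IsScalarTower.algebraMap_apply A K L, ← IsScalarTower.algebraMap_apply K L M]
  have hWA : EtRam.Dominates A ((algebraMap K M).comp (algebraMap A K)) W :=
    ⟨fun a => e a ▸ hW.1 _, fun a ha => e a ▸ hW.2 _
      ((mem_maximalIdeal _).2 fun hu => (mem_maximalIdeal _).1 ha ((isUnit_map_iff _ a).1 hu))⟩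
  have hU := dominates_comap (L := K₁) W hWA
  letI : Algebra A (W.comap (algebraMap K₁ M)) :=
    (RingHom.codRestrict ((algebraMap K K₁).comp (algebraMap A K)) (W.comap (algebraMap K₁ M)) hU.1).toAlgebra
  letI : Algebra B W := (RingHom.codRestrict ((algebraMap L M).comp (algebraMap B L)) W hW.1).toAlgebra
  haveI hdvW := isDVR_of_dominates (A := B) (K := L) W hW
  haveI hdvU := isDVR_of_dominates (W.comap (algebraMap K₁ M)) hU
  obtain ⟨eU, heU0, heU⟩ := map_maximalIdeal_eq_pow (W.comap (algebraMap K₁ M)) hU
  obtain ⟨eW, -, heW⟩ := map_maximalIdeal_eq_pow (A := B) (K := L) W hW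
  have h1 := finrank_le_of_totallyRamified K₁ ht _ hU eU heU
  have h2 := exponent_le_finrank (A := B) (K := L) M W hW eW heW
  obtain ⟨π, hπ⟩ := IsDiscreteValuationRing.exists_irreducible (W.comap (algebraMap K₁ M))
  obtain ⟨b, hb, hπb⟩ := exists_pow_eq (x := EtRam.inclOfComap W (algebraMap K₁ M) π)
    (fun h => hπ.ne_zero (Subtype.ext ((algebraMap K₁ M).injective (by
      rw [ZeroMemClass.coe_zero, map_zero]
      exact congrArg Subtype.val h))))
    ((mem_maximalIdeal _).2 fun hu => hπ.not_isUnit ((isUnit_map_iff _ π).1 hu))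
  have hmb : (maximalIdeal (W.comap (algebraMap K₁ M))).map (EtRam.inclOfComap W (algebraMap K₁ M)) =
      maximalIdeal W ^ b := by
    rw [hπ.maximalIdeal_eq, Ideal.map_span, Set.image_singleton, hπb]
  have hcomp : (EtRam.inclOfComap W (algebraMap K₁ M)).comp (algebraMap A (W.comap (algebraMap K₁ M))) =
      (algebraMap B W).comp (algebraMap A B) :=
    RingHom.ext fun a => Subtype.ext ((IsScalarTower.algebraMap_apply K K₁ M _).symm.trans (e a).symm)
  have h3 : maximalIdeal W ^ eW = maximalIdeal W ^ (b * eU) := by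
    rw [pow_mul, ← hmb, ← Ideal.map_pow, ← heU, Ideal.map_map, hcomp, ← Ideal.map_map]
    rw [EtRam.IsWeaklyUnramified] at hw
    rw [hw, heW]
  have h4 : eW = b * eU := (Ideal.pow_right_strictAnti (maximalIdeal W) (IsDiscreteValuationRing.not_a_field W)
      (maximalIdeal.isMaximal W).ne_top).injective h3
  have hb1 : b = 1 := by
    rcases Nat.lt_or_ge 1 b with h | h
    · have : 2 * eU ≤ b * eU := Nat.mul_le_mul_right _ h
      omega
    · omega
  refine ⟨?_, by rw [hb1, one_mul] at h4; omega⟩
  show Ideal.map _ _ = _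
  rw [show maximalIdeal W = maximalIdeal W ^ b by rw [hb1, pow_one]]
  exact hmb

end Groth.Agent.H1Ram
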