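import Groth.Prelude.Def_EtRam
import Groth.Agent.TameEt.EssFin
import Groth.Agent.Rat20Lib.DVRDom
import Groth.Agent.AlgSpVal.ValExtend

/-!
# Ramification in towers of valuation subrings over a discrete valuation ring
-/

set_option autoImplicit false

universe u

open IsLocalRing

namespace Groth.Agent.H1Ram

theorem exists_pow_eq {V : Type u} [CommRing V] [IsDomain V] [IsDiscreteValuationRing V] {x : V}
    (hx0 : x ≠ 0) (hx : x ∈ maximalIdeal V) : ∃ n, 0 < n ∧ Ideal.span {x} = maximalIdeal V ^ n := by
  obtain ⟨π, hπ⟩ := IsDiscreteValuationRing.exists_irreducible V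
  obtain ⟨n, u, rfl⟩ := IsDiscreteValuationRing.eq_unit_mul_pow_irreducible hx0 hπ
  refine ⟨n, Nat.pos_of_ne_zero fun h => ?_, ?_⟩
  · rw [h, pow_zero, mul_one] at hx
    exact (mem_maximalIdeal _).1 hx u.isUnit
  · rw [hπ.maximalIdeal_eq, Ideal.span_singleton_pow, Ideal.span_singleton_mul_left_unit u.isUnit]

/-- The ramification index is the exponent. -/
theorem ramificationIdx'_of_map_eq {A V : Type u} [CommRing A] [IsLocalRing A] [CommRing V] [IsDomain V]
    [IsDiscreteValuationRing V] [Algebra A V] {n : ℕ}
    (h : (maximalIdeal A).map (algebraMap A V) = maximalIdeal V ^ n) :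
    Ideal.ramificationIdx' (maximalIdeal A) (maximalIdeal V) = n := by
  refine Ideal.ramificationIdx'_spec h.le fun hle => ?_
  have := lt_irrefl (maximalIdeal V ^ n) (lt_of_le_of_lt (h ▸ hle)
    (Ideal.pow_right_strictAnti (maximalIdeal V) (IsDiscreteValuationRing.not_a_field V)
      (maximalIdeal.isMaximal V).ne_top (Nat.lt_succ_self n)))
  exact this

variable {A K : Type u} [CommRing A] [IsDomain A] [IsDiscreteValuationRing A] [Field K] [Algebra A K]
  [IsFractionRing A K]

theorem isDVR_of_dominates {L : Type u} [Field L] [Algebra K L] [FiniteDimensional K L]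
    [Algebra.IsSeparable K L] (V : ValuationSubring L)
    (hV : EtRam.Dominates A ((algebraMap K L).comp (algebraMap A K)) V) : IsDiscreteValuationRing V := by
  letI : Algebra A V := (RingHom.codRestrict ((algebraMap K L).comp (algebraMap A K)) V hV.1).toAlgebra
  haveI : Algebra.EssFiniteType A V := TameEt.essFiniteType_of_dominates A K _ rfl V hV
  haveI : IsNoetherianRing V := Algebra.EssFiniteType.isNoetherianRing A V
  obtain ⟨π, hπ⟩ := IsDiscreteValuationRing.exists_irreducible A
  have hlt := hV.2 π (hπ.maximalIdeal_eq ▸ Ideal.mem_span_singleton_self π)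
  have hne : ((algebraMap K L).comp (algebraMap A K)) π ≠ 0 :=
    fun h => hπ.ne_zero (((algebraMap K L).injective.comp (IsFractionRing.injective A K)) (by simp only [Function.comp_apply, map_zero]; exact h))
  refine Rat20Lib.isDVR_of_isNoetherianRing V (x := (((algebraMap K L).comp (algebraMap A K)) π)⁻¹) fun hmem => ?_
  have h1 := (V.valuation_le_one_iff _).2 hmem
  rw [map_inv₀, inv_le_one₀ (zero_lt_iff.2 ((V.valuation).ne_zero_iff.2 hne))] at h1
  exact absurd hlt (not_lt.2 h1)

theorem map_maximalIdeal_eq_pow {L : Type u} [Field L] [Algebra K L] [FiniteDimensional K L]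
    [Algebra.IsSeparable K L] (V : ValuationSubring L)
    (hV : EtRam.Dominates A ((algebraMap K L).comp (algebraMap A K)) V) :
    letI : Algebra A V := (RingHom.codRestrict ((algebraMap K L).comp (algebraMap A K)) V hV.1).toAlgebra
    ∃ n, 0 < n ∧ (maximalIdeal A).map (algebraMap A V) = maximalIdeal V ^ n := by
  letI : Algebra A V := (RingHom.codRestrict ((algebraMap K L).comp (algebraMap A K)) V hV.1).toAlgebra
  haveI := isDVR_of_dominates V hV
  obtain ⟨π, hπ⟩ := IsDiscreteValuationRing.exists_irreducible A
  have hlt := hV.2 π (hπ.maximalIdeal_eq ▸ Ideal.mem_span_singleton_self π)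
  obtain ⟨n, hn, hn'⟩ := exists_pow_eq (x := algebraMap A V π) (fun h => hπ.ne_zero
    (((algebraMap K L).injective.comp (IsFractionRing.injective A K)) (by
      simp only [Function.comp_apply, map_zero]
      exact congrArg Subtype.val h))) ((V.valuation_lt_one_iff _).2 hlt)
  exact ⟨n, hn, (congrArg (Ideal.map (algebraMap A V)) hπ.maximalIdeal_eq).trans
    (by rw [Ideal.map_span, Set.image_singleton, hn'])⟩

variable {L M : Type u} [Field L] [Field M] [Algebra K L] [Algebra K M] [Algebra L M] [IsScalarTower K L M]
  [FiniteDimensional K M] [Algebra.IsSeparable K M]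

omit [IsDomain A] [IsDiscreteValuationRing A] [IsFractionRing A K] [FiniteDimensional K M] [Algebra.IsSeparable K M] in
theorem dominates_comap [IsLocalRing A] (W : ValuationSubring M)
    (hW : EtRam.Dominates A ((algebraMap K M).comp (algebraMap A K)) W) :
    EtRam.Dominates A ((algebraMap K L).comp (algebraMap A K)) (W.comap (algebraMap L M)) := by
  have e : ∀ a, algebraMap L M (((algebraMap K L).comp (algebraMap A K)) a) =
      ((algebraMap K M).comp (algebraMap A K)) a := fun a =>
    (IsScalarTower.algebraMap_apply K L M _).symm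
  refine ⟨fun a => ?_, fun a ha => ?_⟩
  · rw [ValuationSubring.mem_comap, e]; exact hW.1 a
  · have hmem : ((algebraMap K L).comp (algebraMap A K)) a ∈ W.comap (algebraMap L M) := by
      rw [ValuationSubring.mem_comap, e]; exact hW.1 a
    refine ((W.comap (algebraMap L M)).valuation_lt_one_iff ⟨_, hmem⟩).1 ((mem_maximalIdeal _).2 fun hu => ?_)
    have h1 := hu.map (EtRam.inclOfComap W (algebraMap L M))
    have h2 : ((EtRam.inclOfComap W (algebraMap L M) ⟨_, hmem⟩ : W) : M) =
        ((algebraMap K M).comp (algebraMap A K)) a := e a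
    have h3 := (W.valuation_lt_one_iff (EtRam.inclOfComap W (algebraMap L M) ⟨_, hmem⟩)).2 (by rw [h2]; exact hW.2 a ha)
    exact (mem_maximalIdeal _).1 h3 h1

omit [IsDomain A] [IsDiscreteValuationRing A] [IsFractionRing A K] [FiniteDimensional K M] [Algebra.IsSeparable K M] in
theorem dominates_subtype (W : ValuationSubring M) :
    EtRam.Dominates (W.comap (algebraMap L M)) ((algebraMap L M).comp (W.comap (algebraMap L M)).subtype) W := by
  refine ⟨fun a => a.2, fun a ha => ?_⟩
  exact (W.valuation_lt_one_iff (EtRam.inclOfComap W (algebraMap L M) a)).1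
    ((mem_maximalIdeal _).2 fun hu => (mem_maximalIdeal _).1 ha ((isUnit_map_iff _ a).1 hu))

/-- The package of facts about the tower `A → W ∩ L → W`. -/
theorem tower (W : ValuationSubring M)
    (hW : EtRam.Dominates A ((algebraMap K M).comp (algebraMap A K)) W)
    (hV : EtRam.Dominates A ((algebraMap K L).comp (algebraMap A K)) (W.comap (algebraMap L M))) :
    letI : Algebra A W := (RingHom.codRestrict ((algebraMap K M).comp (algebraMap A K)) W hW.1).toAlgebra
    letI : Algebra A (W.comap (algebraMap L M)) :=
      (RingHom.codRestrict ((algebraMap K L).comp (algebraMap A K)) (W.comap (algebraMap L M)) hV.1).toAlgebra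
    letI : Algebra (W.comap (algebraMap L M)) W :=
      (RingHom.codRestrict ((algebraMap L M).comp (W.comap (algebraMap L M)).subtype) W
        (dominates_subtype (L := L) W).1).toAlgebra
    ∀ [IsLocalHom (algebraMap A W)] [IsLocalHom (algebraMap A (W.comap (algebraMap L M)))]
      [IsLocalHom (algebraMap (W.comap (algebraMap L M)) W)],
      IsScalarTower (ResidueField A) (ResidueField (W.comap (algebraMap L M))) (ResidueField W) ∧
      ∃ a b : ℕ, 0 < a ∧ 0 < b ∧
        Ideal.ramificationIdx' (maximalIdeal A) (maximalIdeal (W.comap (algebraMap L M))) = a ∧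
        Ideal.ramificationIdx' (maximalIdeal (W.comap (algebraMap L M))) (maximalIdeal W) = b ∧
        Ideal.ramificationIdx' (maximalIdeal A) (maximalIdeal W) = a * b ∧
        (EtRam.IsWeaklyUnramified A (W.comap (algebraMap L M)) ↔ a = 1) ∧
        (EtRam.IsWeaklyUnramified (W.comap (algebraMap L M)) W ↔ b = 1) ∧
        (EtRam.IsWeaklyUnramified A W ↔ a * b = 1) := by
  letI : Algebra A W := (RingHom.codRestrict ((algebraMap K M).comp (algebraMap A K)) W hW.1).toAlgebra
  letI : Algebra A (W.comap (algebraMap L M)) :=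
    (RingHom.codRestrict ((algebraMap K L).comp (algebraMap A K)) (W.comap (algebraMap L M)) hV.1).toAlgebra
  letI : Algebra (W.comap (algebraMap L M)) W :=
    (RingHom.codRestrict ((algebraMap L M).comp (W.comap (algebraMap L M)).subtype) W
      (dominates_subtype (L := L) W).1).toAlgebra
  intro _ _ _
  haveI : FiniteDimensional K L :=
    FiniteDimensional.of_injective (IsScalarTower.toAlgHom K L M).toLinearMap (algebraMap L M).injective
  haveI : Algebra.IsSeparable K L := Algebra.isSeparable_tower_bot_of_isSeparable K L M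
  have hcomp : ∀ a : A, algebraMap (W.comap (algebraMap L M)) W (algebraMap A (W.comap (algebraMap L M)) a) =
      algebraMap A W a := fun a => Subtype.ext (IsScalarTower.algebraMap_apply K L M _).symm
  refine ⟨IsScalarTower.of_algebraMap_eq fun x => ?_, ?_⟩
  · obtain ⟨a, rfl⟩ := residue_surjective x
    show residue W (algebraMap A W a) = residue W (algebraMap (W.comap (algebraMap L M)) W (algebraMap A _ a))
    rw [hcomp]
  haveI hdvW := isDVR_of_dominates W hW
  haveI hdvV := isDVR_of_dominates (W.comap (algebraMap L M)) hV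
  obtain ⟨a, ha, hma⟩ := map_maximalIdeal_eq_pow (W.comap (algebraMap L M)) hV
  obtain ⟨π, hπ⟩ := IsDiscreteValuationRing.exists_irreducible (W.comap (algebraMap L M))
  obtain ⟨b, hb, hπb⟩ := exists_pow_eq (x := algebraMap (W.comap (algebraMap L M)) W π)
    (fun h => hπ.ne_zero (Subtype.ext ((algebraMap L M).injective (by
      rw [ZeroMemClass.coe_zero, map_zero]
      exact congrArg Subtype.val h))))
    ((mem_maximalIdeal _).2 fun hu => hπ.not_isUnit ((isUnit_map_iff _ π).1 hu))
  have hmb : (maximalIdeal (W.comap (algebraMap L M))).map (algebraMap _ W) = maximalIdeal W ^ b := by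
    rw [hπ.maximalIdeal_eq, Ideal.map_span, Set.image_singleton, hπb]
  have hmab : (maximalIdeal A).map (algebraMap A W) = maximalIdeal W ^ (a * b) := by
    rw [show algebraMap A W = (algebraMap (W.comap (algebraMap L M)) W).comp (algebraMap A _) from
      RingHom.ext fun x => (hcomp x).symm, ← Ideal.map_map, hma, Ideal.map_pow, hmb, ← pow_mul, mul_comm]
  have hiff : ∀ (R : Type u) [CommRing R] [IsDomain R] [IsDiscreteValuationRing R] (n : ℕ),
      maximalIdeal R ^ n = maximalIdeal R ↔ n = 1 := fun R _ _ _ n => by
    refine ⟨fun h => ?_, fun h => by rw [h, pow_one]⟩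
    have hinj := (Ideal.pow_right_strictAnti (maximalIdeal R) (IsDiscreteValuationRing.not_a_field R)
      (maximalIdeal.isMaximal R).ne_top).injective
    exact hinj (h.trans (pow_one (maximalIdeal R)).symm)
  refine ⟨a, b, ha, hb, ramificationIdx'_of_map_eq hma, ramificationIdx'_of_map_eq hmb,
    ramificationIdx'_of_map_eq hmab, ?_, ?_, ?_⟩
  · rw [EtRam.IsWeaklyUnramified, hma, hiff]
  · rw [EtRam.IsWeaklyUnramified, hmb, hiff]
  · rw [EtRam.IsWeaklyUnramified, hmab, hiff]

end Groth.Agent.H1Ram
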