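import Groth.Agent.H1Ram.Abhyankar
import Groth.Agent.H1Ram.Tower
import Groth.Agent.H1Ram.TotRam
import Groth.Agent.S1985
import Groth.Agent.RegLoc6.GeomRed
import Groth.Agent.RGLib.KummerTame
import Mathlib

/-!
# Compositum of tamely ramified extensions
-/

set_option autoImplicit false

universe u

open IsLocalRing

namespace Groth.Agent.H1Ram

variable {A : Type u} [CommRing A] [IsLocalRing A]

/-- Separable residue extension and a condition on the ramification index, everywhere. -/
def GoodRam (A : Type u) [CommRing A] [IsLocalRing A] {F : Type u} [Field F] (g : A →+* F) (Q : ℕ → Prop) : Prop :=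
  ∀ (V : ValuationSubring F) (h : EtRam.Dominates A g V),
    letI : Algebra A V := (RingHom.codRestrict g V h.1).toAlgebra
    ∀ [IsLocalHom (algebraMap A V)],
      Algebra.IsSeparable (ResidueField A) (ResidueField V) ∧
        Q (Ideal.ramificationIdx' (maximalIdeal A) (maximalIdeal V))

theorem isLocalHom_of_dominates {F : Type u} [Field F] {g : A →+* F} {V : ValuationSubring F}
    (h : EtRam.Dominates A g V) :
    letI : Algebra A V := (RingHom.codRestrict g V h.1).toAlgebra
    IsLocalHom (algebraMap A V) := by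
  letI : Algebra A V := (RingHom.codRestrict g V h.1).toAlgebra
  exact ⟨fun a ha => by
    by_contra hna
    exact (mem_maximalIdeal _).1
      ((V.valuation_lt_one_iff _).2 (h.2 a ((mem_maximalIdeal a).2 hna))) ha⟩

theorem isSeparable_of_geomReduced (k L : Type u) [Field k] [Field L] [Algebra k L] [Module.Finite k L]
    [Algebra.IsGeometricallyReduced k L] : Algebra.IsSeparable k L := by
  obtain ⟨s, hs, hsep⟩ := RegLoc6.exists_separating_transcendence k L
  have hs0 : (s : Set L) = ∅ := Set.eq_empty_of_forall_notMem fun x hx =>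
    hs.1.transcendental ⟨x, hx⟩ (Algebra.IsAlgebraic.isAlgebraic x)
  rw [hs0, IntermediateField.adjoin_empty] at hsep
  haveI := hsep
  haveI : Algebra.IsSeparable k (⊥ : IntermediateField k L) :=
    AlgEquiv.Algebra.isSeparable (IntermediateField.botEquiv k L).symm
  exact Algebra.IsSeparable.trans k (⊥ : IntermediateField k L) L

section step

variable {A K : Type u} [CommRing A] [IsDomain A] [IsDiscreteValuationRing A] [Field K] [Algebra A K]
  [IsFractionRing A K] {L K₁ M : Type u} [Field L] [Field K₁] [Field M] [Algebra K L] [Algebra K K₁]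
  [Algebra K M] [Algebra L M] [Algebra K₁ M] [IsScalarTower K L M] [IsScalarTower K K₁ M]
  [FiniteDimensional K M] [Algebra.IsSeparable K M]

theorem step {Q₁ Q₂ Q : ℕ → Prop}
    (hQ : ∀ a b, Q₁ a → Q₂ b → a ∣ b ∧ (a : ResidueField A) ≠ 0 ∧ Q b)
    (hL : GoodRam A ((algebraMap K L).comp (algebraMap A K)) Q₁)
    (hK₁ : GoodRam A ((algebraMap K K₁).comp (algebraMap A K)) Q₂)
    (hgen : Algebra.adjoin L (Set.range (algebraMap K₁ M)) = ⊤) :
    GoodRam A ((algebraMap K M).comp (algebraMap A K)) Q := by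
  intro W hW
  haveI : FiniteDimensional K L :=
    FiniteDimensional.of_injective (IsScalarTower.toAlgHom K L M).toLinearMap (algebraMap L M).injective
  haveI : Algebra.IsSeparable K L := Algebra.isSeparable_tower_bot_of_isSeparable K L M
  haveI : FiniteDimensional K K₁ :=
    FiniteDimensional.of_injective (IsScalarTower.toAlgHom K K₁ M).toLinearMap (algebraMap K₁ M).injective
  have hV := dominates_comap (L := L) W hW
  have hU := dominates_comap (L := K₁) W hW
  haveI hdvV := isDVR_of_dominates (W.comap (algebraMap L M)) hV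
  letI : Algebra A (W.comap (algebraMap L M)) :=
    (RingHom.codRestrict ((algebraMap K L).comp (algebraMap A K)) (W.comap (algebraMap L M)) hV.1).toAlgebra
  letI : Algebra A (W.comap (algebraMap K₁ M)) :=
    (RingHom.codRestrict ((algebraMap K K₁).comp (algebraMap A K)) (W.comap (algebraMap K₁ M)) hU.1).toAlgebra
  haveI := isLocalHom_of_dominates hV
  haveI := isLocalHom_of_dominates hU
  letI : Algebra A W := (RingHom.codRestrict ((algebraMap K M).comp (algebraMap A K)) W hW.1).toAlgebra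
  intro _
  obtain ⟨hsV, hqV⟩ := hL _ hV
  obtain ⟨hsU, hqU⟩ := hK₁ _ hU
  obtain ⟨hdvd, hne, hq⟩ := hQ _ _ hqV hqU
  letI : Algebra A L := ((algebraMap K L).comp (algebraMap A K)).toAlgebra
  haveI : IsScalarTower A K L := IsScalarTower.of_algebraMap_eq fun _ => rfl
  haveI : IsScalarTower A (W.comap (algebraMap L M)) L := IsScalarTower.of_algebraMap_eq fun _ => rfl
  haveI : IsFractionRing (W.comap (algebraMap L M)) L := inferInstance
  have htame : CharZero (ResidueField A) ∨
      ∃ p : ℕ, p.Prime ∧ CharP (ResidueField A) p ∧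
        ¬ p ∣ Ideal.ramificationIdx' (maximalIdeal A) (maximalIdeal (W.comap (algebraMap L M))) ∧
        Algebra.IsGeometricallyReduced (ResidueField A) (ResidueField (W.comap (algebraMap L M))) := by
    obtain ⟨q, hq⟩ := CharP.exists (ResidueField A)
    rcases CharP.char_is_prime_or_zero (ResidueField A) q with hp | rfl
    · exact Or.inr ⟨q, hp, hq, fun h => hne ((CharP.cast_eq_zero_iff _ q _).2 h),
        haveI := hsV; S1985.isGeometricallyReduced_of_isSeparable _ _⟩
    · exact Or.inl (CharP.charP_to_charZero _)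
  have hinj : Function.Injective (algebraMap A (W.comap (algebraMap L M))) := fun x y h =>
    IsFractionRing.injective A K ((algebraMap K L).injective (congrArg Subtype.val h))
  obtain ⟨hwu, hgr⟩ := abhyankar_core (A := A) (B := W.comap (algebraMap L M)) (K := K) (L := L) hinj htame
    hgen W (dominates_subtype (L := L) W) hU.1 hdvd
  letI : Algebra (W.comap (algebraMap K₁ M)) W :=
    (RingHom.codRestrict ((algebraMap K₁ M).comp (W.comap (algebraMap K₁ M)).subtype) W
      (dominates_subtype (L := K₁) W).1).toAlgebra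
  haveI : IsLocalHom (algebraMap (W.comap (algebraMap K₁ M)) W) := EtRam.isLocalHom_inclOfComap W _
  obtain ⟨hT, a, b, -, -, h1, h2, h3, i1, i2, i3⟩ := tower (L := K₁) W hW hU
  haveI := hT
  have hb : b = 1 := i2.1 hwu
  refine ⟨?_, by rw [h3, hb, mul_one, ← h1]; exact hq⟩
  haveI := finite_residueField W hW
  haveI : Module.Finite (ResidueField (W.comap (algebraMap K₁ M))) (ResidueField W) :=
    Module.Finite.of_restrictScalars_finite (ResidueField A) _ _
  haveI : Algebra.IsGeometricallyReduced (ResidueField (W.comap (algebraMap K₁ M))) (ResidueField W) := by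
    convert hgr using 1
    refine Algebra.algebra_ext _ _ fun r => ?_
    obtain ⟨r, rfl⟩ := residue_surjective r
    rfl
  haveI := isSeparable_of_geomReduced (ResidueField (W.comap (algebraMap K₁ M))) (ResidueField W)
  haveI := hsU
  exact Algebra.IsSeparable.trans _ (ResidueField (W.comap (algebraMap K₁ M))) _

end step

section fields

variable {A K : Type u} [CommRing A] [IsDomain A] [IsDiscreteValuationRing A] [Field K] [Algebra A K]
  [IsFractionRing A K]

theorem pos_and_weaklyUnramified_iff {F : Type u} [Field F] [Algebra K F] [FiniteDimensional K F]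
    [Algebra.IsSeparable K F] (V : ValuationSubring F)
    (hV : EtRam.Dominates A ((algebraMap K F).comp (algebraMap A K)) V) :
    letI : Algebra A V := (RingHom.codRestrict ((algebraMap K F).comp (algebraMap A K)) V hV.1).toAlgebra
    0 < Ideal.ramificationIdx' (maximalIdeal A) (maximalIdeal V) ∧
    Ideal.ramificationIdx' (maximalIdeal A) (maximalIdeal V) ≤ Module.finrank K F ∧
    (EtRam.IsWeaklyUnramified A V ↔ Ideal.ramificationIdx' (maximalIdeal A) (maximalIdeal V) = 1) := by
  letI : Algebra A V := (RingHom.codRestrict ((algebraMap K F).comp (algebraMap A K)) V hV.1).toAlgebra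
  haveI := isDVR_of_dominates V hV
  obtain ⟨n, hn, hmap⟩ := map_maximalIdeal_eq_pow V hV
  rw [ramificationIdx'_of_map_eq hmap]
  refine ⟨hn, exponent_le_finrank F V hV n hmap, ?_⟩
  refine ⟨fun h => ?_, fun h => by rw [EtRam.IsWeaklyUnramified, hmap, h, pow_one]⟩
  rw [EtRam.IsWeaklyUnramified, hmap] at h
  exact (Ideal.pow_right_strictAnti (maximalIdeal V) (IsDiscreteValuationRing.not_a_field V)
    (maximalIdeal.isMaximal V).ne_top).injective (h.trans (pow_one (maximalIdeal V)).symm)

theorem isTamelyRamified_iff {F : Type u} [Field F] [Algebra K F] [FiniteDimensional K F]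
    [Algebra.IsSeparable K F] :
    EtRam.IsTamelyRamified A ((algebraMap K F).comp (algebraMap A K)) ↔
      GoodRam A ((algebraMap K F).comp (algebraMap A K)) (fun e => (e : ResidueField A) ≠ 0) := by
  refine ⟨fun H V hV => ?_, fun H V hV => ?_⟩
  all_goals
    letI : Algebra A V := (RingHom.codRestrict ((algebraMap K F).comp (algebraMap A K)) V hV.1).toAlgebra
    intro _
    obtain ⟨hs, he⟩ := H V hV
    refine ⟨hs, ?_⟩
  · intro h0
    obtain ⟨q, hq⟩ := CharP.exists (ResidueField A)
    rcases CharP.char_is_prime_or_zero (ResidueField A) q with hp | rfl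
    · exact he q hp hq ((CharP.cast_eq_zero_iff _ q _).1 h0)
    · haveI := CharP.charP_to_charZero (ResidueField A)
      exact (pos_and_weaklyUnramified_iff V hV).1.ne' (Nat.cast_eq_zero.1 h0)
  · intro p _ hchar hdvd
    exact he ((CharP.cast_eq_zero_iff _ p _).2 hdvd)

theorem isUnramifiedExt_iff {F : Type u} [Field F] [Algebra K F] [FiniteDimensional K F]
    [Algebra.IsSeparable K F] :
    EtRam.IsUnramifiedExt A ((algebraMap K F).comp (algebraMap A K)) ↔
      GoodRam A ((algebraMap K F).comp (algebraMap A K)) (fun e => e = 1) := by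
  refine ⟨fun H V hV => ?_, fun H V hV => ?_⟩
  all_goals
    letI : Algebra A V := (RingHom.codRestrict ((algebraMap K F).comp (algebraMap A K)) V hV.1).toAlgebra
    intro _
  · exact ⟨(H V hV).2, (pos_and_weaklyUnramified_iff V hV).2.2.1 (H V hV).1⟩
  · exact ⟨(pos_and_weaklyUnramified_iff V hV).2.2.2 (H V hV).2, (H V hV).1⟩

variable {Ω : Type u} [Field Ω] [Algebra K Ω]

theorem adjoin_range_inclusion_sup (E₁ E₂ : IntermediateField K Ω) [FiniteDimensional K E₁] :
    letI : Algebra E₁ (E₁ ⊔ E₂ : IntermediateField K Ω) := (IntermediateField.inclusion le_sup_left).toRingHom.toAlgebra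
    letI : Algebra E₂ (E₁ ⊔ E₂ : IntermediateField K Ω) := (IntermediateField.inclusion le_sup_right).toRingHom.toAlgebra
    Algebra.adjoin E₁ (Set.range (algebraMap E₂ (E₁ ⊔ E₂ : IntermediateField K Ω))) = ⊤ := by
  letI : Algebra E₁ (E₁ ⊔ E₂ : IntermediateField K Ω) := (IntermediateField.inclusion le_sup_left).toRingHom.toAlgebra
  letI : Algebra E₂ (E₁ ⊔ E₂ : IntermediateField K Ω) := (IntermediateField.inclusion le_sup_right).toRingHom.toAlgebra
  haveI : IsScalarTower K E₁ (E₁ ⊔ E₂ : IntermediateField K Ω) := IsScalarTower.of_algebraMap_eq fun _ => rfl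
  let S := (Algebra.adjoin E₁ (Set.range (algebraMap E₂ (E₁ ⊔ E₂ : IntermediateField K Ω)))).restrictScalars K
  rw [eq_top_iff]
  rintro x -
  have hx : (x : Ω) ∈ S.map (E₁ ⊔ E₂).val := by
    have h : (E₁ ⊔ E₂).toSubalgebra ≤ S.map (E₁ ⊔ E₂).val := by
      rw [IntermediateField.sup_toSubalgebra_of_left]
      refine sup_le (fun z hz => ⟨algebraMap E₁ _ ⟨z, hz⟩, ?_, rfl⟩) (fun z hz => ⟨algebraMap E₂ _ ⟨z, hz⟩, ?_, rfl⟩)
      · exact (Algebra.adjoin E₁ (Set.range (algebraMap E₂ (E₁ ⊔ E₂ : IntermediateField K Ω)))).algebraMap_mem _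
      · exact Algebra.subset_adjoin ⟨_, rfl⟩
    exact h x.2
  obtain ⟨y, hy, hyx⟩ := hx
  rwa [Subtype.ext hyx] at hy

theorem sup {E₁ E₂ : IntermediateField K Ω} [FiniteDimensional K E₁] [FiniteDimensional K E₂]
    [Algebra.IsSeparable K E₁] [Algebra.IsSeparable K E₂] {Q₁ Q₂ Q : ℕ → Prop}
    (hQ : ∀ a b, Q₁ a → Q₂ b → a ∣ b ∧ (a : ResidueField A) ≠ 0 ∧ Q b)
    (h₁ : GoodRam A ((algebraMap K E₁).comp (algebraMap A K)) Q₁)
    (h₂ : GoodRam A ((algebraMap K E₂).comp (algebraMap A K)) Q₂) :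
    GoodRam A ((algebraMap K (E₁ ⊔ E₂ : IntermediateField K Ω)).comp (algebraMap A K)) Q := by
  letI : Algebra E₁ (E₁ ⊔ E₂ : IntermediateField K Ω) := (IntermediateField.inclusion le_sup_left).toRingHom.toAlgebra
  letI : Algebra E₂ (E₁ ⊔ E₂ : IntermediateField K Ω) := (IntermediateField.inclusion le_sup_right).toRingHom.toAlgebra
  haveI : IsScalarTower K E₁ (E₁ ⊔ E₂ : IntermediateField K Ω) := IsScalarTower.of_algebraMap_eq fun _ => rfl
  haveI : IsScalarTower K E₂ (E₁ ⊔ E₂ : IntermediateField K Ω) := IsScalarTower.of_algebraMap_eq fun _ => rfl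
  exact step (L := E₁) (K₁ := E₂) hQ h₁ h₂ (adjoin_range_inclusion_sup E₁ E₂)

theorem unramified_sup {E₁ E₂ : IntermediateField K Ω} [FiniteDimensional K E₁] [FiniteDimensional K E₂]
    [Algebra.IsSeparable K E₁] [Algebra.IsSeparable K E₂]
    (h₁ : EtRam.IsUnramifiedExt A ((algebraMap K E₁).comp (algebraMap A K)))
    (h₂ : EtRam.IsUnramifiedExt A ((algebraMap K E₂).comp (algebraMap A K))) :
    EtRam.IsUnramifiedExt A ((algebraMap K (E₁ ⊔ E₂ : IntermediateField K Ω)).comp (algebraMap A K)) := by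
  rw [isUnramifiedExt_iff] at h₁ h₂ ⊢
  refine sup (fun a b ha hb => ⟨(show a = 1 from ha) ▸ one_dvd b, ?_, hb⟩) h₁ h₂
  rw [show a = 1 from ha, Nat.cast_one]
  exact one_ne_zero

theorem exists_kummer [IsAlgClosed Ω] {N : ℕ} (hN : (N : ResidueField A) ≠ 0) :
    ∃ E : IntermediateField K Ω, FiniteDimensional K E ∧ Algebra.IsSeparable K E ∧
      GoodRam A ((algebraMap K E).comp (algebraMap A K)) (fun e => N ∣ e ∧ (e : ResidueField A) ≠ 0) := by
  obtain ⟨π, hπ⟩ := IsDiscreteValuationRing.exists_irreducible A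
  have hN0 : 0 < N := Nat.pos_of_ne_zero fun h => hN (by rw [h, Nat.cast_zero])
  obtain ⟨t, ht⟩ := IsAlgClosed.exists_pow_nat_eq (algebraMap K Ω (algebraMap A K π)) hN0
  have hπK : algebraMap A K π ≠ 0 :=
    fun h => hπ.ne_zero (IsFractionRing.injective A K (by rw [h, map_zero]))
  have hNK : (N : K) ≠ 0 := by
    have hNA : (N : A) ≠ 0 := fun h => hN (by rw [← map_natCast (residue A), h, map_zero])
    rw [← map_natCast (algebraMap A K)]
    exact fun h => hNA (IsFractionRing.injective A K (by rw [h, map_zero]))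
  have hroot : Polynomial.aeval t (Polynomial.X ^ N - Polynomial.C (algebraMap A K π)) = 0 := by
    rw [map_sub, map_pow, Polynomial.aeval_X, Polynomial.aeval_C, ht, sub_self]
  have hsep : IsSeparable K t :=
    (Polynomial.separable_X_pow_sub_C (algebraMap A K π) hNK hπK).of_dvd (minpoly.dvd K t hroot)
  haveI hfd : FiniteDimensional K (IntermediateField.adjoin K ({t} : Set Ω)) :=
    IntermediateField.adjoin.finiteDimensional hsep.isIntegral
  haveI hsepE : Algebra.IsSeparable K (IntermediateField.adjoin K ({t} : Set Ω)) :=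
    (IntermediateField.isSeparable_adjoin_simple_iff_isSeparable K Ω).2 hsep
  refine ⟨IntermediateField.adjoin K ({t} : Set Ω), hfd, hsepE, ?_⟩
  generalize hE : IntermediateField.adjoin K ({t} : Set Ω) = E at hfd hsepE
  have htE : t ∈ E := hE ▸ IntermediateField.mem_adjoin_simple_self K t
  let g := (algebraMap K E).comp (algebraMap A K)
  have htg : (⟨t, htE⟩ : E) ^ N = g π := Subtype.ext ht
  have htame : EtRam.IsTamelyRamified A g := by
    refine RGLib.KummerTame.tame g π hπ.maximalIdeal_eq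
      (fun h => hπK ((algebraMap K E).injective (by rw [map_zero]; exact h)))
      PUnit.unit (fun _ => (⟨t, htE⟩ : E)) (fun _ : PUnit.{1} => π) (fun _ => N) rfl
      (fun j hj => absurd rfl hj) (fun _ => hN0) (fun _ => isUnit_iff_ne_zero.2 hN) (fun _ => htg) ?_
    letI := g.toAlgebra
    intro x
    let D := Algebra.adjoin A (Set.range fun _ : PUnit.{1} => (⟨t, htE⟩ : E))
    have key : ∀ z : Ω, z ∈ Algebra.adjoin K ({t} : Set Ω) →
        ∃ (y : E), (y : Ω) = z ∧ ∃ d₁ ∈ D, ∃ d₂ ∈ D, d₂ ≠ 0 ∧ y = d₁ / d₂ := by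
      intro z hz
      induction hz using Algebra.adjoin_induction with
      | mem w hw =>
        rw [Set.mem_singleton_iff] at hw
        subst hw
        exact ⟨⟨w, htE⟩, rfl, _, Algebra.subset_adjoin ⟨PUnit.unit, rfl⟩, 1, one_mem _, one_ne_zero, (div_one _).symm⟩
      | algebraMap k =>
        obtain ⟨p, q, hq, rfl⟩ := IsFractionRing.div_surjective A k
        refine ⟨algebraMap K E _, rfl, g p, Subalgebra.algebraMap_mem D p, g q, Subalgebra.algebraMap_mem D q, ?_, ?_⟩
        · exact (_root_.map_ne_zero (algebraMap K E)).2 (IsFractionRing.to_map_ne_zero_of_mem_nonZeroDivisors (K := K) hq)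
        · exact map_div₀ (algebraMap K E) _ _
      | add a b _ _ ha hb =>
        obtain ⟨y, rfl, a₁, ha₁, a₂, ha₂, ha0, rfl⟩ := ha
        obtain ⟨y', rfl, b₁, hb₁, b₂, hb₂, hb0, rfl⟩ := hb
        exact ⟨a₁ / a₂ + b₁ / b₂, rfl, a₁ * b₂ + a₂ * b₁, add_mem (mul_mem ha₁ hb₂) (mul_mem ha₂ hb₁), a₂ * b₂,
          mul_mem ha₂ hb₂, mul_ne_zero ha0 hb0, div_add_div _ _ ha0 hb0⟩
      | mul a b _ _ ha hb =>
        obtain ⟨y, rfl, a₁, ha₁, a₂, ha₂, ha0, rfl⟩ := ha
        obtain ⟨y', rfl, b₁, hb₁, b₂, hb₂, hb0, rfl⟩ := hb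
        exact ⟨a₁ / a₂ * (b₁ / b₂), rfl, a₁ * b₁, mul_mem ha₁ hb₁, a₂ * b₂, mul_mem ha₂ hb₂,
          mul_ne_zero ha0 hb0, div_mul_div_comm _ _ _ _⟩
    obtain ⟨y, hy, hD⟩ := key x.1 (by
      rw [← IntermediateField.adjoin_simple_toSubalgebra_of_isAlgebraic hsep.isIntegral.isAlgebraic, hE]
      exact x.2)
    rw [← Subtype.ext hy]
    exact hD
  intro V hV
  letI : Algebra A V := (RingHom.codRestrict g V hV.1).toAlgebra
  intro _
  obtain ⟨hs, hne⟩ := (isTamelyRamified_iff.1 htame) V hV
  refine ⟨hs, ?_, hne⟩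
  haveI := isDVR_of_dominates V hV
  obtain ⟨n, -, hmap⟩ := map_maximalIdeal_eq_pow V hV
  rw [ramificationIdx'_of_map_eq hmap]
  have htV : (⟨t, htE⟩ : E) ∈ V := by
    rw [← V.valuation_le_one_iff]
    by_contra hcon
    have h1 := (V.valuation_le_one_iff _).2 (hV.1 π)
    rw [show ((algebraMap K E).comp (algebraMap A K)) π = (⟨t, htE⟩ : E) ^ N from htg.symm, map_pow] at h1
    exact absurd h1 (not_le.2 (one_lt_pow₀ (not_le.1 hcon) hN0.ne'))
  obtain ⟨ρ, hρ⟩ := IsDiscreteValuationRing.exists_irreducible V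
  have htV0 : (⟨⟨t, htE⟩, htV⟩ : V) ≠ 0 := fun h => by
    have h1 : (⟨t, htE⟩ : E) = 0 := congrArg Subtype.val h
    rw [h1, zero_pow hN0.ne'] at htg
    exact hπK ((algebraMap K E).injective (by rw [map_zero]; exact htg.symm))
  obtain ⟨k, u, hu⟩ := IsDiscreteValuationRing.eq_unit_mul_pow_irreducible htV0 hρ
  have hπV : algebraMap A V π = (⟨⟨t, htE⟩, htV⟩ : V) ^ N := Subtype.ext htg.symm
  replace hmap := (congrArg (Ideal.map (algebraMap A V)) hπ.maximalIdeal_eq).symm.trans hmap
  rw [Ideal.map_span, Set.image_singleton, hπV, hu, mul_pow, ← pow_mul, hρ.maximalIdeal_eq,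
    Ideal.span_singleton_pow, Ideal.span_singleton_mul_left_unit (u.isUnit.pow N)] at hmap
  have : n = k * N := by
    rw [← Ideal.span_singleton_pow, ← Ideal.span_singleton_pow] at hmap
    exact ((Ideal.pow_right_strictAnti (Ideal.span {ρ}) (by
      rw [← hρ.maximalIdeal_eq]; exact IsDiscreteValuationRing.not_a_field V) (by
      rw [← hρ.maximalIdeal_eq]; exact (maximalIdeal.isMaximal V).ne_top)).injective hmap).symm
  exact this ▸ dvd_mul_left N k

theorem exists_cast_ne_zero_forall_dvd (n : ℕ) :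
    ∃ N : ℕ, (N : ResidueField A) ≠ 0 ∧ ∀ e, e ≤ n → (e : ResidueField A) ≠ 0 → e ∣ N := by
  classical
  refine ⟨∏ i ∈ (Finset.range (n + 1)).filter (fun i : ℕ => (i : ResidueField A) ≠ 0), i, ?_, fun e he he' => ?_⟩
  · rw [Nat.cast_prod, Finset.prod_ne_zero_iff]
    exact fun i hi => (Finset.mem_filter.1 hi).2
  · exact Finset.dvd_prod_of_mem _ (Finset.mem_filter.2 ⟨Finset.mem_range.2 (Nat.lt_succ_of_le he), he'⟩)

theorem tame_sup [IsAlgClosed Ω] {E₁ E₂ : IntermediateField K Ω} [FiniteDimensional K E₁] [FiniteDimensional K E₂]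
    [Algebra.IsSeparable K E₁] [Algebra.IsSeparable K E₂]
    (h₁ : EtRam.IsTamelyRamified A ((algebraMap K E₁).comp (algebraMap A K)))
    (h₂ : EtRam.IsTamelyRamified A ((algebraMap K E₂).comp (algebraMap A K))) :
    ∃ E : IntermediateField K Ω, FiniteDimensional K E ∧ Algebra.IsSeparable K E ∧ E₁ ⊔ E₂ ≤ E ∧
      EtRam.IsTamelyRamified A ((algebraMap K E).comp (algebraMap A K)) := by
  rw [isTamelyRamified_iff] at h₁ h₂
  obtain ⟨N, hN, hdvd⟩ := exists_cast_ne_zero_forall_dvd (A := A) (Module.finrank K E₁ + Module.finrank K E₂)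
  obtain ⟨Ek, _, _, hk⟩ := exists_kummer (A := A) (K := K) (Ω := Ω) hN
  have hb : ∀ (E : IntermediateField K Ω) [FiniteDimensional K E] [Algebra.IsSeparable K E],
      Module.finrank K E ≤ Module.finrank K E₁ + Module.finrank K E₂ →
      GoodRam A ((algebraMap K E).comp (algebraMap A K)) (fun e => (e : ResidueField A) ≠ 0) →
      GoodRam A ((algebraMap K E).comp (algebraMap A K)) (fun e => e ∣ N ∧ (e : ResidueField A) ≠ 0) := by
    intro E _ _ hle H V hV
    letI : Algebra A V := (RingHom.codRestrict ((algebraMap K E).comp (algebraMap A K)) V hV.1).toAlgebra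
    intro _
    obtain ⟨hs, hne⟩ := H V hV
    exact ⟨hs, hdvd _ ((pos_and_weaklyUnramified_iff V hV).2.1.trans hle) hne, hne⟩
  have hstep : ∀ a b : ℕ, (a ∣ N ∧ (a : ResidueField A) ≠ 0) → (N ∣ b ∧ (b : ResidueField A) ≠ 0) →
      a ∣ b ∧ (a : ResidueField A) ≠ 0 ∧ (N ∣ b ∧ (b : ResidueField A) ≠ 0) :=
    fun a b ha hb' => ⟨ha.1.trans hb'.1, ha.2, hb'⟩
  have hF := sup hstep (hb E₂ (Nat.le_add_left _ _) h₂) hk
  have hE := sup hstep (hb E₁ (Nat.le_add_right _ _) h₁) hF
  refine ⟨E₁ ⊔ (E₂ ⊔ Ek), inferInstance, inferInstance, sup_le_sup_left le_sup_left _, ?_⟩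
  rw [isTamelyRamified_iff]
  intro V hV
  letI : Algebra A V := (RingHom.codRestrict _ V hV.1).toAlgebra
  intro _
  exact ⟨(hE V hV).1, (hE V hV).2.2⟩

end fields

end Groth.Agent.H1Ram
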