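import Groth.Agent.H1Ram.Trichotomy

/-!
# Artin–Schreier steps over a discrete valuation ring with given uniformizer
-/

set_option autoImplicit false

universe u

open IsLocalRing Polynomial

namespace Groth.Agent.H1Ram

theorem comap_valuation_lt_one {K L : Type u} [Field K] [Field L] (W : ValuationSubring L) (f : K →+* L) (x : K) :
    (W.comap f).valuation x < 1 ↔ W.valuation (f x) < 1 := by
  rcases eq_or_ne x 0 with rfl | hx
  · simp
  have h : ∀ {F : Type u} [Field F] (V : ValuationSubring F) {y : F}, y ≠ 0 →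
      (V.valuation y < 1 ↔ y⁻¹ ∉ V) := by
    intro F _ V y hy
    rw [← V.valuation_le_one_iff, map_inv₀, not_le,
      one_lt_inv₀ (zero_lt_iff.2 (by rw [Ne, map_eq_zero]; exact hy))]
  rw [h _ hx, h _ (by rwa [Ne, map_eq_zero])]
  show ¬ f x⁻¹ ∈ W ↔ _
  rw [map_inv₀]

theorem dominates_comap_of {A K L : Type u} [CommRing A] [IsLocalRing A] [Field K] [Field L] (W : ValuationSubring L)
    (f : K →+* L) (g : A →+* K) (g' : A →+* L) (h : f.comp g = g') (hW : EtRam.Dominates A g' W) :
    EtRam.Dominates A g (W.comap f) := by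
  subst h
  exact ⟨fun a => hW.1 a, fun a ha => (comap_valuation_lt_one W f _).2 (hW.2 a ha)⟩

theorem dominates_of_localHom {B C F : Type u} [CommRing B] [IsLocalRing B] [CommRing C] [IsLocalRing C]
    [Algebra B C] [IsLocalHom (algebraMap B C)] [Field F] (g : C →+* F) (W : ValuationSubring F)
    (hW : EtRam.Dominates C g W) : EtRam.Dominates B (g.comp (algebraMap B C)) W :=
  ⟨fun a => hW.1 _, fun a ha => hW.2 _ ((mem_maximalIdeal _).2 fun hu =>
    (mem_maximalIdeal _).1 ha (isUnit_of_map_unit _ _ hu))⟩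

theorem exists_mul_eq_mul_add_one {p n : ℕ} (hp : p.Prime) (hn : 0 < n) (hpn : ¬ p ∣ n) :
    ∃ i j : ℕ, p * j = n * i + 1 := by
  rcases Nat.lt_or_ge 1 n with h | h
  · obtain ⟨j, -, hj⟩ := Nat.exists_mul_mod_eq_one_of_coprime ((hp.coprime_iff_not_dvd).2 hpn) h
    exact ⟨p * j / n, j, by conv_lhs => rw [← Nat.div_add_mod (p * j) n, hj]⟩
  · exact ⟨p - 1, 1, by have := hp.pos; obtain rfl : n = 1 := (by omega); omega⟩

variable {A K L : Type u} [CommRing A] [IsDomain A] [IsDiscreteValuationRing A] [Field K] [Algebra A K]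
  [IsFractionRing A K] [Field L] [Algebra K L] [Algebra A L] [IsScalarTower A K L]

/-- An element whose `p`-th power has the valuation of a uniformizer generates the maximal ideal. -/
theorem span_of_pow [FiniteDimensional K L] {p : ℕ} (hp : 1 < p) (hfin : Module.finrank K L ≤ p) {π : A}
    (hπ : maximalIdeal A = Ideal.span {π}) {y : L}
    (hy : ∀ V : ValuationSubring L, EtRam.Dominates A (algebraMap A L) V →
      V.valuation y ^ p = V.valuation (algebraMap A L π))
    (W : ValuationSubring L) (hW : EtRam.Dominates A (algebraMap A L) W) :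
    W.valuation y < 1 ∧ ∀ x, W.valuation x < 1 → ∃ w ∈ W, x = y * w := by
  obtain ⟨-, hspan, -⟩ := structure_of_basis (K := K) hfin hπ
    (basisProp_of_pow (by omega) hπ hy (algebraMap_injective' K))
  have hπ1 := hW.2 π (hπ ▸ Ideal.mem_span_singleton_self π)
  have hy1 : W.valuation y < 1 := by
    by_contra hge
    exact not_lt.2 (hy W hW ▸ one_le_pow₀ (not_lt.1 hge)) hπ1
  have hyW : y ∈ W := (W.valuation_le_one_iff _).1 hy1.le
  refine ⟨hy1, fun x hx => ?_⟩
  obtain ⟨a, rfl⟩ := hspan W hW x ((W.valuation_le_one_iff _).1 hx.le)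
  obtain ⟨k, rfl⟩ : ∃ k, p = k + 1 := ⟨p - 1, by omega⟩
  rw [Fin.sum_univ_succ] at hx ⊢
  simp only [Fin.val_zero, pow_zero, mul_one, Fin.val_succ, pow_succ, ← mul_assoc, ← Finset.sum_mul] at hx ⊢
  obtain ⟨G, hG⟩ : ∃ G, G = ∑ i : Fin k, algebraMap A L (a i.succ) * y ^ (i : ℕ) := ⟨_, rfl⟩
  have hGW : G ∈ W := hG ▸ sum_mem fun i _ => W.mul_mem _ _ (hW.1 _) (pow_mem hyW _)
  rw [← hG] at hx ⊢
  have hc : a 0 ∈ maximalIdeal A := (mem_maximalIdeal _).2 fun hu => by
    have h1 := valuation_unit hW hu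
    have h2 : W.valuation (G * y) < W.valuation (algebraMap A L (a 0)) := by
      rw [h1, map_mul, mul_comm]
      exact mul_lt_one_of_lt_of_le hy1 ((W.valuation_le_one_iff _).2 hGW)
    rw [W.valuation.map_add_eq_of_lt_left h2, h1] at hx
    exact lt_irrefl _ hx
  rw [hπ, Ideal.mem_span_singleton] at hc
  obtain ⟨d, hd⟩ := hc
  have hπne : algebraMap A L π ≠ 0 := fun h => by
    have := algebraMap_injective' (A := A) (L := L) K (h.trans (map_zero _).symm)
    exact ((IsDiscreteValuationRing.irreducible_iff_uniformizer π).2 hπ).ne_zero this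
  have hy0 : y ≠ 0 := fun h => by
    have := hy W hW
    rw [h, map_zero, zero_pow (by omega), eq_comm, map_eq_zero] at this
    exact hπne this
  have hmem : algebraMap A L π / y ∈ W := by
    refine (W.valuation_le_one_iff _).1 ?_
    rw [map_div₀, div_le_one₀ (zero_lt_iff.2 (by rw [Ne, map_eq_zero]; exact hy0)), ← hy W hW]
    exact pow_le_of_le_one zero_le' hy1.le (by omega)
  refine ⟨algebraMap A L π / y * algebraMap A L d + G, W.add_mem _ _ (W.mul_mem _ _ hmem (hW.1 d)) hGW, ?_⟩
  rw [hd, map_mul, mul_add, ← mul_assoc, mul_div_cancel₀ _ hy0, mul_comm G y]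

variable {p : ℕ} [CharP K p]

theorem asPoly (F : Type u) [Field F] [Algebra A F] [IsFractionRing A F] [CharP F p] (hp : p.Prime) :
    (X ^ p - X : A[X]).Monic ∧ (X ^ p - X : A[X]).natDegree = p ∧
      derivative ((X ^ p - X : A[X]).map (residue A)) = C (-1) := by
  haveI : CharP A p := RingHom.charP _ (IsFractionRing.injective A F) p
  haveI : CharP (ResidueField A) p := (CharP.charP_iff_prime_eq_zero hp).2 (by
    rw [← map_natCast (residue A), CharP.cast_eq_zero, map_zero])
  refine ⟨(monic_X_pow p).sub_of_left ?_, ?_, ?_⟩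
  · rw [degree_X_pow, degree_X]; exact_mod_cast hp.one_lt
  · rw [natDegree_sub_eq_left_of_natDegree_lt] <;> rw [natDegree_X_pow]
    rw [natDegree_X]; exact hp.one_lt
  · simp [derivative_X_pow, CharP.cast_eq_zero (ResidueField A) p]

theorem as_finite (hp : p.Prime) {ξ : K} {z : L} (hz : z ^ p - z = algebraMap K L ξ)
    (hgen : IntermediateField.adjoin K {z} = ⊤) :
    FiniteDimensional K L ∧ Module.finrank K L ≤ p ∧ Algebra.IsSeparable K L ∧
      aeval z (X ^ p - X : A[X]) = algebraMap K L ξ := by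
  obtain ⟨hmon, hdeg, -⟩ := asPoly (A := A) K hp
  have he : aeval z (X ^ p - X : A[X]) = algebraMap K L ξ := by simpa using hz
  obtain ⟨hfd, hle⟩ := finrank_le_of_root hmon (hdeg.symm ▸ hp.pos) he hgen
  refine ⟨hfd, hdeg ▸ hle, ?_, he⟩
  haveI : Algebra.IsSeparable K (IntermediateField.adjoin K {z}) := by
    refine (IntermediateField.isSeparable_adjoin_simple_iff_isSeparable K L).2 ?_
    have hsep : (X ^ p - X - C ξ : K[X]).Separable := by
      rw [separable_def, derivative_sub, derivative_C, sub_zero, derivative_sub, derivative_X_pow, derivative_X,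
        CharP.cast_eq_zero K p, C_0, zero_mul, zero_sub]
      exact ⟨0, -1, by ring⟩
    exact hsep.of_dvd (minpoly.dvd K z (by simp [hz]))
  exact AlgEquiv.Algebra.isSeparable ((IntermediateField.equivOfEq hgen).trans IntermediateField.topEquiv)

/-- Integral or `p`-divisible pole with residue not a `p`-th power: weakly unramified. -/
theorem as_step_unramified (hp : p.Prime) {π : A} (hπ : maximalIdeal A = Ideal.span {π}) {ξ : K} {z : L}
    (hz : z ^ p - z = algebraMap K L ξ) (hgen : IntermediateField.adjoin K {z} = ⊤)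
    (h : (∃ a : A, algebraMap A K a = ξ) ∨ ∃ (n : ℕ) (a : A), 0 < n ∧ p ∣ n ∧
      (∀ r : A, residue A a ≠ residue A r ^ p) ∧ ξ * algebraMap A K π ^ n = algebraMap A K a)
    (W : ValuationSubring L) (hW : EtRam.Dominates A (algebraMap A L) W) :
    ∀ x, W.valuation x < 1 → ∃ w ∈ W, x = algebraMap A L π * w := by
  obtain ⟨hfd, -, hsep, he⟩ := as_finite (A := A) hp hz hgen
  haveI := hfd
  haveI := hsep
  obtain ⟨hmon, hdeg, hder⟩ := asPoly (A := A) K hp
  letI : Algebra A W := (RingHom.codRestrict (algebraMap A L) W hW.1).toAlgebra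
  haveI : IsLocalHom (algebraMap A W) := isLocalHom_dom W hW
  haveI : CharP A p := RingHom.charP _ (IsFractionRing.injective A K) p
  haveI : CharP (ResidueField A) p := (CharP.charP_iff_prime_eq_zero hp).2 (by
    rw [← map_natCast (residue A), CharP.cast_eq_zero, map_zero])
  have hwu : EtRam.IsWeaklyUnramified A W := by
    rcases h with ⟨a, rfl⟩ | ⟨n, a, hn, hpn, hna, hξ⟩
    · have hu : EtRam.IsUnramifiedExt A (algebraMap A L) :=
        unramified_of_integral (K := K) hmon (hdeg.symm ▸ hp.pos) (neg_ne_zero.2 one_ne_zero) hder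
          (he.trans (IsScalarTower.algebraMap_apply A K L a).symm) hgen
      exact (hu W hW).1
    · exact ((case4_of_pole hp hmon hdeg hπ he hgen hn hpn hna hξ).1.2.2 W hW).1
  intro x hx
  have hxm : (⟨x, (W.valuation_le_one_iff _).1 hx.le⟩ : W) ∈ maximalIdeal W := (W.valuation_lt_one_iff _).2 hx
  rw [← hwu, hπ, Ideal.map_span, Set.image_singleton, Ideal.mem_span_singleton'] at hxm
  obtain ⟨w, hw⟩ := hxm
  exact ⟨w, w.2, (congrArg Subtype.val hw).symm.trans (mul_comm _ _)⟩

/-- Pole prime to `p`: totally ramified, with a monomial uniformizer. -/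
theorem as_step_ramified (hp : p.Prime) {π : A} (hπ : maximalIdeal A = Ideal.span {π}) {ξ : K} {z : L}
    (hz : z ^ p - z = algebraMap K L ξ) (hgen : IntermediateField.adjoin K {z} = ⊤) {n : ℕ} (hn : 0 < n)
    (hpn : ¬ p ∣ n) {a : A} (ha : IsUnit a) (hξ : ξ * algebraMap A K π ^ n = algebraMap A K a) {i j : ℕ}
    (hij : p * j = n * i + 1) :
    EtRam.IsTotallyRamified A (algebraMap A L) ∧ Module.finrank K L = p ∧
      ∀ (W : ValuationSubring L), EtRam.Dominates A (algebraMap A L) W →
        W.valuation (z ^ i * algebraMap A L π ^ j) < 1 ∧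
          ∀ x, W.valuation x < 1 → ∃ w ∈ W, x = (z ^ i * algebraMap A L π ^ j) * w := by
  obtain ⟨hfd, hfin, hsep, he⟩ := as_finite (A := A) hp hz hgen
  haveI := hfd
  haveI := hsep
  obtain ⟨hmon, hdeg, -⟩ := asPoly (A := A) K hp
  obtain ⟨htot, hrk⟩ := case3_of_pole hp hmon hdeg hπ he hgen hn hpn ha hξ
  refine ⟨htot, hrk, fun W hW => span_of_pow (K := K) hp.one_lt hfin hπ (fun V hV => ?_) W hW⟩
  have hπm : π ∈ maximalIdeal A := hπ ▸ Ideal.mem_span_singleton_self π
  obtain ⟨-, heq⟩ := valuation_aeval_sub_lt hV hmon (one_lt_valuation_root hV hn hπm ha hξ he)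
  have h1 := valuation_rhs hV ha hξ
  rw [← he, heq, hdeg] at h1
  rw [map_mul, map_pow, map_pow, mul_pow, ← pow_mul (V.valuation (algebraMap A L π)) j p, mul_comm j p, hij,
    pow_succ, ← mul_assoc, pow_mul, ← pow_mul (V.valuation z) i p, mul_comm i p, pow_mul, ← mul_pow, h1, one_pow,
    one_mul]

end Groth.Agent.H1Ram
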