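import Groth.Agent.H1Ram.Trichotomy
import Groth.Agent.S7150

/-!
# Normal form of an Artin–Schreier datum after a totally ramified root extension
-/

set_option autoImplicit false

universe u

open IsLocalRing Polynomial

namespace Groth.Agent.H1Ram

/-- In characteristic `p` the quotient of a DVR by a power of the maximal ideal has an additive,
multiplicatively compatible system of representatives, constant on a perfect residue subfield. -/
theorem exists_representatives {p : ℕ} (hp : p.Prime) {A B : Type u} [CommRing A] [IsLocalRing A] [CommRing B]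
    [IsDomain B] [IsDiscreteValuationRing B] [CharP B p] [Algebra A B] [IsLocalHom (algebraMap A B)]
    (hperf : ∀ x : ResidueField A, ∃ y, y ^ p = x) {π : B} (hπ : maximalIdeal B = Ideal.span {π}) {N : ℕ}
    (hN : 0 < N) :
    ∃ τ : ResidueField B → B, (∀ r, residue B (τ r) = r) ∧
      (∀ x y, τ (x + y) - (τ x + τ y) ∈ Ideal.span {π ^ N}) ∧ (∀ x, τ (x ^ p) - τ x ^ p ∈ Ideal.span {π ^ N}) ∧
      (τ 0 ∈ Ideal.span {π ^ N}) ∧
      ∀ x : ResidueField A, ∃ α : A, residue A α = x ∧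
        τ (algebraMap (ResidueField A) (ResidueField B) x) - algebraMap A B α ∈ Ideal.span {π ^ N} := by
  classical
  haveI : Fact p.Prime := ⟨hp⟩
  let J : Ideal B := Ideal.span {π ^ N}
  have hJle : J ≤ maximalIdeal B := by
    rw [Ideal.span_singleton_le_iff_mem, hπ, Ideal.mem_span_singleton]
    exact dvd_pow_self _ hN.ne'
  have hJne : J ≠ ⊤ := fun h => (maximalIdeal.isMaximal B).ne_top (top_le_iff.1 (h ▸ hJle))
  haveI : Nontrivial (B ⧸ J) := Ideal.Quotient.nontrivial_iff.2 hJne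
  haveI : IsLocalRing (B ⧸ J) := IsLocalRing.of_surjective' (Ideal.Quotient.mk J) Ideal.Quotient.mk_surjective
  haveI : IsLocalHom (Ideal.Quotient.mk J) := IsLocalHom.of_surjective _ Ideal.Quotient.mk_surjective
  haveI : CharP (B ⧸ J) p := (CharP.charP_iff_prime_eq_zero hp).2 (by
    rw [← map_natCast (Ideal.Quotient.mk J), CharP.cast_eq_zero, map_zero])
  have hnil : ∃ n, maximalIdeal (B ⧸ J) ^ n = ⊥ := by
    refine ⟨N, ?_⟩
    rw [← IsLocalRing.map_maximalIdeal_of_surjective _ Ideal.Quotient.mk_surjective, ← Ideal.map_pow, hπ,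
      Ideal.span_singleton_pow]
    exact Ideal.map_quotient_self J
  obtain ⟨⟨σ, hσ⟩, -⟩ := S7150.result p hp (B ⧸ J) hnil
  let e : ResidueField B →+* ResidueField (B ⧸ J) := ResidueField.map (Ideal.Quotient.mk J)
  have hres : ∀ (b : B) (r : ResidueField B), Ideal.Quotient.mk J b = σ (e r) → residue B b = r := by
    intro b r h
    apply e.injective
    have h' := congrArg (residue (B ⧸ J)) h
    rw [← RingHom.comp_apply (residue (B ⧸ J)) σ, hσ] at h'
    exact (ResidueField.map_residue _ b).trans h'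
  have hex : ∀ r : ResidueField B, ∃ b : B, Ideal.Quotient.mk J b = σ (e r) :=
    fun r => Ideal.Quotient.mk_surjective _
  choose τ hτ using hex
  have hmem : ∀ b b', Ideal.Quotient.mk J b = Ideal.Quotient.mk J b' → b - b' ∈ J := fun b b' h =>
    Ideal.Quotient.eq.1 h
  refine ⟨τ, fun r => hres _ _ (hτ r), fun x y => hmem _ _ (by simp only [map_add, hτ]),
    fun x => hmem _ _ (by simp only [map_pow, hτ]), ?_, fun x => ?_⟩
  · rw [← Ideal.Quotient.eq_zero_iff_mem, hτ, map_zero, map_zero]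
  · have hroot : ∀ k : ℕ, ∀ z : ResidueField A, ∃ y, y ^ p ^ k = z := by
      intro k
      induction k with
      | zero => exact fun z => ⟨z, by rw [pow_zero, pow_one]⟩
      | succ k ih =>
        intro z
        obtain ⟨y, hy⟩ := hperf z
        obtain ⟨w, hw⟩ := ih y
        exact ⟨w, by rw [pow_succ, pow_mul, hw, hy]⟩
    obtain ⟨y, hy⟩ := hroot N x
    obtain ⟨α₀, rfl⟩ := residue_surjective y
    refine ⟨α₀ ^ p ^ N, by rw [map_pow, hy], hmem _ _ ?_⟩
    rw [hτ, map_pow, map_pow, ← hy, map_pow, map_pow, map_pow]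
    have h1 : σ (e (algebraMap (ResidueField A) (ResidueField B) (residue A α₀))) -
        Ideal.Quotient.mk J (algebraMap A B α₀) ∈ maximalIdeal (B ⧸ J) := by
      rw [← residue_eq_zero_iff, map_sub, ← RingHom.comp_apply (residue (B ⧸ J)) σ, hσ, RingHom.id_apply,
        sub_eq_zero, ResidueField.algebraMap_residue]
      exact ResidueField.map_residue _ _
    obtain ⟨n, hn⟩ := hnil
    have h2 : ∀ k : ℕ, (σ (e (algebraMap (ResidueField A) (ResidueField B) (residue A α₀))) -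
        Ideal.Quotient.mk J (algebraMap A B α₀)) ^ p ^ k ∈ maximalIdeal (B ⧸ J) ^ p ^ k :=
      fun k => Ideal.pow_mem_pow h1 _
    have hbot : maximalIdeal (B ⧸ J) ^ p ^ N = ⊥ := by
      refine le_bot_iff.1 ((Ideal.pow_le_pow_right (Nat.lt_pow_self hp.one_lt).le).trans ?_)
      rw [← IsLocalRing.map_maximalIdeal_of_surjective _ Ideal.Quotient.mk_surjective, ← Ideal.map_pow, hπ,
        Ideal.span_singleton_pow]
      exact (Ideal.map_quotient_self J).le
    have h3 := h2 N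
    rw [hbot, Ideal.mem_bot, sub_pow_char_pow, sub_eq_zero] at h3
    exact h3

/-- The normal form. -/
theorem exists_normalForm {p : ℕ} (hp : p.Prime) {A B : Type u} [CommRing A] [IsLocalRing A] [CommRing B]
    [IsDomain B] [IsDiscreteValuationRing B] [CharP B p] [Algebra A B] [IsLocalHom (algebraMap A B)]
    {π : B} (hπ : maximalIdeal B = Ideal.span {π})
    (hk : ∀ x : ResidueField B, (∀ n : ℕ, ∃ y : ResidueField B, y ^ (p ^ n) = x) ↔
      x ∈ Set.range (algebraMap (ResidueField A) (ResidueField B)))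
    (n : ℕ) (a : B) :
    ∃ (m N P Q : ℕ) (cS : B[X]) (cT : A[X]), 0 < m ∧
      (cS = 0 ∨ (0 < P ∧ p ∣ P ∧ ∀ r : B, residue B (cS.coeff 0) ≠ residue B r ^ p)) ∧
      (cT = 0 ∨ (0 < Q ∧ ¬ p ∣ Q ∧ IsUnit (cT.coeff 0))) ∧
      ∀ (F : Type u) [Field F] [CharP F p] [Algebra B F] (V : ValuationSubring F) (s : F),
        (∀ b, algebraMap B F b ∈ V) → V.valuation s < 1 → algebraMap B F π ≠ 0 →
        s ^ p ^ m + algebraMap B F π ^ (N + 2) * s = algebraMap B F π →
        ∃ w : F, ∃ v ∈ V, algebraMap B F a / algebraMap B F π ^ n =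
          aeval s cS / s ^ P + aeval s (cT.map (algebraMap A B)) / s ^ Q + (w ^ p - w) + v := by
  classical
  haveI : Fact p.Prime := ⟨hp⟩
  let ι := algebraMap (ResidueField A) (ResidueField B)
  have hperf : ∀ x : ResidueField A, ∃ y, y ^ p = x := by
    intro x
    obtain ⟨y, hy⟩ := (hk (ι x)).2 ⟨x, rfl⟩ 1
    rw [pow_one] at hy
    have hyr : y ∈ Set.range ι := by
      refine (hk y).1 fun k => ?_
      obtain ⟨z, hz⟩ := (hk (ι x)).2 ⟨x, rfl⟩ (k + 1)
      haveI : CharP (ResidueField B) p := (CharP.charP_iff_prime_eq_zero hp).2 (by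
        rw [← map_natCast (residue B), CharP.cast_eq_zero, map_zero])
      exact ⟨z, frobenius_inj (ResidueField B) p (by
        rw [frobenius_def, frobenius_def, ← pow_mul, ← pow_succ, hz, hy])⟩
    obtain ⟨y', hy'⟩ := hyr
    exact ⟨y', ι.injective (by rw [map_pow, hy', hy])⟩
  haveI : CharP (ResidueField B) p := (CharP.charP_iff_prime_eq_zero hp).2 (by
    rw [← map_natCast (residue B), CharP.cast_eq_zero, map_zero])
  obtain ⟨τ, hτres, hτadd, hτpow, hτ0, hτA⟩ :=
    exists_representatives (N := n * p ^ n + 1) hp hperf hπ (Nat.succ_pos _)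
  -- the expansion
  have hexp : ∀ k, ∃ (r : ℕ → ResidueField B) (b : B),
      a = ∑ j ∈ Finset.range k, τ (r j) * π ^ j + π ^ k * b := by
    intro k
    induction k with
    | zero => exact ⟨0, a, by simp⟩
    | succ k ih =>
      obtain ⟨r, b, hb⟩ := ih
      have hd : b - τ (residue B b) ∈ maximalIdeal B := by
        rw [← residue_eq_zero_iff, map_sub, hτres, sub_self]
      rw [hπ, Ideal.mem_span_singleton] at hd
      obtain ⟨b', hb'⟩ := hd
      refine ⟨Function.update r k (residue B b), b', ?_⟩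
      rw [Finset.sum_range_succ, Function.update_self,
        Finset.sum_congr rfl fun j hj => by rw [Function.update_of_ne (Finset.mem_range.1 hj).ne], hb, pow_succ,
        show b = τ (residue B b) + π * b' by rw [← hb']; ring]
      rw [show τ (residue B (τ (residue B b) + π * b')) = τ (residue B b) by
        rw [← hb', add_sub_cancel]]
      ring
  obtain ⟨r, b₀, hr⟩ := hexp n
  -- grouping by the part prime to `p`
  let I : Finset ℕ := (Finset.Icc 1 n).image fun i => ordCompl[p] i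
  let R : ℕ → ResidueField B := fun i₀ =>
    ∑ i ∈ (Finset.Icc 1 n).filter (fun i => ordCompl[p] i = i₀), r (n - i) ^ p ^ (n - i.factorization p)
  have hI : ∀ i₀ ∈ I, 0 < i₀ ∧ i₀ ≤ n ∧ ¬ p ∣ i₀ := by
    intro i₀ hi₀
    obtain ⟨i, hi', rfl⟩ := Finset.mem_image.1 hi₀
    have hi : 1 ≤ i ∧ i ≤ n := Finset.mem_Icc.1 hi'
    exact ⟨Nat.ordCompl_pos p (by omega), (Nat.ordCompl_le i p).trans hi.2, Nat.not_dvd_ordCompl hp (by omega)⟩
  have hdec : ∀ i₀, R i₀ ∉ Set.range ι → ∃ (j : ℕ) (c : ResidueField B), R i₀ = c ^ p ^ j ∧ ∀ d, c ≠ d ^ p := by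
    intro i₀ h
    have h' : ¬ ∀ k : ℕ, ∃ y : ResidueField B, y ^ p ^ k = R i₀ := fun h' => h ((hk _).1 h')
    push Not at h'
    obtain ⟨k, hk'⟩ : ∃ k, ∀ y : ResidueField B, y ^ p ^ k ≠ R i₀ := h'
    have hmin : ∀ k, (∀ y : ResidueField B, y ^ p ^ k ≠ R i₀) →
        ∃ (j : ℕ) (c : ResidueField B), R i₀ = c ^ p ^ j ∧ ∀ d, c ≠ d ^ p := by
      intro k
      induction k with
      | zero => intro h; exact absurd (by rw [pow_zero, pow_one]) (h (R i₀))
      | succ k ih =>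
        intro h
        by_cases h2 : ∀ y : ResidueField B, y ^ p ^ k ≠ R i₀
        · exact ih h2
        push Not at h2
        obtain ⟨c, hc⟩ := h2
        exact ⟨k, c, hc.symm, fun d hd => h d (by rw [pow_succ', pow_mul, ← hd, hc])⟩
    exact hmin k hk'
  choose! j c hjc hc using hdec
  let S : Finset ℕ := I.filter fun i₀ => R i₀ ∉ Set.range ι
  let T : Finset ℕ := I.filter fun i₀ => R i₀ ∈ Set.range ι ∧ R i₀ ≠ 0
  let m : ℕ := S.sup j + 1
  have hrootA : ∀ i₀ ∈ T, ∃ α : A, residue A α ≠ 0 ∧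
      ∃ x : ResidueField A, ι x ^ p ^ (m + n) = R i₀ ∧ τ (ι x) - algebraMap A B α ∈
        Ideal.span {π ^ (n * p ^ n + 1)} := by
    intro i₀ hi
    obtain ⟨⟨x, hx⟩, hne⟩ := (Finset.mem_filter.1 hi).2
    have hroot : ∀ k : ℕ, ∀ z : ResidueField A, ∃ y, y ^ p ^ k = z := by
      intro k
      induction k with
      | zero => exact fun z => ⟨z, by rw [pow_zero, pow_one]⟩
      | succ k ih =>
        intro z
        obtain ⟨y, hy⟩ := hperf z
        obtain ⟨w, hw⟩ := ih y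
        exact ⟨w, by rw [pow_succ, pow_mul, hw, hy]⟩
    obtain ⟨y, hy⟩ := hroot (m + n) x
    obtain ⟨α, hα, hτα⟩ := hτA y
    refine ⟨α, ?_, y, by rw [← map_pow, hy, hx], hτα⟩
    rw [hα]
    rintro rfl
    rw [zero_pow (pow_ne_zero _ hp.ne_zero)] at hy
    exact hne (by rw [← hx, ← hy, map_zero])
  choose! α hα xA hxA hτα using hrootA
  let pos : ℕ → ℕ := fun i₀ => i₀ * p ^ (m + n - j i₀)
  have hjm : ∀ i₀ ∈ S, j i₀ < m := fun i₀ hi => Nat.lt_succ_of_le (Finset.le_sup hi)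
  have hposinj : ∀ i ∈ S, ∀ i' ∈ S, pos i = pos i' → i = i' := by
    intro i hi i' hi' h
    have h' := congrArg (fun x => ordCompl[p] x) h
    simp only [pos] at h'
    rwa [Nat.ordCompl_mul, Nat.ordCompl_mul, Nat.ordCompl_self_pow hp, Nat.ordCompl_self_pow hp, mul_one, mul_one,
      (Nat.ordCompl_eq_self_iff_zero_or_not_dvd _ hp).2 (Or.inr (hI _ (Finset.mem_filter.1 hi).1).2.2),
      (Nat.ordCompl_eq_self_iff_zero_or_not_dvd _ hp).2 (Or.inr (hI _ (Finset.mem_filter.1 hi').1).2.2)] at h'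
  refine ⟨m, n * p ^ n, S.sup pos, T.sup id, ∑ i ∈ S, C (τ (c i)) * X ^ (S.sup pos - pos i),
    ∑ i ∈ T, C (α i) * X ^ (T.sup id - i), Nat.succ_pos _, ?_, ?_, ?_⟩
  · rcases S.eq_empty_or_nonempty with h | h
    · exact Or.inl (by rw [h, Finset.sum_empty])
    obtain ⟨i₁, hi₁, hmax⟩ := Finset.exists_mem_eq_sup S h pos
    have hpos : 0 < pos i₁ := Nat.mul_pos (hI _ (Finset.mem_filter.1 hi₁).1).1 (Nat.pow_pos hp.pos)
    refine Or.inr ⟨hmax ▸ hpos, hmax ▸ ?_, fun r' hr' => ?_⟩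
    · exact Dvd.dvd.mul_left (dvd_pow_self p (by have := hjm i₁ hi₁; omega)) _
    rw [finsetSum_coeff, Finset.sum_eq_single i₁ (fun i hi hne => ?_) (fun h => absurd hi₁ h), coeff_C_mul,
      coeff_X_pow, if_pos (by rw [hmax, Nat.sub_self]), mul_one, hτres] at hr'
    · exact hc _ (Finset.mem_filter.1 hi₁).2 _ hr'
    · rw [coeff_C_mul, coeff_X_pow, if_neg, mul_zero]
      have : pos i ≤ S.sup pos := Finset.le_sup hi
      intro h0
      exact hne (hposinj i hi i₁ hi₁ (by omega))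
  · rcases T.eq_empty_or_nonempty with h | h
    · exact Or.inl (by rw [h, Finset.sum_empty])
    obtain ⟨i₁, hi₁, hmax⟩ := Finset.exists_mem_eq_sup T h id
    refine Or.inr ⟨hmax ▸ (hI _ (Finset.mem_filter.1 hi₁).1).1, hmax ▸ (hI _ (Finset.mem_filter.1 hi₁).1).2.2, ?_⟩
    rw [finsetSum_coeff, Finset.sum_eq_single i₁ (fun i hi hne => ?_) (fun h => absurd hi₁ h), coeff_C_mul,
      coeff_X_pow, if_pos (by rw [hmax]; exact (Nat.sub_self _).symm), mul_one]
    · exact IsLocalRing.notMem_maximalIdeal.1 fun hu => hα _ hi₁ ((residue_eq_zero_iff _).2 hu)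
    · rw [coeff_C_mul, coeff_X_pow, if_neg, mul_zero]
      have : i ≤ T.sup id := Finset.le_sup (f := id) hi
      have : T.sup id = i₁ := hmax
      omega
  -- the identity
  intro F _ _ _ V s hBV hs hπ0 hsπ
  let φ := algebraMap B F
  obtain ⟨N, hNdef⟩ : ∃ N, N = n * p ^ n := ⟨_, rfl⟩
  rw [← hNdef] at hsπ hτadd hτpow hτ0 hτα
  have hs0 : s ≠ 0 := by
    rintro rfl
    rw [zero_pow (pow_ne_zero _ hp.ne_zero), zero_add, mul_zero] at hsπ
    exact hπ0 hsπ.symm
  have hsV : s ∈ V := (V.valuation_le_one_iff _).1 hs.le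
  obtain ⟨ε, hεdef⟩ : ∃ e, e = 1 - φ π ^ (N + 1) * s := ⟨_, rfl⟩
  have hsq : s ^ p ^ m = φ π * ε := by rw [hεdef]; linear_combination hsπ
  have hε : V.valuation ε = 1 := by
    rw [hεdef]
    refine V.valuation.map_one_sub_of_lt ?_
    rw [map_mul, mul_comm]
    exact mul_lt_one_of_lt_of_le hs ((V.valuation_le_one_iff _).2 (pow_mem (hBV π) _))
  have hε0 : ε ≠ 0 := fun h => by rw [h, map_zero] at hε; exact zero_ne_one hε
  have hεinv : ε⁻¹ ∈ V := (V.valuation_le_one_iff _).1 (by rw [map_inv₀, hε, inv_one])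
  haveI : ExpChar F p := .prime hp
  let S₀ : AddSubgroup F :=
    { carrier := {x | ∃ w : F, ∃ v ∈ V, x = (w ^ p - w) + v}
      add_mem' := by
        rintro _ _ ⟨w, v, hv, rfl⟩ ⟨w', v', hv', rfl⟩
        exact ⟨w + w', v + v', V.add_mem _ _ hv hv', by rw [add_pow_char]; ring⟩
      zero_mem' := ⟨0, 0, V.zero_mem, by simp [hp.ne_zero]⟩
      neg_mem' := by
        rintro _ ⟨w, v, hv, rfl⟩
        refine ⟨-w, -v, V.neg_mem _ hv, ?_⟩
        rw [show (-w) ^ p = -(w ^ p) from map_neg (frobenius F p) w]; ring }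
  have hV₀ : ∀ v ∈ V, v ∈ S₀ := fun v hv => ⟨0, v, hv, by simp [hp.ne_zero]⟩
  have hAS : ∀ w : F, w ^ p - w ∈ S₀ := fun w => ⟨w, 0, V.zero_mem, by rw [add_zero]⟩
  -- `π^(N+1)` kills poles up to `q N`
  have hkill : ∀ x ∈ Ideal.span {π ^ (N + 1)}, ∀ l ≤ p ^ m * (N + 1), φ x / s ^ l ∈ S₀ := by
    intro x hx l hl
    obtain ⟨x', rfl⟩ := Ideal.mem_span_singleton'.1 hx
    refine hV₀ _ ?_
    have : φ (x' * π ^ (N + 1)) / s ^ l = φ x' * ((ε⁻¹) ^ (N + 1) * s ^ (p ^ m * (N + 1) - l)) := by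
      rw [map_mul, map_pow, div_eq_iff (pow_ne_zero _ hs0), mul_assoc, mul_assoc, ← pow_add,
        Nat.sub_add_cancel hl, pow_mul, hsq, mul_pow, inv_pow]
      field_simp
    rw [this]
    exact V.mul_mem _ _ (hBV _) (V.mul_mem _ _ (pow_mem hεinv _) (pow_mem hsV _))
  let Θ : ℕ → ResidueField B → F ⧸ S₀ := fun l x => ((φ (τ x) / s ^ l : F) : F ⧸ S₀)
  have hΘadd : ∀ l ≤ p ^ m * (N + 1), ∀ x y, Θ l (x + y) = Θ l x + Θ l y := by
    intro l hl x y
    show QuotientAddGroup.mk _ = QuotientAddGroup.mk (φ (τ x) / s ^ l + φ (τ y) / s ^ l)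
    rw [QuotientAddGroup.eq_iff_sub_mem, ← add_div, ← map_add, ← sub_div, ← map_sub]
    exact hkill _ (hτadd x y) l hl
  have hΘzero : ∀ l ≤ p ^ m * (N + 1), Θ l 0 = 0 := fun l hl =>
    (QuotientAddGroup.eq_zero_iff _).2 (hkill _ hτ0 l hl)
  have hΘpow : ∀ l, l * p ≤ p ^ m * (N + 1) → ∀ x, Θ (l * p) (x ^ p) = Θ l x := by
    intro l hl x
    show QuotientAddGroup.mk _ = QuotientAddGroup.mk _
    rw [QuotientAddGroup.eq_iff_sub_mem]
    have e : φ (τ (x ^ p)) / s ^ (l * p) - φ (τ x) / s ^ l =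
        φ (τ (x ^ p) - τ x ^ p) / s ^ (l * p) + ((φ (τ x) / s ^ l) ^ p - φ (τ x) / s ^ l) := by
      rw [div_pow, ← pow_mul, map_sub, map_pow, sub_div]; ring
    rw [e]
    exact add_mem (hkill _ (hτpow x) _ hl) (hAS _)
  have hΘpows : ∀ k l, l * p ^ k ≤ p ^ m * (N + 1) → ∀ x, Θ (l * p ^ k) (x ^ p ^ k) = Θ l x := by
    intro k
    induction k with
    | zero => intro l _ x; rw [pow_zero, mul_one, pow_one]
    | succ k ih =>
      intro l hl x
      rw [pow_succ] at hl ⊢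
      rw [← mul_assoc, pow_mul, hΘpow _ (by rwa [mul_assoc]), ih _ (le_trans (Nat.le_mul_of_pos_right _ hp.pos)
        (by rwa [mul_assoc]))]
  have hΘsum : ∀ l ≤ p ^ m * (N + 1), ∀ (J : Finset ℕ) (f : ℕ → ResidueField B),
      Θ l (∑ i ∈ J, f i) = ∑ i ∈ J, Θ l (f i) := by
    intro l hl J f
    induction J using Finset.induction with
    | empty => rw [Finset.sum_empty, Finset.sum_empty, hΘzero l hl]
    | insert a J ha ih => rw [Finset.sum_insert ha, Finset.sum_insert ha, hΘadd l hl, ih]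
  have hbound : ∀ i₀ ∈ I, i₀ * p ^ (m + n) ≤ p ^ m * (N + 1) := by
    intro i₀ hi
    rw [pow_add, mul_left_comm, hNdef]
    exact Nat.mul_le_mul_left _ (Nat.le_succ_of_le (Nat.mul_le_mul_right _ (hI _ hi).2.1))
  -- left hand side
  have h1 : ((φ a / φ π ^ n : F) : F ⧸ S₀) = ∑ i ∈ Finset.Icc 1 n, Θ (p ^ m * i) (r (n - i)) := by
    have e : φ a / φ π ^ n = (∑ j ∈ Finset.range n, φ (τ (r j)) / φ π ^ (n - j)) + φ b₀ := by
      conv_lhs => rw [hr]
      rw [map_add, map_sum, map_mul, map_pow, add_div, Finset.sum_div, mul_div_cancel_left₀ _ (pow_ne_zero _ hπ0)]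
      congr 1
      refine Finset.sum_congr rfl fun j hj => ?_
      rw [map_mul, map_pow, div_eq_div_iff (pow_ne_zero _ hπ0) (pow_ne_zero _ hπ0), mul_assoc, ← pow_add,
        Nat.add_sub_cancel' (Finset.mem_range.1 hj).le]
    rw [e, QuotientAddGroup.mk_add, (QuotientAddGroup.eq_zero_iff _).2 (hV₀ _ (hBV b₀)), add_zero]
    show QuotientAddGroup.mk' S₀ (∑ j ∈ Finset.range n, φ (τ (r j)) / φ π ^ (n - j)) = _
    rw [map_sum]
    refine Finset.sum_nbij' (fun j => n - j) (fun i => n - i) ?_ ?_ ?_ ?_ ?_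
    · intro j hj
      simp at hj ⊢
      omega
    · intro i hi
      simp at hi ⊢
      omega
    · intro j hj
      simp at hj
      omega
    · intro i hi
      simp at hi
      omega
    intro j hj
    rw [Finset.mem_range] at hj
    rw [show n - (n - j) = j by omega]
    show QuotientAddGroup.mk _ = QuotientAddGroup.mk _
    rw [QuotientAddGroup.eq_iff_sub_mem]
    refine hV₀ _ ?_
    obtain ⟨i, hi, hin⟩ : ∃ i, i = n - j ∧ i ≤ N + 1 := ⟨_, rfl, by
      rw [hNdef]; exact le_trans (Nat.sub_le _ _) (Nat.le_succ_of_le (Nat.le_mul_of_pos_right _ (Nat.pow_pos hp.pos)))⟩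
    rw [← hi]
    have e2 : φ (τ (r j)) / φ π ^ i - φ (τ (r j)) / s ^ (p ^ m * i) =
        φ (τ (r j)) * ((φ π ^ (N + 1 - i) * s) * (-(∑ k ∈ Finset.range i, ε ^ k))) * (ε⁻¹) ^ i := by
      have hg := geom_sum_mul ε i
      rw [show ε - 1 = -(φ π ^ (N + 1 - i) * s * φ π ^ i) by
        rw [hεdef, show φ π ^ (N + 1) = φ π ^ (N + 1 - i) * φ π ^ i by
          rw [← pow_add, Nat.sub_add_cancel hin]]
        ring] at hg
      have key : ∀ t P E X G : F, P ≠ 0 → E ≠ 0 → G * (-(X * P)) = E - 1 →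
          t / P - t / (P * E) = t * (X * -G) * E⁻¹ := by
        intro t P E X G hP hE h
        field_simp
        linear_combination -h * t
      rw [pow_mul s, hsq, mul_pow, inv_pow]
      exact key _ _ _ _ _ (pow_ne_zero _ hπ0) (pow_ne_zero _ hε0) hg
    rw [e2]
    refine V.mul_mem _ _ (V.mul_mem _ _ (hBV _) (V.mul_mem _ _ (V.mul_mem _ _ (pow_mem (hBV π) _) hsV)
      (V.neg_mem _ (sum_mem fun k _ => pow_mem ?_ _)))) (pow_mem hεinv _)
    exact (V.valuation_le_one_iff _).1 hε.le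
  have h2 : ∑ i ∈ Finset.Icc 1 n, Θ (p ^ m * i) (r (n - i)) = ∑ i₀ ∈ I, Θ (i₀ * p ^ (m + n)) (R i₀) := by
    rw [← Finset.sum_fiberwise_of_maps_to (fun i hi => Finset.mem_image_of_mem (fun i => ordCompl[p] i) hi)]
    refine Finset.sum_congr rfl fun i₀ hi₀ => ?_
    rw [hΘsum _ (hbound i₀ hi₀)]
    refine Finset.sum_congr rfl fun i hi => ?_
    obtain ⟨hi1, hi2⟩ := Finset.mem_filter.1 hi
    rw [Finset.mem_Icc] at hi1
    have hv : i.factorization p ≤ n :=
      ((Nat.lt_pow_self hp.one_lt).le.trans (Nat.le_of_dvd (by omega) (Nat.ordProj_dvd i p))).trans hi1.2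
    have he : i₀ * p ^ (m + n) = p ^ m * i * p ^ (n - i.factorization p) := by
      have hio : p ^ i.factorization p * i₀ = i := hi2 ▸ Nat.ordProj_mul_ordCompl_eq_self i p
      calc i₀ * p ^ (m + n) = i₀ * (p ^ m * (p ^ i.factorization p * p ^ (n - i.factorization p))) := by
            rw [← pow_add, Nat.add_sub_cancel' hv, ← pow_add]
        _ = p ^ m * (p ^ i.factorization p * i₀) * p ^ (n - i.factorization p) := by ring
        _ = _ := by rw [hio]
    rw [he, hΘpows _ _ (he ▸ hbound i₀ hi₀)]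
  have h3 : ∀ i₀ ∈ I, Θ (i₀ * p ^ (m + n)) (R i₀) =
      (if i₀ ∈ S then Θ (pos i₀) (c i₀) else 0) +
        (if i₀ ∈ T then ((φ (algebraMap A B (α i₀)) / s ^ i₀ : F) : F ⧸ S₀) else 0) := by
    intro i₀ hi₀
    by_cases hr₀ : R i₀ ∈ Set.range ι
    · rw [if_neg (show i₀ ∉ S from fun h => (Finset.mem_filter.1 h).2 hr₀), zero_add]
      by_cases hr1 : R i₀ = 0
      · rw [if_neg (show i₀ ∉ T from fun h => (Finset.mem_filter.1 h).2.2 hr1), hr1, hΘzero _ (hbound i₀ hi₀)]
      · have hT : i₀ ∈ T := Finset.mem_filter.2 ⟨hi₀, hr₀, hr1⟩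
        rw [if_pos hT, ← hxA i₀ hT, hΘpows _ _ (hbound i₀ hi₀)]
        show QuotientAddGroup.mk _ = QuotientAddGroup.mk _
        rw [QuotientAddGroup.eq_iff_sub_mem, ← sub_div, ← map_sub]
        exact hkill _ (hτα i₀ hT) _ (le_trans (Nat.le_mul_of_pos_right _ (Nat.pow_pos hp.pos)) (hbound i₀ hi₀))
    · have hS : i₀ ∈ S := Finset.mem_filter.2 ⟨hi₀, hr₀⟩
      rw [if_pos hS, if_neg (show i₀ ∉ T from fun h => hr₀ (Finset.mem_filter.1 h).2.1), add_zero, hjc i₀ hr₀]
      have he : i₀ * p ^ (m + n) = pos i₀ * p ^ j i₀ := by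
        show _ = i₀ * p ^ (m + n - j i₀) * p ^ j i₀
        rw [mul_assoc, ← pow_add, Nat.sub_add_cancel (by have := hjm i₀ hS; omega)]
      rw [he, hΘpows _ _ (he ▸ hbound i₀ hi₀)]
  have h4 : aeval s (∑ i ∈ S, C (τ (c i)) * X ^ (S.sup pos - pos i)) / s ^ S.sup pos =
      ∑ i ∈ S, φ (τ (c i)) / s ^ pos i := by
    rw [map_sum, Finset.sum_div]
    refine Finset.sum_congr rfl fun i hi => ?_
    rw [map_mul, map_pow, aeval_X, aeval_C, div_eq_div_iff (pow_ne_zero _ hs0) (pow_ne_zero _ hs0), mul_assoc,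
      ← pow_add, Nat.sub_add_cancel (Finset.le_sup hi)]
  have h5 : aeval s ((∑ i ∈ T, C (α i) * X ^ (T.sup id - i)).map (algebraMap A B)) / s ^ T.sup id =
      ∑ i ∈ T, φ (algebraMap A B (α i)) / s ^ i := by
    rw [Polynomial.map_sum, map_sum, Finset.sum_div]
    refine Finset.sum_congr rfl fun i hi => ?_
    rw [Polynomial.map_mul, Polynomial.map_pow, map_X, map_C, map_mul, map_pow, aeval_X, aeval_C,
      div_eq_div_iff (pow_ne_zero _ hs0) (pow_ne_zero _ hs0), mul_assoc,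
      ← pow_add, Nat.sub_add_cancel (show i ≤ T.sup id from Finset.le_sup (f := id) hi)]
  have hmain : φ a / φ π ^ n - ((∑ i ∈ S, φ (τ (c i)) / s ^ pos i) +
      ∑ i ∈ T, φ (algebraMap A B (α i)) / s ^ i) ∈ S₀ := by
    rw [← QuotientAddGroup.eq_iff_sub_mem, h1, h2, Finset.sum_congr rfl h3, Finset.sum_add_distrib,
      ← Finset.sum_filter, ← Finset.sum_filter,
      Finset.filter_mem_eq_inter, Finset.filter_mem_eq_inter,
      Finset.inter_eq_right.2 (Finset.filter_subset _ _), Finset.inter_eq_right.2 (Finset.filter_subset _ _),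
      QuotientAddGroup.mk_add]
    congr 1 <;> exact (map_sum (QuotientAddGroup.mk' S₀) _ _).symm
  obtain ⟨w, v, hv, hwv⟩ := hmain
  refine ⟨w, v, hv, ?_⟩
  rw [h4, h5]
  linear_combination hwv

end Groth.Agent.H1Ram
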