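import Groth.Agent.H1Ram.ASNormalForm
import Groth.Agent.H1Ram.ASStep

/-!
# The local computation for an Artin–Schreier extension after the totally ramified base change
-/

set_option autoImplicit false

universe u

open IsLocalRing Polynomial

namespace Groth.Agent.H1Ram

/-- The value at `s` of a polynomial has the residue of the constant term. -/
theorem aeval_mem_and_sub {B F : Type u} [CommRing B] [Field F] [Algebra B F] (V : ValuationSubring F)
    (hB : ∀ b, algebraMap B F b ∈ V) {s : F} (hs : s ∈ V) (c : B[X]) :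
    ∃ w ∈ V, aeval s c = algebraMap B F (c.coeff 0) + s * w ∧ aeval s c ∈ V := by
  have hmem : ∀ c : B[X], aeval s c ∈ V := fun c => by
    rw [aeval_eq_sum_range]
    refine sum_mem fun i _ => ?_
    rw [Algebra.smul_def]
    exact V.mul_mem _ _ (hB _) (pow_mem hs _)
  refine ⟨aeval s c.divX, hmem _, ?_, hmem _⟩
  conv_lhs => rw [← X_mul_divX_add c]
  rw [map_add, map_mul, aeval_X, aeval_C, add_comm]

variable {A B L F : Type u} [CommRing A] [CommRing B] [IsDomain B] [IsDiscreteValuationRing B] [Algebra A B]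
  [Field L] [Algebra B L] [IsFractionRing B L] [Field F] [Algebra L F] [Algebra B F] [IsScalarTower B L F]

theorem as_local {p : ℕ} (hp : p.Prime) [CharP L p] {π : B} (hπ : maximalIdeal B = Ideal.span {π})
    {a : B} {n m N P Q : ℕ} {cS : B[X]} {cT : A[X]} (hm : 0 < m)
    (hS : cS = 0 ∨ (0 < P ∧ p ∣ P ∧ ∀ r : B, residue B (cS.coeff 0) ≠ residue B r ^ p))
    (hT : cT = 0 ∨ (0 < Q ∧ ¬ p ∣ Q ∧ IsUnit (cT.coeff 0)))
    (hNF : ∀ (E : Type u) [Field E] [CharP E p] [Algebra B E] (V : ValuationSubring E) (s : E),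
      (∀ b, algebraMap B E b ∈ V) → V.valuation s < 1 → algebraMap B E π ≠ 0 →
      s ^ p ^ m + algebraMap B E π ^ (N + 2) * s = algebraMap B E π →
      ∃ w : E, ∃ v ∈ V, algebraMap B E a / algebraMap B E π ^ n =
        aeval s cS / s ^ P + aeval s (cT.map (algebraMap A B)) / s ^ Q + (w ^ p - w) + v)
    {S Z x : F} (hS0 : S ^ p ^ m + algebraMap B F π ^ (N + 2) * S = algebraMap B F π)
    (hZ : Z ^ p - Z = aeval S (cT.map (algebraMap A B)) / S ^ Q)
    (hx : x ^ p - x = algebraMap B F a / algebraMap B F π ^ n)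
    (hgen : IntermediateField.adjoin L {S, Z, x} = ⊤) {i j : ℕ}
    (hij : cT ≠ 0 → p * j = Q * i + 1)
    (hZ0 : cT = 0 → Z ∈ IntermediateField.adjoin L {S})
    (W : ValuationSubring F) (hW : EtRam.Dominates B (algebraMap B F) W) :
    (cT = 0 → W.valuation S < 1 ∧ ∀ e, W.valuation e < 1 → ∃ w ∈ W, e = S * w) ∧
    (cT ≠ 0 → W.valuation (Z ^ i * S ^ j) < 1 ∧ ∀ e, W.valuation e < 1 → ∃ w ∈ W, e = (Z ^ i * S ^ j) * w) := by
  classical
  haveI : Fact p.Prime := ⟨hp⟩
  haveI : CharP F p := charP_of_injective_algebraMap (algebraMap L F).injective p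
  haveI : ExpChar F p := .prime hp
  have hq : 1 < p ^ m := Nat.one_lt_pow hm.ne' hp.one_lt
  -- the first layer
  let L₁ := IntermediateField.adjoin L ({S} : Set F)
  let s : L₁ := ⟨S, IntermediateField.mem_adjoin_simple_self L S⟩
  haveI : IsScalarTower B L L₁ := IsScalarTower.of_algebraMap_eq fun x =>
    Subtype.ext (IsScalarTower.algebraMap_apply B L F x)
  haveI : IsScalarTower B L₁ F := IsScalarTower.of_algebraMap_eq fun _ => rfl
  haveI : CharP L₁ p := charP_of_injective_algebraMap (algebraMap L L₁).injective p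
  have hs0 : s ^ p ^ m + algebraMap B L₁ π ^ (N + 2) * s = algebraMap B L₁ π := Subtype.ext hS0
  have hsgen : IntermediateField.adjoin L {s} = ⊤ := by
    refine IntermediateField.map_injective L₁.val ?_
    rw [IntermediateField.adjoin_map, Set.image_singleton, ← AlgHom.fieldRange_eq_map,
      IntermediateField.fieldRange_val]
    rfl
  obtain ⟨hfd₁, -, -, hV'⟩ := root_structure hq hπ hs0 hsgen
  haveI := hfd₁
  let V : ValuationSubring L₁ := W.comap (algebraMap L₁ F)
  have hV : EtRam.Dominates B (algebraMap B L₁) V :=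
    dominates_comap_of W (algebraMap L₁ F) _ _ (IsScalarTower.algebraMap_eq B L₁ F).symm hW
  obtain ⟨hs1, -⟩ := root_facts hq hπ hs0 V hV
  obtain ⟨hdec, hlt⟩ := hV' V hV
  have hsV : s ∈ V := (V.valuation_le_one_iff _).1 hs1.le
  haveI : IsDiscreteValuationRing V := (isDVR_of_dominates_finite V
    (show EtRam.Dominates B ((algebraMap L L₁).comp (algebraMap B L)) V by
      rw [← IsScalarTower.algebraMap_eq]; exact hV)).1
  have hmaxV : maximalIdeal V = Ideal.span {(⟨s, hsV⟩ : V)} := by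
    refine le_antisymm (fun x hx => ?_) ((Ideal.span_singleton_le_iff_mem _).2 ((V.valuation_lt_one_iff _).2 hs1))
    obtain ⟨w, hw, hxe⟩ := hlt x ((V.valuation_lt_one_iff x).1 hx)
    exact Ideal.mem_span_singleton'.2 ⟨⟨w, hw⟩, Subtype.ext (by rw [hxe]; exact mul_comm w s)⟩
  letI : Algebra B V := (RingHom.codRestrict (algebraMap B L₁) V hV.1).toAlgebra
  haveI : IsLocalHom (algebraMap B V) := isLocalHom_dom V hV
  have hπL₁ : algebraMap B L₁ π ≠ 0 := fun h =>
    ((IsDiscreteValuationRing.irreducible_iff_uniformizer π).2 hπ).ne_zero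
      (algebraMap_injective' (A := B) (L := L₁) L (h.trans (map_zero _).symm))
  obtain ⟨w, v, hv, hnf⟩ := hNF L₁ V s hV.1 hs1 hπL₁ hs0
  obtain ⟨ξ₁, hξ₁⟩ : ∃ ξ₁, ξ₁ = aeval s cS / s ^ P + v := ⟨_, rfl⟩
  obtain ⟨x₁, hx₁def⟩ : ∃ x₁, x₁ = x - Z - (w : F) := ⟨_, rfl⟩
  have hmap : ∀ c : B[X], ((aeval s c : L₁) : F) = aeval S c := fun c =>
    (aeval_algebraMap_apply F s c).symm
  have hx₁ : x₁ ^ p - x₁ = algebraMap L₁ F ξ₁ := by
    have h := congrArg (algebraMap L₁ F) hnf
    simp only [map_add, map_sub, map_div₀, map_pow, ← IsScalarTower.algebraMap_apply] at h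
    rw [hξ₁, map_add, map_div₀, map_pow]
    simp only [IntermediateField.algebraMap_apply, hmap] at h ⊢
    rw [hx₁def, sub_pow_char, sub_pow_char]
    linear_combination hx - hZ + h
  -- the second layer
  let L₂ := IntermediateField.adjoin L₁ ({x₁} : Set F)
  let y : L₂ := ⟨x₁, IntermediateField.mem_adjoin_simple_self L₁ x₁⟩
  have hy0 : y ^ p - y = algebraMap L₁ L₂ ξ₁ := Subtype.ext hx₁
  have hygen : IntermediateField.adjoin L₁ {y} = ⊤ := by
    refine IntermediateField.map_injective L₂.val ?_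
    rw [IntermediateField.adjoin_map, Set.image_singleton, ← AlgHom.fieldRange_eq_map,
      IntermediateField.fieldRange_val]
    rfl
  let V₂ : ValuationSubring L₂ := W.comap (algebraMap L₂ F)
  haveI : IsScalarTower V L₁ L₂ := inferInstance
  have hVW : ∀ e : V, algebraMap L₁ F (e : L₁) ∈ W := fun e => e.2
  have hV₂ : EtRam.Dominates V (algebraMap V L₂) V₂ :=
    ⟨fun e => hVW e, fun e he => (comap_valuation_lt_one W _ _).2
      ((comap_valuation_lt_one W (algebraMap L₁ F) (e : L₁)).1 ((V.valuation_lt_one_iff e).1 he))⟩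
  have hcond : (∃ e : V, algebraMap V L₁ e = ξ₁) ∨ ∃ (k : ℕ) (e : V), 0 < k ∧ p ∣ k ∧
      (∀ r : V, residue V e ≠ residue V r ^ p) ∧ ξ₁ * algebraMap V L₁ ⟨s, hsV⟩ ^ k = algebraMap V L₁ e := by
    rcases hS with rfl | ⟨hP, hpP, hna⟩
    · exact Or.inl ⟨⟨v, hv⟩, by rw [hξ₁, map_zero, zero_div, zero_add]; rfl⟩
    obtain ⟨w', hw', he', hmem⟩ := aeval_mem_and_sub V hV.1 hsV cS
    refine Or.inr ⟨P, ⟨aeval s cS + v * s ^ P, V.add_mem _ _ hmem (V.mul_mem _ _ hv (pow_mem hsV _))⟩, hP, hpP,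
      fun r hr => ?_, ?_⟩
    · obtain ⟨c, u, hu, hce⟩ := hdec r r.2
      have h1 : residue V r = residue V (algebraMap B V c) := by
        rw [← sub_eq_zero, ← map_sub, residue_eq_zero_iff, hmaxV, Ideal.mem_span_singleton']
        refine ⟨⟨u, hu⟩, Subtype.ext ?_⟩
        show u * s = (r : L₁) - algebraMap B L₁ c
        rw [hce]; ring
      have h2 : residue V (⟨aeval s cS + v * s ^ P, V.add_mem _ _ hmem (V.mul_mem _ _ hv (pow_mem hsV _))⟩ : V) =
          residue V (algebraMap B V (cS.coeff 0)) := by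
        rw [← sub_eq_zero, ← map_sub, residue_eq_zero_iff, hmaxV, Ideal.mem_span_singleton']
        refine ⟨⟨w' + v * s ^ (P - 1), V.add_mem _ _ hw' (V.mul_mem _ _ hv (pow_mem hsV _))⟩, Subtype.ext ?_⟩
        show (w' + v * s ^ (P - 1)) * s = aeval s cS + v * s ^ P - algebraMap B L₁ (cS.coeff 0)
        conv_rhs => rw [he', show P = P - 1 + 1 by omega, pow_succ]
        ring
      rw [h1, h2, ← map_pow, ← map_pow, ← ResidueField.algebraMap_residue,
        ← ResidueField.algebraMap_residue] at hr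
      exact hna c (((algebraMap (ResidueField B) (ResidueField V)).injective hr).trans (map_pow _ _ _))
    · show ξ₁ * s ^ P = aeval s cS + v * s ^ P
      have : s ^ P ≠ 0 := pow_ne_zero _ fun h0 => hπL₁ (by
        rw [h0, zero_pow (by omega), zero_add, mul_zero] at hs0; exact hs0.symm)
      rw [hξ₁, add_mul, div_mul_cancel₀ _ this]
  have hgenS : ∀ e, V₂.valuation e < 1 → ∃ u ∈ V₂, e = algebraMap V L₂ ⟨s, hsV⟩ * u :=
    as_step_unramified (A := V) (K := L₁) hp hmaxV hy0 hygen hcond V₂ hV₂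
  have htop : ∀ e : F, e ∈ IntermediateField.adjoin L₂ {Z} := by
    intro e
    have he : e ∈ IntermediateField.adjoin L {S, Z, x} := hgen ▸ IntermediateField.mem_top
    have hle : IntermediateField.adjoin L {S, Z, x} ≤
        ((IntermediateField.adjoin L₂ {Z}).restrictScalars L₁).restrictScalars L := by
      have hS' : S ∈ IntermediateField.adjoin L₂ {Z} :=
        IntermediateField.algebraMap_mem (IntermediateField.adjoin L₂ {Z}) (algebraMap L₁ L₂ s)
      rw [IntermediateField.adjoin_le_iff]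
      intro g hg
      simp only [Set.mem_insert_iff, Set.mem_singleton_iff] at hg
      rcases hg with h | h | h <;> rw [h]
      · exact hS'
      · exact IntermediateField.mem_adjoin_simple_self L₂ _
      · show x ∈ IntermediateField.adjoin L₂ {Z}
        rw [show x = x₁ + Z + (w : F) by rw [hx₁def]; ring]
        exact add_mem (add_mem (IntermediateField.algebraMap_mem (IntermediateField.adjoin L₂ {Z}) y)
          (IntermediateField.mem_adjoin_simple_self L₂ Z))
          (IntermediateField.algebraMap_mem (IntermediateField.adjoin L₂ {Z}) (algebraMap L₁ L₂ w))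
    exact hle he
  refine ⟨fun h0 => ?_, fun h0 => ?_⟩
  · have hZ₂ : Z ∈ (⊥ : IntermediateField L₂ F) :=
      IntermediateField.mem_bot.2 ⟨algebraMap L₁ L₂ ⟨Z, hZ0 h0⟩, rfl⟩
    have hbot : ∀ e : F, e ∈ (⊥ : IntermediateField L₂ F) := fun e =>
      (IntermediateField.adjoin_simple_le_iff.2 hZ₂) (htop e)
    refine ⟨(comap_valuation_lt_one W (algebraMap L₁ F) s).1 hs1, fun e he => ?_⟩
    obtain ⟨e', rfl⟩ := IntermediateField.mem_bot.1 (hbot e)
    obtain ⟨u, hu, hue⟩ := hgenS e' ((comap_valuation_lt_one W (algebraMap L₂ F) e').2 he)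
    exact ⟨algebraMap L₂ F u, hu, by rw [hue, map_mul]; rfl⟩
  · obtain ⟨hQ, hpQ, hunit⟩ := hT.resolve_left h0
    obtain ⟨hfd₂, -, -, -⟩ := as_finite (A := V) hp hy0 hygen
    haveI := hfd₂
    haveI : IsDiscreteValuationRing V₂ := (isDVR_of_dominates_finite V₂
      (show EtRam.Dominates V ((algebraMap L₁ L₂).comp (algebraMap V L₁)) V₂ by
        rw [← IsScalarTower.algebraMap_eq]; exact hV₂)).1
    have hs2V : (algebraMap V L₂ ⟨s, hsV⟩) ∈ V₂ := hV₂.1 _
    have hmax₂ : maximalIdeal V₂ = Ideal.span {(⟨_, hs2V⟩ : V₂)} := by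
      refine le_antisymm (fun e he => ?_) ((Ideal.span_singleton_le_iff_mem _).2 ((V₂.valuation_lt_one_iff _).2
        (hV₂.2 ⟨s, hsV⟩ (hmaxV ▸ Ideal.mem_span_singleton_self _))))
      obtain ⟨u, hu, hue⟩ := hgenS e ((V₂.valuation_lt_one_iff e).1 he)
      exact Ideal.mem_span_singleton'.2 ⟨⟨u, hu⟩, Subtype.ext (by rw [hue]; exact mul_comm u _)⟩
    obtain ⟨w', hw', he', hmem⟩ := aeval_mem_and_sub V hV.1 hsV (cT.map (algebraMap A B))
    obtain ⟨η, hη⟩ : ∃ η, η = aeval s (cT.map (algebraMap A B)) / s ^ Q := ⟨_, rfl⟩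
    have hsne : s ≠ 0 := fun h0 => hπL₁ (by
      rw [h0, zero_pow (by omega), zero_add, mul_zero] at hs0; exact hs0.symm)
    have hunit' : IsUnit (⟨_, hmem⟩ : V) := IsLocalRing.notMem_maximalIdeal.1 fun hm' => by
      have h1 := (residue_eq_zero_iff _).2 hm'
      have h2 : residue V (⟨_, hmem⟩ : V) = residue V (algebraMap B V ((cT.map (algebraMap A B)).coeff 0)) := by
        rw [← sub_eq_zero, ← map_sub, residue_eq_zero_iff, hmaxV, Ideal.mem_span_singleton']
        refine ⟨⟨w', hw'⟩, Subtype.ext ?_⟩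
        show w' * s = aeval s _ - algebraMap B L₁ _
        rw [he']; ring
      rw [h2, residue_eq_zero_iff, Polynomial.coeff_map] at h1
      exact (mem_maximalIdeal _).1 h1 ((hunit.map _).map _)
    let e₂ : V₂ := ⟨algebraMap L₁ L₂ (aeval s (cT.map (algebraMap A B))), hV₂.1 ⟨_, hmem⟩⟩
    have he₂ : IsUnit e₂ :=
      hunit'.map ((RingHom.codRestrict (algebraMap V L₂) V₂ hV₂.1))
    have hηe : algebraMap L₁ L₂ η * algebraMap V₂ L₂ ⟨_, hs2V⟩ ^ Q = algebraMap V₂ L₂ e₂ := by
      show algebraMap L₁ L₂ η * algebraMap L₁ L₂ s ^ Q = algebraMap L₁ L₂ _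
      rw [← map_pow, ← map_mul, hη, div_mul_cancel₀ _ (pow_ne_zero _ hsne)]
    haveI : CharP L₂ p := charP_of_injective_algebraMap (algebraMap L₁ L₂).injective p
    letI : Algebra V₂ F := ((algebraMap L₂ F).comp V₂.subtype).toAlgebra
    haveI : IsScalarTower V₂ L₂ F := IsScalarTower.of_algebraMap_eq fun _ => rfl
    have hZ₂ : Z ^ p - Z = algebraMap L₂ F (algebraMap L₁ L₂ η) := by
      rw [hZ, hη, ← IsScalarTower.algebraMap_apply, map_div₀, map_pow]
      exact congrArg (· / S ^ Q) (hmap _).symm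
    obtain ⟨-, -, hspan⟩ := as_step_ramified (A := V₂) (K := L₂) hp hmax₂ hZ₂ (eq_top_iff.2 fun e _ => htop e)
      hQ hpQ he₂ hηe (hij h0)
    have hWV₂ : EtRam.Dominates V₂ (algebraMap V₂ F) W :=
      ⟨fun e => e.2, fun e he => (comap_valuation_lt_one W (algebraMap L₂ F) e).1 ((V₂.valuation_lt_one_iff e).1 he)⟩
    exact hspan W hWV₂

end Groth.Agent.H1Ram
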