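import Groth.Agent.H1Ram.ASStep
import Groth.Agent.NagataLib.IntClosure
import Mathlib.RingTheory.Nilpotent.GeometricallyReduced
import Mathlib.RingTheory.DedekindDomain.PID

/-!
# Centres of valuation rings on orders, and small deformations of orders
-/

set_option autoImplicit false

universe u

open IsLocalRing Polynomial
open scoped TensorProduct

namespace Groth.Agent.H1Ram

/-- Geometric reducedness of field extensions is invariant under isomorphisms of extensions. -/
theorem geomReduced_congr {k k' E E' : Type u} [Field k] [Field k'] [Field E] [Field E'] (f : k →+* E)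
    (f' : k' →+* E') (ι : k →+* k') (hι : Function.Surjective ι) (e : E →+* E') (he : Function.Surjective e)
    (h : e.comp f = f'.comp ι) :
    @Algebra.IsGeometricallyReduced k E _ _ f.toAlgebra →
      @Algebra.IsGeometricallyReduced k' E' _ _ f'.toAlgebra := by
  intro hE
  letI : Algebra k E := f.toAlgebra
  letI : Algebra k' E' := f'.toAlgebra
  letI : Algebra k k' := ι.toAlgebra
  letI : Algebra k E' := (f'.comp ι).toAlgebra
  haveI : IsScalarTower k k' E' := IsScalarTower.of_algebraMap_eq fun _ => rfl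
  haveI : Algebra.IsGeometricallyReduced k E := hE
  let e' : E ≃ₐ[k] E' := AlgEquiv.ofBijective ({ e with commutes' := fun r => RingHom.congr_fun h r } : E →ₐ[k] E')
    ⟨e.injective, he⟩
  haveI : Algebra.IsGeometricallyReduced k E' :=
    Algebra.IsGeometricallyReduced.of_injective e'.symm.toAlgHom e'.symm.injective
  haveI : Module.Finite k k' := Module.Finite.of_surjective (Algebra.linearMap k k') hι
  haveI : Algebra.IsAlgebraic k k' := Algebra.IsAlgebraic.of_finite k k'
  haveI : Algebra.IsAlgebraic k (AlgebraicClosure k') := Algebra.IsAlgebraic.trans k k' _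
  haveI : TensorProduct.CompatibleSMul k k' (AlgebraicClosure k') E' := ⟨fun r m n => by
    obtain ⟨a, rfl⟩ := hι r
    show (algebraMap k k' a • m) ⊗ₜ[k] n = m ⊗ₜ[k] (algebraMap k k' a • n)
    rw [algebraMap_smul, algebraMap_smul, TensorProduct.smul_tmul]⟩
  refine (Algebra.isGeometricallyReduced_field_iff k' E').2 ?_
  exact isReduced_of_injective
    (Algebra.TensorProduct.equivOfCompatibleSMul k k' k' (AlgebraicClosure k') E')
    (Algebra.TensorProduct.equivOfCompatibleSMul k k' k' (AlgebraicClosure k') E').injective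

/-- If the centre of `W` on a Noetherian ring is locally principal, generated by `ρ`, and the ring generates
the field, then `W` consists of fractions and `ρ` generates its maximal ideal. -/
theorem center_structure {T F : Type u} [CommRing T] [IsNoetherianRing T] [Field F] (φ : T →+* F)
    (W : ValuationSubring F) (hT : ∀ t, φ t ∈ W) {ρ : T} (hρ : W.valuation (φ ρ) < 1) (hρ0 : φ ρ ≠ 0)
    (hP : ∀ t, W.valuation (φ t) < 1 → ∃ s, W.valuation (φ s) = 1 ∧ ρ ∣ s * t)
    (hfrac : ∀ x : F, ∃ a b, φ b ≠ 0 ∧ x * φ b = φ a) :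
    (∀ x ∈ W, ∃ a s, W.valuation (φ s) = 1 ∧ x * φ s = φ a) ∧
      ∀ x, W.valuation x < 1 → ∃ w ∈ W, x = φ ρ * w := by
  classical
  let P : Ideal T := (maximalIdeal W).comap (φ.codRestrict W.toSubring hT)
  haveI : P.IsPrime := Ideal.IsPrime.comap _
  have hmemP : ∀ t, t ∈ P ↔ W.valuation (φ t) < 1 := fun t => W.valuation_lt_one_iff (φ.codRestrict W.toSubring hT t)
  have hnot : ∀ t, t ∉ P ↔ W.valuation (φ t) = 1 := fun t => by
    rw [hmemP, not_lt]
    exact ⟨fun h => le_antisymm ((W.valuation_le_one_iff _).2 (hT t)) h, fun h => h.ge⟩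
  have key : ∀ t, φ t ≠ 0 → ∃ (k : ℕ) (s u : T),
      W.valuation (φ s) = 1 ∧ W.valuation (φ u) = 1 ∧ φ t * φ s = φ ρ ^ k * φ u := by
    intro t ht
    by_contra hno
    push Not at hno
    have hall : ∀ k, ∃ s u, W.valuation (φ s) = 1 ∧ s * t = ρ ^ k * u := by
      intro k
      induction k with
      | zero => exact ⟨1, t, by rw [map_one, map_one], by rw [one_mul, pow_zero, one_mul]⟩
      | succ k ih =>
        obtain ⟨s, u, hs, he⟩ := ih
        have hu : W.valuation (φ u) < 1 := by
          refine lt_of_le_of_ne ((W.valuation_le_one_iff _).2 (hT u)) fun h1 => hno k s u hs h1 ?_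
          rw [mul_comm (φ t), ← map_mul, he, map_mul, map_pow]
        obtain ⟨s', hs', w, hw⟩ := hP u hu
        exact ⟨s' * s, w, by rw [map_mul, map_mul, hs, hs', one_mul], by
          rw [mul_assoc, he, mul_left_comm, hw, pow_succ, mul_assoc]⟩
    have hzero : algebraMap T (Localization.AtPrime P) t = 0 := by
      have hmem : algebraMap T (Localization.AtPrime P) t ∈
          ⨅ k, maximalIdeal (Localization.AtPrime P) ^ k := by
        refine Ideal.mem_iInf.2 fun k => ?_
        obtain ⟨s, u, hs, he⟩ := hall k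
        have hsu : IsUnit (algebraMap T (Localization.AtPrime P) s) :=
          IsLocalization.map_units _ (⟨s, (hnot s).2 hs⟩ : P.primeCompl)
        refine (Ideal.unit_mul_mem_iff_mem _ hsu).1 ?_
        rw [← map_mul, he, map_mul, map_pow]
        exact Ideal.mul_mem_right _ _ (Ideal.pow_mem_pow
          ((IsLocalization.AtPrime.to_map_mem_maximal_iff _ P ρ).2 ((hmemP ρ).2 hρ)) _)
      rwa [Ideal.iInf_pow_eq_bot_of_isLocalRing _ (maximalIdeal.isMaximal _).ne_top, Ideal.mem_bot] at hmem
    obtain ⟨⟨m, hm⟩, hmt⟩ := (IsLocalization.map_eq_zero_iff P.primeCompl _ t).1 hzero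
    have h1 := congrArg φ hmt
    rw [map_mul, map_zero, mul_eq_zero] at h1
    rcases h1 with h1 | h1
    · exact hm ((hmemP m).2 (by rw [show φ m = 0 from h1, map_zero]; exact zero_lt_one))
    · exact ht h1
  have hv0 : W.valuation (φ ρ) ≠ 0 := by rwa [Ne, map_eq_zero]
  have hone : ∀ s, W.valuation (φ s) = 1 → φ s ≠ 0 := fun s hs h => by
    rw [h, map_zero] at hs; exact zero_ne_one hs
  have hrep : ∀ x : F, x ≠ 0 → ∃ (k l : ℕ) (s u : T), W.valuation (φ s) = 1 ∧ W.valuation (φ u) = 1 ∧
      x * (φ ρ ^ l * φ s) = φ ρ ^ k * φ u := by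
    intro x hx
    obtain ⟨a, b, hb, hab⟩ := hfrac x
    obtain ⟨k, s, u, hs, hu, hku⟩ := key a (by rw [← hab]; exact mul_ne_zero hx hb)
    obtain ⟨l, s', u', hs', hu', hlu⟩ := key b hb
    refine ⟨k, l, u' * s, u * s', by rw [map_mul, map_mul, hu', hs, one_mul],
      by rw [map_mul, map_mul, hu, hs', one_mul], ?_⟩
    rw [map_mul, map_mul]
    linear_combination (φ s * φ s') * hab + φ s' * hku - (x * φ s) * hlu
  have hval : ∀ x : F, ∀ k l : ℕ, ∀ s u : T, W.valuation (φ s) = 1 → W.valuation (φ u) = 1 →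
      x * (φ ρ ^ l * φ s) = φ ρ ^ k * φ u → W.valuation x * W.valuation (φ ρ) ^ l = W.valuation (φ ρ) ^ k := by
    intro x k l s u hs hu he
    have h := congrArg W.valuation he
    simpa [map_mul, map_pow, hs, hu] using h
  have hmain : ∀ x ∈ W, x ≠ 0 → ∃ (k : ℕ) (s u : T), W.valuation (φ s) = 1 ∧ W.valuation (φ u) = 1 ∧
      x * φ s = φ ρ ^ k * φ u := by
    intro x hxW hx
    obtain ⟨k, l, s, u, hs, hu, he⟩ := hrep x hx
    have hle : l ≤ k := by
      by_contra hlt
      obtain ⟨d, rfl⟩ : ∃ d, l = k + d + 1 := ⟨l - k - 1, by omega⟩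
      have h := hval x k _ s u hs hu he
      rw [add_assoc, pow_add, mul_left_comm] at h
      have h1 : W.valuation x * W.valuation (φ ρ) ^ (d + 1) = 1 :=
        mul_left_cancel₀ (pow_ne_zero k hv0) (h.trans (mul_one _).symm)
      have h2 : W.valuation (φ ρ) ^ (d + 1) * W.valuation x < 1 :=
        mul_lt_one_of_lt_of_le (pow_lt_one₀ zero_le' hρ (by omega)) ((W.valuation_le_one_iff x).2 hxW)
      rw [mul_comm] at h2
      exact h2.ne h1
    refine ⟨k - l, s, u, hs, hu, mul_left_cancel₀ (pow_ne_zero l hρ0) ?_⟩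
    rw [← mul_assoc (φ ρ ^ l) (φ ρ ^ (k - l)), ← pow_add, Nat.add_sub_cancel' hle, ← he]
    ring
  refine ⟨fun x hxW => ?_, fun x hx => ?_⟩
  · rcases eq_or_ne x 0 with rfl | hx
    · exact ⟨0, 1, by rw [map_one, map_one], by rw [zero_mul, map_zero]⟩
    obtain ⟨k, s, u, hs, hu, he⟩ := hmain x hxW hx
    exact ⟨ρ ^ k * u, s, hs, by rw [he, map_mul, map_pow]⟩
  · rcases eq_or_ne x 0 with rfl | hx0
    · exact ⟨0, W.zero_mem, by rw [mul_zero]⟩
    obtain ⟨k, s, u, hs, hu, he⟩ := hmain x ((W.valuation_le_one_iff _).1 hx.le) hx0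
    cases k with
    | zero =>
      rw [pow_zero, one_mul] at he
      have h := congrArg W.valuation he
      rw [map_mul, hs, mul_one, hu] at h
      exact absurd hx h.ge.not_gt
    | succ k =>
      refine ⟨φ ρ ^ k * φ u / φ s, (W.valuation_le_one_iff _).1 ?_, ?_⟩
      · rw [map_div₀, map_mul, map_pow, hs, hu, mul_one, div_one]
        exact pow_le_one₀ zero_le' hρ.le
      · rw [← mul_div_assoc, eq_div_iff (hone s hs), he, pow_succ']
        ring

section Order

variable {B L R R' : Type u} [CommRing B] [IsDomain B] [IsDiscreteValuationRing B] [Field L] [Algebra B L]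
  [IsFractionRing B L] [CommRing R] [Algebra L R] [Algebra B R] [IsScalarTower B L R]
  [CommRing R'] [Algebra L R'] [Algebra B R'] [IsScalarTower B L R']

/-- A finite order absorbs a bilinear map after multiplication by a large power of the uniformizer. -/
theorem exists_bound (O : Subalgebra B R) [Module.Finite B O] {π : B} (hπ : maximalIdeal B = Ideal.span {π})
    (hO : ∀ r : R, ∃ b : B, b ≠ 0 ∧ b • r ∈ O) (Δ : R →ₗ[L] R →ₗ[L] R) :
    ∃ M : ℕ, ∀ N, M ≤ N → ∀ x ∈ O, ∀ y ∈ O, π ^ N • Δ x y ∈ O := by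
  classical
  have hclear : ∀ r : R, ∃ k : ℕ, π ^ k • r ∈ O := by
    intro r
    obtain ⟨b, hb, hbr⟩ := hO r
    obtain ⟨k, u, rfl⟩ := IsDiscreteValuationRing.eq_unit_mul_pow_irreducible hb
      ((IsDiscreteValuationRing.irreducible_iff_uniformizer π).2 hπ)
    refine ⟨k, ?_⟩
    have := O.smul_mem hbr (↑u⁻¹ : B)
    rwa [smul_smul, ← mul_assoc, Units.inv_mul, one_mul] at this
  obtain ⟨n, g, hg⟩ := Module.Finite.exists_fin (R := B) (M := O)
  choose k hk using fun ij : Fin n × Fin n => hclear (Δ (g ij.1 : R) (g ij.2 : R))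
  refine ⟨Finset.univ.sup k, fun N hN x hx y hy => ?_⟩
  obtain ⟨cx, hcx⟩ := (Submodule.mem_span_range_iff_exists_fun B).1 (hg ▸ Submodule.mem_top : (⟨x, hx⟩ : O) ∈ _)
  obtain ⟨cy, hcy⟩ := (Submodule.mem_span_range_iff_exists_fun B).1 (hg ▸ Submodule.mem_top : (⟨y, hy⟩ : O) ∈ _)
  have hxe : x = ∑ i, algebraMap B L (cx i) • (g i : R) := by
    have := congrArg Subtype.val hcx
    simp only [AddSubmonoidClass.coe_finsetSum, SetLike.val_smul] at this
    simp only [algebraMap_smul]
    exact this.symm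
  have hye : y = ∑ i, algebraMap B L (cy i) • (g i : R) := by
    have := congrArg Subtype.val hcy
    simp only [AddSubmonoidClass.coe_finsetSum, SetLike.val_smul] at this
    simp only [algebraMap_smul]
    exact this.symm
  rw [hxe, hye]
  simp only [map_sum, map_smul, LinearMap.coe_sum, Finset.sum_apply, LinearMap.smul_apply, Finset.smul_sum]
  simp only [algebraMap_smul]
  refine sum_mem fun i _ => sum_mem fun j _ => ?_
  rw [show N = (N - k (j, i)) + k (j, i) by
    have := Finset.le_sup (f := k) (Finset.mem_univ (j, i)); omega, pow_add, mul_smul]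
  have := hk (j, i)
  first
    | (rw [smul_comm (π ^ k (j, i)) (cy i), smul_comm (π ^ k (j, i)) (cx j)]
       exact O.smul_mem (O.smul_mem (O.smul_mem this _) _) _)
    | (rw [smul_comm (π ^ k (j, i)) (cx j), smul_comm (π ^ k (j, i)) (cy i)]
       exact O.smul_mem (O.smul_mem (O.smul_mem this _) _) _)

/-- The deformed order. -/
def deformedOrder (O : Subalgebra B R) (Ψ : R ≃ₗ[L] R') (hone : Ψ 1 = 1)
    (hmul : ∀ x ∈ O, ∀ y ∈ O, Ψ.symm (Ψ x * Ψ y) ∈ O) : Subalgebra B R' where
  carrier := {r | Ψ.symm r ∈ O}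
  add_mem' {a b} ha hb := by
    show Ψ.symm (a + b) ∈ O
    rw [map_add]; exact add_mem ha hb
  mul_mem' {a b} ha hb := by
    show Ψ.symm (a * b) ∈ O
    have := hmul _ ha _ hb
    rwa [Ψ.apply_symm_apply, Ψ.apply_symm_apply] at this
  algebraMap_mem' b := by
    show Ψ.symm (algebraMap B R' b) ∈ O
    rw [Algebra.algebraMap_eq_smul_one, ← hone, ← algebraMap_smul L b (Ψ 1), ← map_smul, Ψ.symm_apply_apply,
      algebraMap_smul]
    exact O.smul_mem O.one_mem _

theorem finite_deformedOrder (O : Subalgebra B R) [Module.Finite B O] (Ψ : R ≃ₗ[L] R') (hone : Ψ 1 = 1)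
    (hmul : ∀ x ∈ O, ∀ y ∈ O, Ψ.symm (Ψ x * Ψ y) ∈ O) : Module.Finite B (deformedOrder O Ψ hone hmul) := by
  let f : O →ₗ[B] deformedOrder O Ψ hone hmul :=
    { toFun := fun x => ⟨Ψ (x : R), show Ψ.symm (Ψ x) ∈ O by rw [Ψ.symm_apply_apply]; exact x.2⟩
      map_add' := fun x y => Subtype.ext (map_add Ψ _ _)
      map_smul' := fun b x => Subtype.ext (by
        show Ψ (b • (x : R)) = b • Ψ (x : R)
        rw [← algebraMap_smul L b (x : R), map_smul, algebraMap_smul]) }
  exact Module.Finite.of_surjective f fun y => ⟨⟨Ψ.symm (y : R'), y.2⟩, Subtype.ext (Ψ.apply_symm_apply _)⟩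

end Order

end Groth.Agent.H1Ram
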