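import Groth.Agent.H1Ram.Generic
import Groth.Agent.H1Ram.TotRam

/-!
# Extensions of degree `p` of the fraction field of a discrete valuation ring

Criteria for the three nontrivial cases (unramified, totally ramified, inseparable residue extension).
-/

set_option autoImplicit false

universe u

open IsLocalRing Polynomial

namespace Groth.Agent.H1Ram

/-- The fourth case: unique dominating valuation ring, weakly unramified, purely inseparable residue
extension of degree `p`. -/
def Case4 (p : ℕ) (A : Type u) [CommRing A] [IsLocalRing A] {L : Type u} [Field L] (g : A →+* L) : Prop :=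
  (∃ V : ValuationSubring L, EtRam.Dominates A g V) ∧
    (∀ V V' : ValuationSubring L, EtRam.Dominates A g V → EtRam.Dominates A g V' → V = V') ∧
    ∀ (V : ValuationSubring L) (h : EtRam.Dominates A g V),
      letI : Algebra A V := (RingHom.codRestrict g V h.1).toAlgebra
      ∀ [IsLocalHom (algebraMap A V)],
        EtRam.IsWeaklyUnramified A V ∧
          IsPurelyInseparable (IsLocalRing.ResidueField A) (IsLocalRing.ResidueField V) ∧
          Module.finrank (IsLocalRing.ResidueField A) (IsLocalRing.ResidueField V) = p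

theorem exists_dominates {A L : Type u} [CommRing A] [IsLocalRing A] [Field L] (g : A →+* L) :
    ∃ V : ValuationSubring L, EtRam.Dominates A g V := by
  obtain ⟨V, hV, hloc⟩ := IsLocalRing.exists_factor_valuationRing g
  refine ⟨V, hV, fun a ha => (V.valuation_lt_one_iff ⟨g a, hV a⟩).1 ((mem_maximalIdeal _).2 fun hu => ?_)⟩
  haveI := hloc
  exact (mem_maximalIdeal _).1 ha ((isUnit_map_iff (g.codRestrict V.toSubring hV) a).1 hu)

theorem algebraMap_injective' {A : Type u} (K : Type u) {L : Type u} [CommRing A] [Field K] [Algebra A K]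
    [IsFractionRing A K] [Field L] [Algebra K L] [Algebra A L] [IsScalarTower A K L] :
    Function.Injective (algebraMap A L) := by
  rw [IsScalarTower.algebraMap_eq A K L]
  exact (algebraMap K L).injective.comp (IsFractionRing.injective A K)

variable {A K L : Type u} [CommRing A] [IsDomain A] [IsDiscreteValuationRing A] [Field K] [Algebra A K]
  [IsFractionRing A K] [Field L] [Algebra K L] [Algebra A L] [IsScalarTower A K L]

omit [IsDomain A] [IsDiscreteValuationRing A] [IsFractionRing A K] in
theorem algebraMap_eq_comp : algebraMap A L = (algebraMap K L).comp (algebraMap A K) :=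
  IsScalarTower.algebraMap_eq A K L

omit [IsDomain A] [IsDiscreteValuationRing A] [IsFractionRing A K] [Algebra A K] [IsScalarTower A K L] in
/-- The residue of `A` in a dominating valuation ring: units have valuation one. -/
theorem valuation_unit [IsLocalRing A] {V : ValuationSubring L} (hV : EtRam.Dominates A (algebraMap A L) V)
    {a : A} (ha : IsUnit a) : V.valuation (algebraMap A L a) = 1 := by
  obtain ⟨u, rfl⟩ := ha
  have h := (V.valuation_eq_one_iff ⟨_, hV.1 u⟩).1 (IsUnit.map (RingHom.codRestrict (algebraMap A L) V hV.1) u.isUnit)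
  exact h

omit [IsDomain A] [IsDiscreteValuationRing A] [IsFractionRing A K] [Algebra A K] [IsScalarTower A K L] in
theorem valuation_le_one [IsLocalRing A] {V : ValuationSubring L} (hV : EtRam.Dominates A (algebraMap A L) V)
    (a : A) : V.valuation (algebraMap A L a) ≤ 1 :=
  (V.valuation_le_one_iff _).2 (hV.1 a)

omit [Algebra A K] [IsFractionRing A K] [IsScalarTower A K L] in
theorem isLocalHom_dom (V : ValuationSubring L) (hV : EtRam.Dominates A (algebraMap A L) V) :
    IsLocalHom (RingHom.codRestrict (algebraMap A L) V hV.1) :=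
  ⟨fun a ha => by
    by_contra hna
    exact (mem_maximalIdeal _).1 ((V.valuation_lt_one_iff _).2 (hV.2 a ((mem_maximalIdeal a).2 hna))) ha⟩

/-- Hypothesis: `y` gives an integral basis in every dominating valuation ring. -/
def BasisProp (p : ℕ) (A : Type u) [CommRing A] [IsLocalRing A] {L : Type u} [Field L] [Algebra A L] (π : A)
    (y : L) : Prop :=
  ∀ V : ValuationSubring L, EtRam.Dominates A (algebraMap A L) V → y ∈ V ∧
    ∀ a : Fin p → A, (∃ w ∈ V, ∑ k, algebraMap A L (a k) * y ^ (k : ℕ) = algebraMap A L π * w) →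
      ∀ k, a k ∈ maximalIdeal A

theorem structure_of_basis [FiniteDimensional K L] {p : ℕ} (hfin : Module.finrank K L ≤ p) {π : A}
    (hπ : maximalIdeal A = Ideal.span {π}) {y : L} (hy : BasisProp p A π y) :
    Module.finrank K L = p ∧
      (∀ V : ValuationSubring L, EtRam.Dominates A (algebraMap A L) V →
        ∀ x ∈ V, ∃ a : Fin p → A, x = ∑ k, algebraMap A L (a k) * y ^ (k : ℕ)) ∧
      (∀ V V' : ValuationSubring L, EtRam.Dominates A (algebraMap A L) V →
        EtRam.Dominates A (algebraMap A L) V' → V = V') := by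
  classical
  obtain ⟨V₀, hV₀⟩ := exists_dominates (algebraMap A L)
  have hπ0 : π ≠ 0 := fun h => IsDiscreteValuationRing.not_a_field A (by rw [hπ, h, Ideal.span_singleton_eq_bot.2 rfl])
  have hgπ : algebraMap A L π ≠ 0 := fun h => hπ0 (algebraMap_injective' K (h.trans (map_zero _).symm))
  have hdiv : ∀ a : Fin p → A, (∀ k, a k ∈ maximalIdeal A) → ∃ b : Fin p → A, ∀ k, a k = π * b k := by
    intro a ha
    have : ∀ k, ∃ b, a k = π * b := fun k => by
      have := ha k; rwa [hπ, Ideal.mem_span_singleton] at this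
    choose b hb using this
    exact ⟨b, hb⟩
  have hsum : ∀ (a b : Fin p → A), (∀ k, a k = π * b k) →
      ∑ k, algebraMap A L (a k) * y ^ (k : ℕ) = algebraMap A L π * ∑ k, algebraMap A L (b k) * y ^ (k : ℕ) := by
    intro a b hb
    rw [Finset.mul_sum]
    exact Finset.sum_congr rfl fun k _ => by rw [hb k, map_mul, mul_assoc]
  have hliA : LinearIndependent A (fun k : Fin p => y ^ (k : ℕ)) := by
    rw [Fintype.linearIndependent_iff]
    intro a ha
    have key : ∀ (j : ℕ) (a : Fin p → A), ∑ k, algebraMap A L (a k) * y ^ (k : ℕ) = 0 →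
        ∀ k, a k ∈ maximalIdeal A ^ j := by
      intro j
      induction j with
      | zero => intro a _ k; simp
      | succ j ih =>
        intro a ha k
        obtain ⟨b, hb⟩ := hdiv a ((hy V₀ hV₀).2 a ⟨0, V₀.zero_mem, by rw [ha, mul_zero]⟩)
        rw [hsum a b hb] at ha
        rw [hb k, pow_succ']
        exact Ideal.mul_mem_mul (hπ ▸ Ideal.mem_span_singleton_self π)
          (ih b ((mul_eq_zero.1 ha).resolve_left hgπ) k)
    intro k
    have : a k ∈ ⨅ j, maximalIdeal A ^ j := (Submodule.mem_iInf _).2 fun j => key j a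
      (by simpa only [Algebra.smul_def] using ha) k
    rwa [Ideal.iInf_pow_eq_bot_of_isLocalRing _ (maximalIdeal.isMaximal A).ne_top, Ideal.mem_bot] at this
  have hliK := (LinearIndependent.iff_fractionRing A K).1 hliA
  have hge := hliK.fintype_card_le_finrank
  rw [Fintype.card_fin] at hge
  have heq : Module.finrank K L = p := le_antisymm hfin hge
  have hp0 : Nonempty (Fin p) := ⟨⟨0, heq ▸ Module.finrank_pos⟩⟩
  let bK := basisOfLinearIndependentOfCardEqFinrank hliK (by rw [Fintype.card_fin, heq])
  have hspan : ∀ V : ValuationSubring L, EtRam.Dominates A (algebraMap A L) V →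
      ∀ x ∈ V, ∃ a : Fin p → A, x = ∑ k, algebraMap A L (a k) * y ^ (k : ℕ) := by
    intro V hV x hx
    obtain ⟨b, hb⟩ := IsLocalization.exist_integer_multiples_of_finite (nonZeroDivisors A) (bK.repr x)
    choose c hc using hb
    obtain ⟨u, rfl⟩ : ∃ u : A, u = (b : A) := ⟨_, rfl⟩
    have hb0 : (b : A) ≠ 0 := nonZeroDivisors.ne_zero b.2
    obtain ⟨N, e, he⟩ := IsDiscreteValuationRing.eq_unit_mul_pow_irreducible hb0
      ((IsDiscreteValuationRing.irreducible_iff_uniformizer π).2 hπ)
    have hx' : algebraMap A L (b : A) * x = ∑ k, algebraMap A L (c k) * y ^ (k : ℕ) := by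
      conv_lhs => rw [← bK.sum_repr x, Finset.mul_sum]
      refine Finset.sum_congr rfl fun k _ => ?_
      rw [show bK k = y ^ (k : ℕ) from congrFun (coe_basisOfLinearIndependentOfCardEqFinrank hliK _) k,
        Algebra.smul_def, ← mul_assoc, IsScalarTower.algebraMap_apply A K L (c k),
        IsScalarTower.algebraMap_apply A K L (b : A), ← map_mul, hc k, Algebra.smul_def]
    have key : ∀ (N : ℕ) (c : Fin p → A),
        algebraMap A L π ^ N * x = ∑ k, algebraMap A L (c k) * y ^ (k : ℕ) →
        ∃ a : Fin p → A, x = ∑ k, algebraMap A L (a k) * y ^ (k : ℕ) := by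
      intro N
      induction N with
      | zero => intro c hc; exact ⟨c, by rw [← hc, pow_zero, one_mul]⟩
      | succ N ih =>
        intro c hc
        obtain ⟨d, hd⟩ := hdiv c ((hy V hV).2 c ⟨algebraMap A L π ^ N * x,
          V.mul_mem _ _ (pow_mem (hV.1 π) N) hx, by rw [← hc]; ring⟩)
        refine ih d (mul_left_cancel₀ hgπ ?_)
        rw [← hsum c d hd, ← hc]; ring
    refine key N (fun k => (↑e⁻¹ : A) * c k) ?_
    simp only [map_mul, mul_assoc, ← Finset.mul_sum, ← hx']
    rw [← mul_assoc (algebraMap A L (↑e⁻¹ : A)), ← map_mul, he, ← mul_assoc (↑e⁻¹ : A), Units.inv_mul, one_mul,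
      map_pow]
  refine ⟨heq, hspan, fun V V' hV hV' => ?_⟩
  have hle : ∀ V V' : ValuationSubring L, EtRam.Dominates A (algebraMap A L) V →
      EtRam.Dominates A (algebraMap A L) V' → V ≤ V' := by
    intro V V' hV hV' x hx
    obtain ⟨a, rfl⟩ := hspan V hV x hx
    exact sum_mem fun k _ => V'.mul_mem _ _ (hV'.1 _) (pow_mem (hy V' hV').1 _)
  exact le_antisymm (hle V V' hV hV') (hle V' V hV' hV)

theorem basisProp_of_pow {p : ℕ} (hp : p ≠ 0)
    {π : A} (hπ : maximalIdeal A = Ideal.span {π}) {y : L}
    (hy : ∀ V : ValuationSubring L, EtRam.Dominates A (algebraMap A L) V →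
      V.valuation y ^ p = V.valuation (algebraMap A L π)) (hinj : Function.Injective (algebraMap A L)) :
    BasisProp p A π y := by
  classical
  have hlt : ∀ V : ValuationSubring L, EtRam.Dominates A (algebraMap A L) V → V.valuation y < 1 := fun V hV => by
    have h := hV.2 π (hπ ▸ Ideal.mem_span_singleton_self π)
    rw [← hy V hV] at h
    exact lt_of_not_ge fun hge => (not_le.2 h) (one_le_pow₀ hge)
  intro V hV
  have hyV : y ∈ V := (V.valuation_le_one_iff _).1 (hlt V hV).le
  refine ⟨hyV, fun a ⟨w, hw, hwe⟩ => ?_⟩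
  have hv : ∀ (j : ℕ) (k : Fin p), (k : ℕ) < j → a k ∈ maximalIdeal A := by
    intro j
    induction j with
    | zero => intro k hk; omega
    | succ j ih =>
      intro k hk
      rcases Nat.lt_succ_iff_lt_or_eq.1 hk with h | h
      · exact ih k h
      by_contra hu
      have hu1 := valuation_unit hV (IsLocalRing.notMem_maximalIdeal.1 hu)
      have hπle : V.valuation (algebraMap A L π) ≤ V.valuation y ^ ((k : ℕ) + 1) := by
        rw [← hy V hV]; exact pow_le_pow_right_of_le_one' (hlt V hV).le k.isLt
      have hrest : ∀ k' ∈ Finset.univ.erase k,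
          V.valuation (algebraMap A L (a k') * y ^ (k' : ℕ)) ≤ V.valuation y ^ ((k : ℕ) + 1) := by
        intro k' hk'
        rw [map_mul, map_pow]
        rcases lt_trichotomy (k' : ℕ) (k : ℕ) with h' | h' | h'
        · have hm := ih k' (by omega)
          rw [hπ, Ideal.mem_span_singleton] at hm
          obtain ⟨d, hd⟩ := hm
          rw [hd, map_mul, map_mul]
          refine le_trans ?_ hπle
          exact le_trans (mul_le_of_le_one_right' (pow_le_one₀ zero_le' (hlt V hV).le))
            (mul_le_of_le_one_right' (valuation_le_one hV d))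
        · exact absurd (Fin.ext h') (Finset.ne_of_mem_erase hk')
        · exact le_trans (mul_le_of_le_one_left' (valuation_le_one hV _))
            (pow_le_pow_right_of_le_one' (hlt V hV).le h')
      have h1 : V.valuation (algebraMap A L (a k) * y ^ (k : ℕ)) ≤ V.valuation y ^ ((k : ℕ) + 1) := by
        rw [← Finset.add_sum_erase _ _ (Finset.mem_univ k), ← eq_sub_iff_add_eq] at hwe
        rw [hwe]
        refine V.valuation.map_sub_le (le_trans ?_ hπle) (V.valuation.map_sum_le hrest)
        rw [map_mul]; exact mul_le_of_le_one_right' ((V.valuation_le_one_iff _).2 hw)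
      rw [map_mul, map_pow, hu1, one_mul] at h1
      have hy0 : 0 < V.valuation y := by
        refine zero_lt_iff.2 fun h0 => ?_
        have := hy V hV
        rw [h0, zero_pow hp, eq_comm, map_eq_zero] at this
        exact IsDiscreteValuationRing.not_a_field A (by
          rw [hπ, hinj (this.trans (map_zero _).symm), Ideal.span_singleton_eq_bot.2 rfl])
      exact absurd h1 (not_le.2 (pow_lt_pow_right_of_lt_one₀ hy0 (hlt V hV) (Nat.lt_succ_self _)))
  exact fun k => hv p k k.isLt

theorem case3_of_pow [FiniteDimensional K L] {p : ℕ} (hp : p ≠ 0)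
    (hfin : Module.finrank K L ≤ p) {π : A} (hπ : maximalIdeal A = Ideal.span {π}) {y : L}
    (hy : ∀ V : ValuationSubring L, EtRam.Dominates A (algebraMap A L) V →
      V.valuation y ^ p = V.valuation (algebraMap A L π)) :
    EtRam.IsTotallyRamified A (algebraMap A L) ∧ Module.finrank K L = p := by
  classical
  have hlt : ∀ V : ValuationSubring L, EtRam.Dominates A (algebraMap A L) V → V.valuation y < 1 := fun V hV => by
    have h := hV.2 π (hπ ▸ Ideal.mem_span_singleton_self π)
    rw [← hy V hV] at h
    exact lt_of_not_ge fun hge => (not_le.2 h) (one_le_pow₀ hge)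
  have hB : BasisProp p A π y := basisProp_of_pow hp hπ hy (algebraMap_injective' K)
  obtain ⟨h1, h2, h3⟩ := structure_of_basis hfin hπ hB
  refine ⟨⟨exists_dominates _, h3, fun V hV z => ?_⟩, h1⟩
  obtain ⟨x, rfl⟩ := residue_surjective z
  obtain ⟨a, ha⟩ := h2 V hV x x.2
  have hp' : 0 < p := Nat.pos_of_ne_zero hp
  refine ⟨a ⟨0, hp'⟩, (Ideal.Quotient.mk_eq_mk_iff_sub_mem _ _).2 ((V.valuation_lt_one_iff _).2 ?_)⟩
  show V.valuation (algebraMap A L (a ⟨0, hp'⟩) - (x : L)) < 1
  rw [ha, ← Finset.add_sum_erase _ _ (Finset.mem_univ ⟨0, hp'⟩)]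
  simp only [pow_zero, mul_one, sub_add_cancel_left, Valuation.map_neg]
  refine V.valuation.map_sum_lt one_ne_zero fun k hk => ?_
  rw [map_mul, map_pow]
  refine lt_of_le_of_lt (mul_le_of_le_one_left' (valuation_le_one hV _)) (pow_lt_one₀ zero_le' (hlt V hV) ?_)
  exact fun h => Finset.ne_of_mem_erase hk (Fin.ext h)

/-- A residue equation `y ^ p = a` with `a` not a `p`-th power gives the fourth case. -/
theorem case4_of_pow [FiniteDimensional K L] {p : ℕ} (hp : p.Prime) [CharP (ResidueField A) p]
    (hfin : Module.finrank K L ≤ p) {π : A} (hπ : maximalIdeal A = Ideal.span {π}) {y : L} {a : A}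
    (hna : ∀ r : A, residue A a ≠ residue A r ^ p)
    (hy : ∀ V : ValuationSubring L, EtRam.Dominates A (algebraMap A L) V →
      y ∈ V ∧ V.valuation (y ^ p - algebraMap A L a) < 1) :
    Case4 p A (algebraMap A L) ∧ Module.finrank K L = p := by
  classical
  haveI : Fact p.Prime := ⟨hp⟩
  have hirr : Irreducible (X ^ p - C (residue A a)) := X_pow_sub_C_irreducible_of_prime hp fun b hb => by
    obtain ⟨r, rfl⟩ := residue_surjective b
    exact hna r hb.symm
  have hres : ∀ (V : ValuationSubring L) (hV : EtRam.Dominates A (algebraMap A L) V),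
      letI : Algebra A V := (RingHom.codRestrict (algebraMap A L) V hV.1).toAlgebra
      ∀ [IsLocalHom (algebraMap A V)],
      minpoly (ResidueField A) (residue V ⟨y, (hy V hV).1⟩) = X ^ p - C (residue A a) := by
    intro V hV
    letI : Algebra A V := (RingHom.codRestrict (algebraMap A L) V hV.1).toAlgebra
    intro _
    refine (minpoly.eq_of_irreducible_of_monic hirr ?_ (monic_X_pow_sub_C _ hp.ne_zero)).symm
    rw [map_sub, map_pow, aeval_X, aeval_C]
    show residue V ⟨y, _⟩ ^ p - residue V (algebraMap A V a) = 0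
    rw [← map_pow, ← map_sub, residue_eq_zero_iff]
    exact (V.valuation_lt_one_iff _).2 (hy V hV).2
  have hli : ∀ (V : ValuationSubring L) (hV : EtRam.Dominates A (algebraMap A L) V),
      letI : Algebra A V := (RingHom.codRestrict (algebraMap A L) V hV.1).toAlgebra
      ∀ [IsLocalHom (algebraMap A V)],
      LinearIndependent (ResidueField A) (fun k : Fin p => residue V ⟨y, (hy V hV).1⟩ ^ (k : ℕ)) := by
    intro V hV
    letI : Algebra A V := (RingHom.codRestrict (algebraMap A L) V hV.1).toAlgebra
    intro _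
    have := linearIndependent_pow (K := ResidueField A) (residue V ⟨y, (hy V hV).1⟩)
    have hd : (minpoly (ResidueField A) (residue V ⟨y, (hy V hV).1⟩)).natDegree = p := by
      rw [hres V hV, natDegree_X_pow_sub_C]
    exact this.comp (Fin.cast hd.symm) (Fin.cast_injective _)
  have hzero : ∀ (V : ValuationSubring L) (hV : EtRam.Dominates A (algebraMap A L) V) (c : Fin p → A),
      V.valuation (∑ k, algebraMap A L (c k) * y ^ (k : ℕ)) < 1 → ∀ k, c k ∈ maximalIdeal A := by
    intro V hV c hc k
    letI : Algebra A V := (RingHom.codRestrict (algebraMap A L) V hV.1).toAlgebra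
    haveI : IsLocalHom (algebraMap A V) := isLocalHom_dom V hV
    have hx : residue V (∑ k, algebraMap A V (c k) * ⟨y, (hy V hV).1⟩ ^ (k : ℕ)) = 0 := by
      rw [residue_eq_zero_iff, V.valuation_lt_one_iff, AddSubmonoidClass.coe_finsetSum]
      exact hc
    have hk := Fintype.linearIndependent_iff.1 (hli V hV) (fun k => residue A (c k)) (by
      rw [← hx, map_sum]
      refine Finset.sum_congr rfl fun i _ => ?_
      rw [map_mul, map_pow, Algebra.smul_def]; rfl) k
    exact (residue_eq_zero_iff _).1 hk
  have hB : BasisProp p A π y := fun V hV => ⟨(hy V hV).1, fun c ⟨w, hw, hwe⟩ => hzero V hV c (by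
    rw [hwe, map_mul]
    exact mul_lt_one_of_lt_of_le (hV.2 π (hπ ▸ Ideal.mem_span_singleton_self π)) ((V.valuation_le_one_iff _).2 hw))⟩
  obtain ⟨h1, h2, h3⟩ := structure_of_basis hfin hπ hB
  refine ⟨⟨exists_dominates _, h3, fun V hV => ?_⟩, h1⟩
  letI : Algebra A V := (RingHom.codRestrict (algebraMap A L) V hV.1).toAlgebra
  intro hloc
  have hgen : ∀ z : ResidueField V, ∃ c : Fin p → A,
      z = ∑ k, algebraMap (ResidueField A) (ResidueField V) (residue A (c k)) *
        residue V ⟨y, (hy V hV).1⟩ ^ (k : ℕ) := by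
    intro z
    obtain ⟨x, rfl⟩ := residue_surjective z
    obtain ⟨c, hc⟩ := h2 V hV x x.2
    refine ⟨c, ?_⟩
    have hxe : x = ∑ k, algebraMap A V (c k) * ⟨y, (hy V hV).1⟩ ^ (k : ℕ) := Subtype.ext (by
      rw [AddSubmonoidClass.coe_finsetSum]; exact hc)
    rw [hxe, map_sum]
    refine Finset.sum_congr rfl fun i _ => ?_
    rw [map_mul, map_pow]; rfl
  refine ⟨le_antisymm ?_ ?_, ?_, ?_⟩
  · rw [Ideal.map_le_iff_le_comap]
    exact fun b hb => (V.valuation_lt_one_iff _).2 (hV.2 b hb)
  · intro x hx
    obtain ⟨c, hc⟩ := h2 V hV x x.2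
    have hcm := hzero V hV c (hc ▸ (V.valuation_lt_one_iff x).1 hx)
    have hxe : x = ∑ k, algebraMap A V (c k) * ⟨y, (hy V hV).1⟩ ^ (k : ℕ) := Subtype.ext (by
      rw [AddSubmonoidClass.coe_finsetSum]; exact hc)
    rw [hxe]
    exact Ideal.sum_mem _ fun i _ => Ideal.mul_mem_right _ _ (Ideal.mem_map_of_mem _ (hcm i))
  · haveI : ExpChar (ResidueField A) p := .prime hp
    haveI : CharP (ResidueField V) p :=
      charP_of_injective_algebraMap (algebraMap (ResidueField A) (ResidueField V)).injective p
    rw [isPurelyInseparable_iff_pow_mem (ResidueField A) p]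
    intro z
    obtain ⟨c, rfl⟩ := hgen z
    refine ⟨1, ?_⟩
    rw [pow_one, sum_pow_char]
    refine Subring.sum_mem _ fun i _ => ?_
    rw [mul_pow, ← pow_mul, mul_comm (i : ℕ) p, pow_mul, ← map_pow]
    refine Subring.mul_mem _ (RingHom.mem_range_self _ _) (Subring.pow_mem _ (RingHom.mem_range.2 ⟨residue A a, ?_⟩) _)
    have h := minpoly.aeval (ResidueField A) (residue V ⟨y, (hy V hV).1⟩)
    rw [hres V hV, map_sub, map_pow, aeval_X, aeval_C, sub_eq_zero] at h
    exact h.symm
  · refine (Module.finrank_eq_card_basis (Module.Basis.mk (hli V hV) fun z _ => ?_)).trans (Fintype.card_fin p)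
    obtain ⟨c, rfl⟩ := hgen z
    refine Submodule.sum_mem _ fun i _ => ?_
    rw [← Algebra.smul_def]
    exact Submodule.smul_mem _ _ (Submodule.subset_span ⟨i, rfl⟩)

/-- Generated by a root of a monic polynomial with separable reduction: unramified. -/
theorem unramified_of_separable_reduction [FiniteDimensional K L] [Algebra.IsSeparable K L] {f : A[X]}
    (hf : f.Monic) (hsep : (f.map (residue A)).Separable) {z : L} (hz : aeval z f = 0)
    (hgen : IntermediateField.adjoin K {z} = ⊤) : EtRam.IsUnramifiedExt A (algebraMap A L) := by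
  classical
  intro V hV
  letI : Algebra A V := (RingHom.codRestrict (algebraMap A L) V hV.1).toAlgebra
  intro hloc
  haveI : IsScalarTower A V L := IsScalarTower.of_algebraMap_eq fun _ => rfl
  haveI : IsDiscreteValuationRing V := isDVR_of_dominates V (algebraMap_eq_comp (A := A) (K := K) (L := L) ▸ hV)
  have hzV : z ∈ V := by
    obtain ⟨w, hw⟩ := IsIntegrallyClosed.isIntegral_iff.1 (⟨f.map (algebraMap A V), hf.map _, by
      rw [eval₂_map, ← IsScalarTower.algebraMap_eq]; exact hz⟩ : IsIntegral V z)
    exact hw ▸ w.2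
  let zV : V := ⟨z, hzV⟩
  have hzV0 : aeval zV f = 0 := Subtype.ext (((Polynomial.aeval_algHom_apply
    (IsScalarTower.toAlgHom A V L) zV f)).symm.trans hz)
  obtain ⟨π, hπ⟩ := IsDiscreteValuationRing.exists_irreducible A
  let R₀ : Subring V := (aeval zV : A[X] →ₐ[A] V).toRingHom.range
  let π₀ : R₀ := ⟨algebraMap A V π, C π, aeval_C _ _⟩
  have hπV : algebraMap A L π ≠ 0 :=
    fun h => hπ.ne_zero (algebraMap_injective' K (h.trans (map_zero _).symm))
  haveI : IsReduced (AdjoinRoot (f.map (residue A))) := ⟨fun x hx => by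
    obtain ⟨g, rfl⟩ := AdjoinRoot.mk_surjective x
    obtain ⟨n, hn⟩ := hx
    rw [← map_pow, AdjoinRoot.mk_eq_zero] at hn
    rcases eq_or_ne n 0 with rfl | hn0
    · rw [pow_zero] at hn
      exact AdjoinRoot.mk_eq_zero.2 (hn.trans (one_dvd g))
    exact AdjoinRoot.mk_eq_zero.2 ((hsep.squarefree.dvd_pow_iff_dvd hn0).1 hn)⟩
  haveI : Module.Finite (ResidueField A) (AdjoinRoot (f.map (residue A))) :=
    (AdjoinRoot.powerBasis (hf.map (residue A)).ne_zero).finite
  haveI : IsArtinianRing (AdjoinRoot (f.map (residue A))) := IsArtinianRing.of_finite (ResidueField A) _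
  have key := maximalIdeal_eq_span_of_fibre V R₀ π₀
    ((V.valuation_lt_one_iff _).2 (hV.2 π (hπ.maximalIdeal_eq ▸ Ideal.mem_span_singleton_self π)))
    (fun h => hπV (congrArg (fun r : R₀ => ((r : V) : L)) h)) ?_ ?_
  · obtain ⟨hmax, hresid⟩ := key
    refine ⟨?_, ?_⟩
    · show (maximalIdeal A).map (algebraMap A V) = maximalIdeal V
      rw [hπ.maximalIdeal_eq, Ideal.map_span, Set.image_singleton, hmax]
    · have hzres : IsSeparable (ResidueField A) (residue V zV) := by
        refine hsep.of_dvd (minpoly.dvd _ _ ?_)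
        rw [aeval_def, eval₂_map, show (algebraMap (ResidueField A) (ResidueField V)).comp (residue A) =
          (residue V).comp (algebraMap A V) from RingHom.ext fun _ => rfl, ← hom_eval₂]
        exact (congrArg (residue V) hzV0).trans (map_zero _)
      have htop : IntermediateField.adjoin (ResidueField A) {residue V zV} = ⊤ := by
        refine eq_top_iff.2 fun x _ => ?_
        obtain ⟨⟨r, q, rfl⟩, rfl⟩ := hresid x
        refine IntermediateField.algebra_adjoin_le_adjoin _ _ ?_
        rw [Algebra.adjoin_singleton_eq_range_aeval]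
        refine ⟨q.map (residue A), ?_⟩
        show aeval (residue V zV) (q.map (residue A)) = residue V (aeval zV q)
        rw [aeval_def, eval₂_map, show (algebraMap (ResidueField A) (ResidueField V)).comp (residue A) =
          (residue V).comp (algebraMap A V) from RingHom.ext fun _ => rfl, ← hom_eval₂]
        rfl
      have h1 := (IntermediateField.isSeparable_adjoin_simple_iff_isSeparable _ _).2 hzres
      rw [htop] at h1
      exact AlgEquiv.Algebra.isSeparable IntermediateField.topEquiv
  · rintro ⟨x, q, rfl⟩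
    obtain ⟨s, hs⟩ := exists_sq (AdjoinRoot.mk (f.map (residue A)) (q.map (residue A)))
    obtain ⟨s, rfl⟩ := AdjoinRoot.mk_surjective s
    obtain ⟨s, rfl⟩ := map_surjective _ residue_surjective s
    rw [← map_mul, ← map_mul, AdjoinRoot.mk_eq_mk, ← Polynomial.map_mul, ← Polynomial.map_mul,
      ← Polynomial.map_sub] at hs
    obtain ⟨t, ht⟩ := hs
    obtain ⟨t, rfl⟩ := map_surjective _ residue_surjective t
    rw [← Polynomial.map_mul, ← sub_eq_zero, ← Polynomial.map_sub] at ht
    obtain ⟨d, hd⟩ : C π ∣ q - q * q * s - f * t := (C_dvd_iff_dvd_coeff _ _).2 fun i => by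
      rw [← Ideal.mem_span_singleton, ← hπ.maximalIdeal_eq, ← residue_eq_zero_iff, ← coeff_map, ht, coeff_zero]
    refine ⟨⟨aeval zV s, s, rfl⟩, Ideal.mem_span_singleton'.2 ⟨⟨aeval zV d, d, rfl⟩, Subtype.ext ?_⟩⟩
    show aeval zV d * algebraMap A V π = aeval zV q - aeval zV q * aeval zV q * aeval zV s
    have h2 := congrArg (aeval zV) hd
    simp only [map_sub, map_mul, hzV0, zero_mul, sub_zero, aeval_C] at h2
    rw [h2]; ring
  · intro x
    have hx : x ∈ IntermediateField.adjoin K {z} := hgen ▸ IntermediateField.mem_top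
    have hx' : x ∈ Algebra.adjoin K {z} := by
      rwa [← IntermediateField.adjoin_simple_toSubalgebra_of_isAlgebraic
        (Algebra.IsAlgebraic.isAlgebraic z)]
    rw [Algebra.adjoin_singleton_eq_range_aeval] at hx'
    obtain ⟨q, rfl⟩ := hx'
    obtain ⟨b, hb⟩ := IsLocalization.integerNormalization_map_to_map (nonZeroDivisors A) q
    obtain ⟨hb0, hb⟩ : (b : A) ≠ 0 ∧ _ := ⟨nonZeroDivisors.ne_zero b.2, hb⟩
    refine ⟨⟨_, IsLocalization.integerNormalization (nonZeroDivisors A) q, rfl⟩,
      ⟨algebraMap A V b, C (b : A), aeval_C _ _⟩, fun h => hb0 ?_, ?_⟩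
    · exact algebraMap_injective' K ((congrArg (fun r : R₀ => ((r : V) : L)) h).trans (map_zero _).symm)
    · show aeval z q * algebraMap A L b =
        ((aeval zV (IsLocalization.integerNormalization (nonZeroDivisors A) q) : V) : L)
      rw [← show aeval z (IsLocalization.integerNormalization (nonZeroDivisors A) q) =
          ((aeval zV (IsLocalization.integerNormalization (nonZeroDivisors A) q) : V) : L) from
          Polynomial.aeval_algHom_apply (IsScalarTower.toAlgHom A V L) zV _,
        ← aeval_map_algebraMap K (x := z) (IsLocalization.integerNormalization (nonZeroDivisors A) q), hb,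
        ← IsScalarTower.algebraMap_smul K (b : A) q, map_smul, Algebra.smul_def, mul_comm,
        ← IsScalarTower.algebraMap_apply]

/-- If all roots of a separable polynomial of degree `p` generate `L`, the extension is Galois of degree
`1` or `p`. -/
theorem galois_of_roots {p : ℕ} (hp : p.Prime) {f : K[X]} (hdeg : f.natDegree = p) (r : Fin p → L)
    (hr : Function.Injective r) (hroot : ∀ i, aeval (r i) f = 0)
    (hgen : ∀ i, IntermediateField.adjoin K {r i} = ⊤) :
    IsGalois K L ∧ (Module.finrank K L = 1 ∨ Module.finrank K L = p) := by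
  classical
  have hf0 : f ≠ 0 := fun h => hp.ne_zero (by rw [← hdeg, h, natDegree_zero])
  have hfm : f.map (algebraMap K L) ≠ 0 := map_ne_zero hf0
  have hsub : Finset.univ.map ⟨r, hr⟩ ⊆ (f.aroots L).toFinset := fun x hx => by
    obtain ⟨i, -, rfl⟩ := Finset.mem_map.1 hx
    exact Multiset.mem_toFinset.2 (mem_aroots.2 ⟨hf0, hroot i⟩)
  have hc1 : p ≤ (f.aroots L).toFinset.card := by
    have := Finset.card_le_card hsub
    simpa using this
  have hc2 : Multiset.card (f.aroots L) ≤ p := by
    have := card_roots' (f.map (algebraMap K L))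
    rwa [natDegree_map, hdeg] at this
  have hc3 := Multiset.toFinset_card_le (f.aroots L)
  have hnd : (f.aroots L).Nodup :=
    Multiset.toFinset_card_eq_card_iff_nodup.1 (le_antisymm hc3 (hc2.trans hc1))
  have hsplit : (f.map (algebraMap K L)).Splits := by
    rw [splits_iff_card_roots, natDegree_map, hdeg]
    exact le_antisymm hc2 (hc1.trans hc3)
  have hsep : f.Separable := (nodup_aroots_iff_of_splits hf0 hsplit).1 hnd
  have hall : ∀ x : L, aeval x f = 0 → IntermediateField.adjoin K {x} = ⊤ := fun x hx => by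
    have heq : Finset.univ.map ⟨r, hr⟩ = (f.aroots L).toFinset := Finset.eq_of_subset_of_card_le hsub (by
      simpa using hc3.trans hc2)
    have hxm : x ∈ (f.aroots L).toFinset := Multiset.mem_toFinset.2 (mem_aroots.2 ⟨hf0, hx⟩)
    rw [← heq] at hxm
    obtain ⟨i, -, rfl⟩ := Finset.mem_map.1 hxm
    exact hgen i
  let i0 : Fin p := ⟨0, hp.pos⟩
  have hint : IsIntegral K (r i0) := IsAlgebraic.isIntegral ⟨f, hf0, hroot i0⟩
  haveI : FiniteDimensional K L := by
    haveI := IntermediateField.adjoin.finiteDimensional hint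
    rw [hgen i0] at this
    exact Module.Finite.equiv (IntermediateField.topEquiv (F := K) (E := L)).toLinearEquiv
  haveI : f.IsSplittingField K L := by
    refine ⟨hsplit, eq_top_iff.2 fun x _ => ?_⟩
    refine Algebra.adjoin_mono (Set.singleton_subset_iff.2
      (show r i0 ∈ f.rootSet L from mem_rootSet.2 ⟨hf0, hroot i0⟩)) ?_
    rw [← IntermediateField.adjoin_simple_toSubalgebra_of_isAlgebraic hint.isAlgebraic, hgen i0]
    exact IntermediateField.mem_top
  refine ⟨IsGalois.of_separable_splitting_field hsep, ?_⟩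
  have key : ∀ (n : ℕ) (q : K[X]), q.natDegree = n → q ∣ f → Module.finrank K L ∣ n := by
    intro n
    induction n using Nat.strong_induction_on with
    | _ n ih =>
      intro q hq hqf
      rcases Nat.eq_zero_or_pos n with h | h
      · exact h ▸ dvd_zero _
      obtain ⟨q₁, hq₁, q₂, rfl⟩ := Polynomial.exists_irreducible_of_natDegree_pos (hq ▸ h)
      have hq0 := ne_zero_of_dvd_ne_zero hf0 hqf
      have hs := hsplit.of_dvd hfm (Polynomial.map_dvd (algebraMap K L) ((dvd_mul_right q₁ q₂).trans hqf))
      obtain ⟨x, hx⟩ := hs.exists_eval_eq_zero (by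
        rw [degree_map]; exact (degree_pos_of_irreducible hq₁).ne')
      rw [eval_map_algebraMap] at hx
      have hxf : aeval x f = 0 := by
        obtain ⟨d, hd⟩ := (dvd_mul_right q₁ q₂).trans hqf
        rw [hd, map_mul, hx, zero_mul]
      have hm : q₁.natDegree = Module.finrank K L := by
        rw [← IntermediateField.finrank_top', ← hall x hxf,
          IntermediateField.adjoin.finrank (IsAlgebraic.isIntegral ⟨f, hf0, hxf⟩),
          ← minpoly.eq_of_irreducible hq₁ hx]
        rw [natDegree_mul_C (inv_ne_zero (leadingCoeff_ne_zero.2 hq₁.ne_zero))]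
      rw [natDegree_mul (left_ne_zero_of_mul hq0) (right_ne_zero_of_mul hq0)] at hq
      rw [← hq, hm]
      exact dvd_add dvd_rfl (ih q₂.natDegree (by have := hq₁.natDegree_pos; omega) q₂ rfl
        ((dvd_mul_left q₂ q₁).trans hqf))
  exact hp.eq_one_or_self_of_dvd _ (key p f hdeg dvd_rfl)

end Groth.Agent.H1Ram
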