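import Groth.Agent.H1Ram.DegP

/-!
# Roots of `P(z) = ξ` for `P` monic of degree `p`
-/

set_option autoImplicit false

universe u

open IsLocalRing Polynomial

namespace Groth.Agent.H1Ram

variable {A K L : Type u} [CommRing A] [IsDomain A] [IsDiscreteValuationRing A] [Field K] [Algebra A K]
  [IsFractionRing A K] [Field L] [Algebra K L] [Algebra A L] [IsScalarTower A K L]

omit [IsDomain A] [IsFractionRing A K] [IsDiscreteValuationRing A] in
/-- A root of `P - ξ`, `P` monic of degree `p`, generates an extension of degree at most `p`. -/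
theorem finrank_le_of_root {P : A[X]} (hP : P.Monic) (hdeg : 0 < P.natDegree) {ξ : K} {z : L}
    (hz : aeval z P = algebraMap K L ξ) (hgen : IntermediateField.adjoin K {z} = ⊤) :
    FiniteDimensional K L ∧ Module.finrank K L ≤ P.natDegree := by
  haveI : Nontrivial A := ⟨⟨0, 1, fun h => by
    have := congrArg (algebraMap A K) h; rw [map_zero, map_one] at this; exact zero_ne_one this⟩⟩
  have hd : (P.map (algebraMap A K) - C ξ).natDegree = P.natDegree := by
    rw [natDegree_sub_C, hP.natDegree_map]
  have hne : P.map (algebraMap A K) - C ξ ≠ 0 := fun h => by rw [h, natDegree_zero] at hd; omega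
  have h0 : aeval z (P.map (algebraMap A K) - C ξ) = 0 := by
    rw [map_sub, aeval_map_algebraMap, aeval_C, hz, sub_self]
  have hint : IsIntegral K z := IsAlgebraic.isIntegral ⟨_, hne, h0⟩
  have h1 := IntermediateField.adjoin.finrank hint
  haveI := IntermediateField.adjoin.finiteDimensional hint
  rw [hgen, IntermediateField.finrank_top'] at h1
  refine ⟨?_, by rw [h1, ← hd]; exact natDegree_le_of_dvd (minpoly.dvd K z h0) hne⟩
  rw [hgen] at this
  exact Module.Finite.equiv (IntermediateField.topEquiv (F := K) (E := L)).toLinearEquiv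

omit [Algebra K L] [IsScalarTower A K L] [Algebra A K] [IsFractionRing A K] in
/-- For `z` outside the valuation ring the leading term dominates. -/
theorem valuation_aeval_sub_lt {V : ValuationSubring L} (hV : EtRam.Dominates A (algebraMap A L) V) {P : A[X]}
    (hP : P.Monic) {z : L} (hz : 1 < V.valuation z) :
    V.valuation (aeval z P - z ^ P.natDegree) < V.valuation z ^ P.natDegree ∧
      V.valuation (aeval z P) = V.valuation z ^ P.natDegree := by
  have hlt : V.valuation (aeval z P - z ^ P.natDegree) < V.valuation z ^ P.natDegree := by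
    rw [aeval_eq_sum_range, Finset.sum_range_succ, show P.coeff P.natDegree = 1 from hP, one_smul,
      add_sub_cancel_right]
    refine V.valuation.map_sum_lt (pow_ne_zero _ (zero_lt_one.trans hz).ne') fun k hk => ?_
    rw [Algebra.smul_def, map_mul, map_pow]
    exact lt_of_le_of_lt (mul_le_of_le_one_left' (valuation_le_one hV _))
      (pow_lt_pow_right₀ hz (Finset.mem_range.1 hk))
  refine ⟨hlt, ?_⟩
  have := V.valuation.map_add_eq_of_lt_left (x := z ^ P.natDegree) (y := aeval z P - z ^ P.natDegree)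
    (by rwa [map_pow])
  rwa [add_sub_cancel, map_pow] at this

omit [IsDomain A] [IsDiscreteValuationRing A] [IsFractionRing A K] in
theorem valuation_rhs [IsLocalRing A] {V : ValuationSubring L} (hV : EtRam.Dominates A (algebraMap A L) V)
    {n : ℕ} {π a : A} (ha : IsUnit a) {ξ : K} (hξ : ξ * algebraMap A K π ^ n = algebraMap A K a) :
    V.valuation (algebraMap K L ξ) * V.valuation (algebraMap A L π) ^ n = 1 := by
  have h := congrArg (fun x => V.valuation (algebraMap K L x)) hξ
  simp only [map_mul, map_pow, ← IsScalarTower.algebraMap_apply] at h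
  rw [h, valuation_unit hV ha]

omit [IsDomain A] [IsDiscreteValuationRing A] [IsFractionRing A K] in
theorem one_lt_valuation_root [IsLocalRing A] {V : ValuationSubring L}
    (hV : EtRam.Dominates A (algebraMap A L) V) {n : ℕ} (hn : 0 < n) {π a : A}
    (hπ : π ∈ maximalIdeal A) (ha : IsUnit a) {ξ : K} (hξ : ξ * algebraMap A K π ^ n = algebraMap A K a)
    {P : A[X]} {z : L} (hz : aeval z P = algebraMap K L ξ) : 1 < V.valuation z := by
  by_contra hle
  rw [not_lt, V.valuation_le_one_iff] at hle
  have h1 : V.valuation (aeval z P) ≤ 1 := by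
    rw [aeval_eq_sum_range]
    refine V.valuation.map_sum_le fun k _ => ?_
    rw [Algebra.smul_def, map_mul, map_pow]
    exact mul_le_one₀ (valuation_le_one hV _) zero_le' (pow_le_one₀ zero_le' ((V.valuation_le_one_iff _).2 hle))
  have h := valuation_rhs hV ha hξ
  rw [← hz] at h
  have := lt_of_le_of_lt (mul_le_of_le_one_left' h1) (pow_lt_one₀ zero_le' (hV.2 π hπ) hn.ne')
  exact this.ne h

/-- (B): a pole of order prime to `p` gives total ramification. -/
theorem case3_of_pole [FiniteDimensional K L] [Algebra.IsSeparable K L] {p : ℕ} (hp : p.Prime) {P : A[X]}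
    (hP : P.Monic) (hdeg : P.natDegree = p) {π : A} (hπ : maximalIdeal A = Ideal.span {π}) {ξ : K} {z : L}
    (hz : aeval z P = algebraMap K L ξ) (hgen : IntermediateField.adjoin K {z} = ⊤) {n : ℕ} (hn : 0 < n)
    (hpn : ¬ p ∣ n) {a : A} (ha : IsUnit a) (hξ : ξ * algebraMap A K π ^ n = algebraMap A K a) :
    EtRam.IsTotallyRamified A (algebraMap A L) ∧ Module.finrank K L = p := by
  have hcop : Nat.Coprime p n := (Nat.Prime.coprime_iff_not_dvd hp).2 hpn
  obtain ⟨i, j, hij⟩ : ∃ i j : ℕ, p * j = n * i + 1 := by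
    have h1 := Nat.gcd_eq_gcd_ab p n
    rw [hcop.gcd_eq_one] at h1
    obtain ⟨c, hc⟩ : ∃ c : ℕ, (n : ℤ) ∣ (p : ℤ) * c - 1 := by
      refine ⟨((Nat.gcdA p n) % (n : ℤ)).toNat, ?_⟩
      rw [Int.toNat_of_nonneg (Int.emod_nonneg _ (by exact_mod_cast hn.ne'))]
      refine ⟨-(Nat.gcdB p n) - (p : ℤ) * (Nat.gcdA p n / (n : ℤ)), ?_⟩
      have h2 := Int.emod_add_mul_ediv (Nat.gcdA p n) (n : ℤ)
      push_cast at h1
      linear_combination (p : ℤ) * h2 - h1
    obtain ⟨d, hd⟩ := hc
    rcases Nat.eq_zero_or_pos c with rfl | hc0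
    · have hn1 : (n : ℤ) ∣ 1 := ⟨-d, by push_cast at hd; linear_combination -hd⟩
      have hn' : n = 1 := Nat.dvd_one.1 (by exact_mod_cast hn1)
      exact ⟨p - 1, 1, by have := hp.pos; rw [hn']; omega⟩
    · refine ⟨d.toNat, c, ?_⟩
      have h1 : (1 : ℤ) ≤ (p : ℤ) * c := by
        have := Nat.mul_pos hp.pos hc0
        exact_mod_cast this
      have hd0 : 0 ≤ d := nonneg_of_mul_nonneg_right (by omega : 0 ≤ (n : ℤ) * d) (by exact_mod_cast hn)
      zify
      rw [Int.toNat_of_nonneg hd0]
      linarith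
  refine case3_of_pow hp.ne_zero (hdeg ▸ (finrank_le_of_root hP (hdeg ▸ hp.pos) hz hgen).2) hπ
    (y := z ^ i * algebraMap A L π ^ j) fun V hV => ?_
  have hπm : π ∈ maximalIdeal A := hπ ▸ Ideal.mem_span_singleton_self π
  have h1 := valuation_rhs hV ha hξ
  rw [← hz, (valuation_aeval_sub_lt hV hP (one_lt_valuation_root hV hn hπm ha hξ hz)).2, hdeg] at h1
  rw [map_mul, map_pow, map_pow, mul_pow, ← pow_mul, ← pow_mul, mul_comm j p, hij, pow_succ, ← mul_assoc,
    pow_mul, ← pow_mul (V.valuation z), mul_comm i p, pow_mul, pow_mul _ n i, ← mul_pow, h1, one_pow, one_mul]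

/-- (C): a pole of order divisible by `p` whose leading residue is not a `p`-th power. -/
theorem case4_of_pole [FiniteDimensional K L] {p : ℕ} (hp : p.Prime) [CharP (ResidueField A) p] {P : A[X]}
    (hP : P.Monic) (hdeg : P.natDegree = p) {π : A} (hπ : maximalIdeal A = Ideal.span {π}) {ξ : K} {z : L}
    (hz : aeval z P = algebraMap K L ξ) (hgen : IntermediateField.adjoin K {z} = ⊤) {n : ℕ} (hn : 0 < n)
    (hpn : p ∣ n) {a : A} (hna : ∀ r : A, residue A a ≠ residue A r ^ p)
    (hξ : ξ * algebraMap A K π ^ n = algebraMap A K a) :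
    Case4 p A (algebraMap A L) ∧ Module.finrank K L = p := by
  obtain ⟨m, rfl⟩ := hpn
  have ha : IsUnit a := IsLocalRing.notMem_maximalIdeal.1 fun h => hna 0 (by
    rw [(residue_eq_zero_iff a).2 h, map_zero, zero_pow hp.ne_zero])
  refine case4_of_pow hp (hdeg ▸ (finrank_le_of_root hP (hdeg ▸ hp.pos) hz hgen).2) hπ hna
    (y := z * algebraMap A L π ^ m) fun V hV => ?_
  have hπm : π ∈ maximalIdeal A := hπ ▸ Ideal.mem_span_singleton_self π
  obtain ⟨hlt, heq⟩ := valuation_aeval_sub_lt hV hP (one_lt_valuation_root hV hn hπm ha hξ hz)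
  have h1 := valuation_rhs hV ha hξ
  rw [← hz, heq, hdeg, mul_comm p m, pow_mul, ← mul_pow] at h1
  rw [hdeg] at hlt
  have hy1 : V.valuation (z * algebraMap A L π ^ m) = 1 := by
    rw [map_mul, map_pow]
    exact (pow_eq_one_iff.1 h1).resolve_right hp.ne_zero
  refine ⟨(V.valuation_le_one_iff _).1 hy1.le, ?_⟩
  have he : (z * algebraMap A L π ^ m) ^ p - algebraMap A L a =
      -(algebraMap A L π ^ (p * m) * (aeval z P - z ^ p)) := by
    rw [hz, IsScalarTower.algebraMap_apply A K L a, ← hξ, map_mul, map_pow, ← IsScalarTower.algebraMap_apply]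
    ring
  have hπ0 : 0 < V.valuation (algebraMap A L π) ^ (p * m) := by
    refine pow_pos (zero_lt_iff.2 fun h => ?_) _
    rw [map_eq_zero] at h
    exact IsDiscreteValuationRing.not_a_field A (by
      rw [hπ, algebraMap_injective' K (h.trans (map_zero _).symm), Ideal.span_singleton_eq_bot.2 rfl])
  rw [he, Valuation.map_neg, map_mul, map_pow]
  calc V.valuation (algebraMap A L π) ^ (p * m) * V.valuation (aeval z P - z ^ p)
      < V.valuation (algebraMap A L π) ^ (p * m) * V.valuation z ^ p := mul_lt_mul_of_pos_left hlt hπ0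
    _ = 1 := by rw [mul_comm p m, pow_mul, ← mul_pow, mul_comm, h1]

/-- (A): an integral right hand side gives an unramified extension. -/
theorem unramified_of_integral [FiniteDimensional K L] [Algebra.IsSeparable K L] {P : A[X]} (hP : P.Monic)
    (hdeg : 0 < P.natDegree) {c : ResidueField A} (hc : c ≠ 0) (hder : derivative (P.map (residue A)) = C c)
    {a : A} {z : L} (hz : aeval z P = algebraMap A L a) (hgen : IntermediateField.adjoin K {z} = ⊤) :
    EtRam.IsUnramifiedExt A (algebraMap A L) := by
  refine unramified_of_separable_reduction (f := P - C a) ?_ ?_ (by rw [map_sub, aeval_C, hz, sub_self]) hgen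
  · exact hP.sub_of_left (degree_C_le.trans_lt (natDegree_pos_iff_degree_pos.1 hdeg))
  · rw [separable_def, Polynomial.map_sub, map_C, derivative_sub, derivative_C, sub_zero, hder]
    exact ⟨0, C c⁻¹, by rw [zero_mul, zero_add, ← C_mul, inv_mul_cancel₀ hc, C_1]⟩

end Groth.Agent.H1Ram
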