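import Groth.Prelude.Def_EtRam
import Groth.Agent.AlgSpVal.ValExtend
import Mathlib.RingTheory.Nilpotent.GeometricallyReduced
import Mathlib.FieldTheory.IntermediateField.Adjoin.Algebra

/-!
# Solutions go down towers
-/

set_option autoImplicit false

universe u

open IsLocalRing

namespace Groth.Agent.H1Ram

theorem exists_dvd_of_mem_map {U W : Type u} [CommRing U] [IsLocalRing U] [CommRing W] [IsDomain W]
    [ValuationRing W] (f : U →+* W) {x : W} (hx : x ∈ (maximalIdeal U).map f) :
    ∃ u ∈ maximalIdeal U, f u ∣ x := by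
  refine Submodule.span_induction ?_ ?_ ?_ ?_ hx
  · rintro _ ⟨u, hu, rfl⟩; exact ⟨u, hu, dvd_rfl⟩
  · exact ⟨0, zero_mem _, dvd_zero _⟩
  · rintro a b _ _ ⟨u, hu, ha⟩ ⟨v, hv, hb⟩
    rcases ValuationRing.dvd_total (f u) (f v) with h | h
    · exact ⟨u, hu, dvd_add ha (h.trans hb)⟩
    · exact ⟨v, hv, dvd_add (h.trans ha) hb⟩
  · rintro c a _ ⟨u, hu, ha⟩; exact ⟨u, hu, ha.mul_left c⟩

variable {K₁ M M' : Type u} [Field K₁] [Field M] [Field M']

theorem weaklyUnramified_descend {f : K₁ →+* M} {f' : K₁ →+* M'} (ψ : M →+* M') (hψ : ψ.comp f = f')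
    {W : ValuationSubring M} (W' : ValuationSubring M') (hW : W'.comap ψ = W) :
    letI : Algebra (W'.comap f') W' := (EtRam.inclOfComap W' f').toAlgebra
    letI : Algebra (W.comap f) W := (EtRam.inclOfComap W f).toAlgebra
    EtRam.IsWeaklyUnramified (W'.comap f') W' → EtRam.IsWeaklyUnramified (W.comap f) W := by
  subst hψ hW
  intro h
  refine le_antisymm ?_ fun x hx => ?_
  · rw [Ideal.map_le_iff_le_comap]
    exact fun a ha => (mem_maximalIdeal _).2 fun hu => (mem_maximalIdeal _).1 ha ((isUnit_map_iff (EtRam.inclOfComap (W'.comap ψ) f) a).1 hu)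
  · have hx' : EtRam.inclOfComap W' ψ x ∈ maximalIdeal W' :=
      (mem_maximalIdeal _).2 fun hu => (mem_maximalIdeal _).1 hx ((isUnit_map_iff _ x).1 hu)
    rw [← h] at hx'
    obtain ⟨u, hu, c, hc⟩ := exists_dvd_of_mem_map _ hx'
    let u' : (W'.comap ψ).comap f := ⟨u.1, u.2⟩
    have hu' : u' ∈ maximalIdeal ((W'.comap ψ).comap f) := hu
    rcases eq_or_ne (x : M) 0 with h0 | h0
    · rw [show x = 0 from Subtype.ext h0]; exact zero_mem _
    have hcv : ψ (x : M) = ψ (f u.1) * (c : M') := congrArg Subtype.val hc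
    have hfu : f u.1 ≠ 0 := fun h1 => h0 (ψ.injective (by rw [hcv, h1, map_zero, zero_mul]))
    have hq : (x : M) / f u.1 ∈ W'.comap ψ := by
      rw [ValuationSubring.mem_comap, map_div₀, hcv, mul_div_cancel_left₀ _ ((map_ne_zero ψ).2 hfu)]
      exact c.2
    have he : x = EtRam.inclOfComap (W'.comap ψ) f u' * ⟨_, hq⟩ :=
      Subtype.ext (show (x : M) = f u.1 * ((x : M) / f u.1) by field_simp)
    rw [he]
    exact Ideal.mul_mem_right _ _ (Ideal.mem_map_of_mem (EtRam.inclOfComap (W'.comap ψ) f) hu')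

theorem geomReduced_descend {f : K₁ →+* M} {f' : K₁ →+* M'} (ψ : M →+* M') (hψ : ψ.comp f = f')
    {W : ValuationSubring M} (W' : ValuationSubring M') (hW : W'.comap ψ = W) :
    @Algebra.IsGeometricallyReduced (ResidueField (W'.comap f')) (ResidueField W') _ _
        (ResidueField.map (EtRam.inclOfComap W' f')).toAlgebra →
    @Algebra.IsGeometricallyReduced (ResidueField (W.comap f)) (ResidueField W) _ _
        (ResidueField.map (EtRam.inclOfComap W f)).toAlgebra := by
  subst hψ hW
  intro h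
  letI : Algebra (ResidueField ((W'.comap ψ).comap f)) (ResidueField (W'.comap ψ)) :=
    (ResidueField.map (EtRam.inclOfComap (W'.comap ψ) f)).toAlgebra
  letI : Algebra (ResidueField ((W'.comap ψ).comap f)) (ResidueField W') :=
    (ResidueField.map (EtRam.inclOfComap W' (ψ.comp f))).toAlgebra
  haveI : Algebra.IsGeometricallyReduced (ResidueField ((W'.comap ψ).comap f)) (ResidueField W') := h
  let e : ResidueField (W'.comap ψ) →ₐ[ResidueField ((W'.comap ψ).comap f)] ResidueField W' :=
    { ResidueField.map (EtRam.inclOfComap W' ψ) with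
      commutes' := fun z => by
        obtain ⟨a, rfl⟩ := residue_surjective z
        rfl }
  exact Algebra.IsGeometricallyReduced.of_injective e e.toRingHom.injective

/-- Every local extension below comes from one above. -/
theorem exists_above {B C K L M₀ : Type u} [CommRing B] [IsDomain B] [IsDiscreteValuationRing B]
    [CommRing C] [IsDomain C] [IsDiscreteValuationRing C] [Algebra B C] [IsLocalHom (algebraMap B C)]
    [Field K] [Field L] [Field M₀] [Algebra K L] [Algebra K M₀] [Algebra L M₀] [IsScalarTower K L M₀]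
    [Algebra K K₁] [FiniteDimensional K K₁] [Algebra B L] [IsFractionRing B L]
    [Algebra C M₀] [IsFractionRing C M₀] [Algebra B M₀] [IsScalarTower B C M₀] [IsScalarTower B L M₀]
    [Algebra K M] [Algebra L M] [Algebra K₁ M] [IsScalarTower K L M] [IsScalarTower K K₁ M]
    (hgen : Algebra.adjoin L (Set.range (algebraMap K₁ M)) = ⊤) (W : ValuationSubring M)
    (hW : EtRam.Dominates B ((algebraMap L M).comp (algebraMap B L)) W) :
    ∃ (M' : Type u) (_ : Field M') (_ : Algebra K M') (_ : Algebra M₀ M') (_ : Algebra K₁ M')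
      (_ : IsScalarTower K M₀ M') (_ : IsScalarTower K K₁ M') (W' : ValuationSubring M') (ψ : M →+* M'),
      Algebra.adjoin M₀ (Set.range (algebraMap K₁ M')) = ⊤ ∧
      EtRam.Dominates C ((algebraMap M₀ M').comp (algebraMap C M₀)) W' ∧
      ψ.comp (algebraMap K₁ M) = algebraMap K₁ M' ∧ W'.comap ψ = W := by
  classical
  have hval : ∀ {R F : Type u} [CommRing R] [IsDomain R] [IsDiscreteValuationRing R] [Field F] [Algebra R F]
      [IsFractionRing R F] (V : ValuationSubring F), EtRam.Dominates R (algebraMap R F) V →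
        ∀ x, x ∈ V ↔ ∃ r, algebraMap R F r = x := by
    intro R F _ _ _ _ _ _ V hV x
    refine ⟨fun hx => ?_, fun ⟨r, hr⟩ => hr ▸ hV.1 r⟩
    rcases ValuationRing.isInteger_or_isInteger R x with ⟨r, hr⟩ | ⟨r, hr⟩
    · exact ⟨r, hr⟩
    by_cases hu : IsUnit r
    · obtain ⟨u, rfl⟩ := hu
      exact ⟨↑u⁻¹, by rw [map_units_inv, hr, inv_inv]⟩
    · rcases eq_or_ne x 0 with rfl | hx0
      · exact ⟨0, map_zero _⟩
      exfalso
      have h1 := hV.2 r ((mem_maximalIdeal r).2 hu)
      rw [hr, map_inv₀] at h1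
      exact absurd ((V.valuation_le_one_iff _).2 hx) (not_le.2 ((inv_lt_one₀ (zero_lt_iff.2 (V.valuation.ne_zero_iff.2 hx0))).1 h1))
  let VC : ValuationSubring M₀ :=
    ⟨(algebraMap C M₀).range, fun x => by
      rcases ValuationRing.isInteger_or_isInteger C x with ⟨b, hb⟩ | ⟨b, hb⟩
      · exact Or.inl ⟨b, hb⟩
      · exact Or.inr ⟨b, hb⟩⟩
  have hVC : EtRam.Dominates C (algebraMap C M₀) VC := by
    refine ⟨fun c => ⟨c, rfl⟩, fun c hc => (VC.valuation_lt_one_iff ⟨_, c, rfl⟩).1
      ((mem_maximalIdeal _).2 fun hu => (mem_maximalIdeal _).1 hc ?_)⟩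
    obtain ⟨⟨y, d, rfl⟩, hy⟩ := hu.exists_right_inv
    exact IsUnit.of_mul_eq_one d (IsFractionRing.injective C M₀
      (by rw [map_mul, map_one]; exact congrArg Subtype.val hy))
  have hB1 : EtRam.Dominates B (algebraMap B L) (W.comap (algebraMap L M)) := by
    refine ⟨fun b => hW.1 b, fun b hb => ?_⟩
    refine ((W.comap (algebraMap L M)).valuation_lt_one_iff ⟨_, hW.1 b⟩).1 ((mem_maximalIdeal _).2 fun hu => ?_)
    exact (mem_maximalIdeal _).1 ((W.valuation_lt_one_iff ⟨_, hW.1 b⟩).2 (hW.2 b hb))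
      (hu.map (EtRam.inclOfComap W (algebraMap L M)))
  have hB2 : EtRam.Dominates B (algebraMap B L) (VC.comap (algebraMap L M₀)) := by
    have e : ∀ b, algebraMap L M₀ (algebraMap B L b) = algebraMap C M₀ (algebraMap B C b) := fun b => by
      rw [← IsScalarTower.algebraMap_apply, ← IsScalarTower.algebraMap_apply]
    have hm : ∀ b, algebraMap B L b ∈ VC.comap (algebraMap L M₀) := fun b => by
      rw [ValuationSubring.mem_comap, e]; exact hVC.1 _
    refine ⟨hm, fun b hb => ?_⟩
    refine ((VC.comap (algebraMap L M₀)).valuation_lt_one_iff ⟨_, hm b⟩).1 ((mem_maximalIdeal _).2 fun hu => ?_)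
    have h1 := hu.map (EtRam.inclOfComap VC (algebraMap L M₀))
    have h2 : VC.valuation ((EtRam.inclOfComap VC (algebraMap L M₀) ⟨_, hm b⟩ : VC) : M₀) < 1 := by
      rw [EtRam.inclOfComap_apply_coe, e]
      exact hVC.2 _ ((mem_maximalIdeal _).2 fun h => (mem_maximalIdeal _).1 hb ((isUnit_map_iff _ b).1 h))
    exact (mem_maximalIdeal _).1 ((VC.valuation_lt_one_iff _).2 h2) h1
  have hcomp : VC.comap (algebraMap L M₀) = W.comap (algebraMap L M) :=
    ValuationSubring.ext _ _ fun x => by rw [hval _ hB2, hval _ hB1]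
  obtain ⟨Ω, _, α, β, A, hαβ, hAα, hAβ⟩ :=
    AlgSpVal.exists_amalgam (algebraMap L M₀) (algebraMap L M) VC W hcomp
  letI : Algebra M₀ Ω := α.toAlgebra
  letI : Algebra K Ω := (α.comp (algebraMap K M₀)).toAlgebra
  haveI : IsScalarTower K M₀ Ω := IsScalarTower.of_algebraMap_eq fun _ => rfl
  let γ : K₁ →+* Ω := β.comp (algebraMap K₁ M)
  have hγ : ∀ z : K, γ (algebraMap K K₁ z) = algebraMap K Ω z := fun z => by
    show β (algebraMap K₁ M (algebraMap K K₁ z)) = α (algebraMap K M₀ z)
    rw [← IsScalarTower.algebraMap_apply, IsScalarTower.algebraMap_apply K L M,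
      IsScalarTower.algebraMap_apply K L M₀]
    exact (RingHom.congr_fun hαβ _).symm
  let S := IntermediateField.adjoin M₀ (Set.range γ)
  have hγalg : ∀ x ∈ Set.range γ, IsAlgebraic M₀ x := by
    rintro _ ⟨z, rfl⟩
    have hz : IsAlgebraic K z := Algebra.IsAlgebraic.isAlgebraic z
    let γa : K₁ →ₐ[K] Ω := { γ with commutes' := hγ }
    exact (hz.algHom γa).tower_top M₀
  have hγS : ∀ z, γ z ∈ S := fun z => IntermediateField.subset_adjoin _ _ ⟨z, rfl⟩
  letI : Algebra K₁ S := (γ.codRestrict S hγS).toAlgebra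
  letI : Algebra K S := ((algebraMap M₀ S).comp (algebraMap K M₀)).toAlgebra
  haveI : IsScalarTower K M₀ S := IsScalarTower.of_algebraMap_eq fun _ => rfl
  haveI : IsScalarTower K K₁ S := IsScalarTower.of_algebraMap_eq fun z => Subtype.ext (hγ z).symm
  have hβS : ∀ x, β x ∈ S := by
    intro x
    have hx : x ∈ Algebra.adjoin L (Set.range (algebraMap K₁ M)) := hgen ▸ trivial
    induction hx using Algebra.adjoin_induction with
    | mem y hy => obtain ⟨z, rfl⟩ := hy; exact hγS z
    | algebraMap l => rw [← RingHom.comp_apply, ← hαβ]; exact S.algebraMap_mem _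
    | add a b _ _ ha hb => rw [map_add]; exact S.add_mem ha hb
    | mul a b _ _ ha hb => rw [map_mul]; exact S.mul_mem ha hb
  refine ⟨S, inferInstance, inferInstance, inferInstance, inferInstance, inferInstance, inferInstance,
    A.comap S.val.toRingHom, β.codRestrict S hβS, ?_, ?_, ?_, ?_⟩
  · refine Subalgebra.map_injective (f := S.val) S.val.injective ?_
    rw [AlgHom.map_adjoin, Algebra.map_top, ← Set.range_comp]
    show Algebra.adjoin M₀ (Set.range γ) = _
    rw [IntermediateField.range_val, IntermediateField.adjoin_toSubalgebra_of_isAlgebraic hγalg]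
  · refine ⟨fun c => ?_, fun c hc => ?_⟩
    · show α (algebraMap C M₀ c) ∈ A
      have := hVC.1 c
      rw [← hAα] at this
      exact this
    · have hm : algebraMap C M₀ c ∈ A.comap α := by rw [hAα]; exact hVC.1 c
      have hlt : (A.comap α).valuation (algebraMap C M₀ c) < 1 := by rw [hAα]; exact hVC.2 c hc
      have hm' : ((algebraMap M₀ S).comp (algebraMap C M₀)) c ∈ A.comap S.val.toRingHom := hm
      refine ((A.comap S.val.toRingHom).valuation_lt_one_iff ⟨_, hm'⟩).1 ((mem_maximalIdeal _).2 fun hu => ?_)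
      have h1 := hu.map (EtRam.inclOfComap A S.val.toRingHom)
      have h2 : IsUnit (EtRam.inclOfComap A α ⟨_, hm⟩) := h1
      exact (mem_maximalIdeal _).1 (((A.comap α).valuation_lt_one_iff ⟨_, hm⟩).2 hlt) ((isUnit_map_iff _ _).1 h2)
  · exact RingHom.ext fun z => rfl
  · rw [ValuationSubring.comap_comap]
    exact hAβ

end Groth.Agent.H1Ram
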