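import Mathlib

/-!
# Reduced Artinian rings and local extensions generated by a fibre
-/

set_option autoImplicit false

universe u

open IsLocalRing TensorProduct

namespace Groth.Agent.H1Ram

theorem exists_sq {T : Type u} [CommRing T] [IsArtinianRing T] [IsReduced T] (x : T) : ∃ y, x = x * x * y := by
  obtain ⟨n, y, hy⟩ := IsArtinian.exists_pow_succ_smul_dvd (M := T) x (1 : T)
  simp only [smul_eq_mul, mul_one] at hy
  refine ⟨y, ?_⟩
  have h2 : IsNilpotent (x - x * x * y) := ⟨n + 1, by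
    have : (x - x * x * y) ^ (n + 1) = (x ^ n - x ^ (n + 1) * y) * (x * (1 - x * y) ^ n) := by
      rw [show x - x * x * y = x * (1 - x * y) by ring, mul_pow, pow_succ' (1 - x * y)]; ring
    have hy' : x ^ (n + 1) * y = x ^ n := by rw [← hy]
    rw [this, hy', sub_self, zero_mul]⟩
  exact sub_eq_zero.1 h2.eq_zero

/-- A factor of a geometrically reduced Artinian algebra is geometrically reduced. -/
theorem geomReduced_of_surjective (k : Type u) [Field k] {T F : Type u} [CommRing T] [CommRing F] [Algebra k T]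
    [Algebra k F] [IsArtinianRing T] [Algebra.IsGeometricallyReduced k T] (f : T →ₐ[k] F)
    (hf : Function.Surjective f) : Algebra.IsGeometricallyReduced k F := by
  haveI : IsReduced T := Algebra.isReduced_of_isGeometricallyReduced k
  obtain ⟨e, he, hker⟩ : ∃ e : T, IsIdempotentElem e ∧ RingHom.ker f.toRingHom = Ideal.span {e} := by
    refine (Ideal.isIdempotentElem_iff_of_fg _ (IsNoetherian.noetherian _)).1 ?_
    refine le_antisymm Ideal.mul_le_left fun p hp => ?_
    obtain ⟨y, hy⟩ := exists_sq p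
    rw [hy, mul_assoc]
    exact Ideal.mul_mem_mul hp (Ideal.mul_mem_right _ _ hp)
  haveI : IsReduced (AlgebraicClosure k ⊗[k] T) := (Algebra.isGeometricallyReduced_field_iff k T).1 ‹_›
  rw [Algebra.isGeometricallyReduced_field_iff]
  let φ := Algebra.TensorProduct.map (AlgHom.id k (AlgebraicClosure k)) f
  have hφ : Function.Surjective φ := fun z => by
    induction z using TensorProduct.induction_on with
    | zero => exact ⟨0, map_zero _⟩
    | tmul a b => obtain ⟨t, rfl⟩ := hf b; exact ⟨a ⊗ₜ t, by simp [φ]⟩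
    | add a b ha hb =>
      obtain ⟨x, rfl⟩ := ha; obtain ⟨y, rfl⟩ := hb
      exact ⟨x + y, map_add _ _ _⟩
  have hk : RingHom.ker φ.toRingHom = Ideal.span {(1 : AlgebraicClosure k) ⊗ₜ[k] e} := by
    have h := Algebra.TensorProduct.lTensor_ker (A := AlgebraicClosure k) f hf
    rw [show RingHom.ker f = RingHom.ker f.toRingHom from rfl, hker, Ideal.map_span, Set.image_singleton] at h
    exact h
  refine ⟨fun z hz => ?_⟩
  obtain ⟨x, rfl⟩ := hφ z
  obtain ⟨n, hn⟩ := hz
  rw [← map_pow] at hn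
  obtain ⟨c, hc⟩ := Ideal.mem_span_singleton'.1 (hk ▸ (RingHom.mem_ker.2 hn : x ^ n ∈ RingHom.ker φ.toRingHom))
  have he' : IsIdempotentElem ((1 : AlgebraicClosure k) ⊗ₜ[k] e) :=
    he.map (Algebra.TensorProduct.includeRight (R := k) (A := AlgebraicClosure k))
  have h1 : x * (1 - (1 : AlgebraicClosure k) ⊗ₜ[k] e) = 0 := by
    refine IsNilpotent.eq_zero ⟨n + 1, ?_⟩
    rw [pow_succ, mul_pow, ← hc, show c * ((1 : AlgebraicClosure k) ⊗ₜ[k] e) *
      (1 - (1 : AlgebraicClosure k) ⊗ₜ[k] e) ^ n * (x * (1 - (1 : AlgebraicClosure k) ⊗ₜ[k] e)) =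
      c * (1 - (1 : AlgebraicClosure k) ⊗ₜ[k] e) ^ n * x *
        ((1 : AlgebraicClosure k) ⊗ₜ[k] e * (1 - (1 : AlgebraicClosure k) ⊗ₜ[k] e)) by ring,
      mul_sub, mul_one, he'.eq, sub_self, mul_zero]
  rw [mul_sub, mul_one, sub_eq_zero] at h1
  have : x ∈ RingHom.ker φ.toRingHom := by
    rw [hk, h1]; exact Ideal.mul_mem_left _ _ (Ideal.mem_span_singleton_self _)
  exact this

/-- A local extension `W` generated (as fractions) by a subring `R₀` whose fibre modulo `π` is von Neumann
regular: `π` generates the maximal ideal of `W` and residues come from `R₀`. -/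
theorem maximalIdeal_eq_span_of_fibre {M : Type u} [Field M] (W : ValuationSubring M) [IsDiscreteValuationRing W]
    (R₀ : Subring W) (π : R₀) (hπ : (π : W) ∈ maximalIdeal W) (hπ0 : π ≠ 0)
    (hvn : ∀ x : R₀, ∃ y : R₀, x - x * x * y ∈ Ideal.span {π})
    (hfrac : ∀ x : M, ∃ r s : R₀, s ≠ 0 ∧ x * ((s : W) : M) = ((r : W) : M)) :
    maximalIdeal W = Ideal.span {(π : W)} ∧ ∀ z : ResidueField W, ∃ r : R₀, residue W (r : W) = z := by
  have key : ∀ n : ℕ, ∀ r : R₀, (r : W) ∉ maximalIdeal W ^ n →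
      ∃ (m : ℕ) (r' s : R₀), IsUnit (r' : W) ∧ IsUnit (s : W) ∧ (r : W) * s = (π : W) ^ m * r' := by
    intro n
    induction n with
    | zero => intro r hr; simp at hr
    | succ n ih =>
      intro r hr
      by_cases hu : IsUnit (r : W)
      · exact ⟨0, r, 1, hu, isUnit_one, by simp⟩
      obtain ⟨y, hy⟩ := hvn r
      obtain ⟨r₁, hr₁⟩ := Ideal.mem_span_singleton'.1 hy
      have hs : IsUnit ((1 - r * y : R₀) : W) := by
        rw [← IsLocalRing.notMem_maximalIdeal]
        intro hmem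
        refine (maximalIdeal.isMaximal W).ne_top ((Ideal.eq_top_iff_one _).2 ?_)
        have := add_mem hmem (Ideal.mul_mem_right (y : W) _ ((mem_maximalIdeal _).2 hu))
        simpa using this
      have he : (r : W) * ((1 - r * y : R₀) : W) = (π : W) * (r₁ : W) := by
        rw [← Subring.coe_mul, ← Subring.coe_mul]
        refine congrArg Subtype.val ?_
        linear_combination -hr₁
      obtain ⟨m, r', s, hr', hs', hrs⟩ := ih r₁ fun h => hr (by
        have h2 : (r : W) * ((1 - r * y : R₀) : W) ∈ maximalIdeal W ^ (n + 1) := by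
          rw [he, pow_succ']; exact Ideal.mul_mem_mul hπ h
        exact (Ideal.mul_unit_mem_iff_mem _ hs).1 h2)
      refine ⟨m + 1, r', (1 - r * y) * s, hr', ?_, ?_⟩
      · rw [Subring.coe_mul]; exact hs.mul hs'
      · rw [Subring.coe_mul, ← mul_assoc, he, mul_assoc, hrs]; ring
  have key' : ∀ r : R₀, r ≠ 0 → ∃ (m : ℕ) (r' s : R₀), IsUnit (r' : W) ∧ IsUnit (s : W) ∧
      (r : W) * s = (π : W) ^ m * r' := by
    intro r hr
    by_contra hno
    refine hr (Subtype.ext ?_)
    have : (r : W) ∈ ⨅ n, maximalIdeal W ^ n := (Submodule.mem_iInf _).2 fun n => by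
      by_contra hn; exact hno (key n r hn)
    rw [Ideal.iInf_pow_eq_bot_of_isLocalRing _ (maximalIdeal.isMaximal W).ne_top, Ideal.mem_bot] at this
    exact this
  have hπW : (π : W) ≠ 0 := fun h => hπ0 (Subtype.ext h)
  have main : ∀ x : W, x ≠ 0 → ∃ (m n : ℕ) (r s : R₀), IsUnit (r : W) ∧ IsUnit (s : W) ∧
      x * (π : W) ^ n * s = (π : W) ^ m * r := by
    intro x hx
    obtain ⟨r, s, hs, hxs⟩ := hfrac (x : M)
    have hxs' : x * (s : W) = (r : W) := Subtype.ext hxs
    have hr : r ≠ 0 := fun h => by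
      rw [h, Subring.coe_zero, mul_eq_zero] at hxs'
      exact hxs'.elim hx fun h0 => hs (Subtype.ext h0)
    obtain ⟨m, r', t, hr', ht, hrt⟩ := key' r hr
    obtain ⟨n, s', w, hs', hw, hsw⟩ := key' s hs
    refine ⟨m, n, r' * w, s' * t, ?_, ?_, ?_⟩
    · rw [Subring.coe_mul]; exact hr'.mul hw
    · rw [Subring.coe_mul]; exact hs'.mul ht
    · rw [Subring.coe_mul, Subring.coe_mul]
      linear_combination (-(x * (t : W))) * hsw + ((t : W) * (w : W)) * hxs' + (w : W) * hrt
  have hle : maximalIdeal W = Ideal.span {(π : W)} := by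
    refine le_antisymm (fun x hx => ?_) ((Ideal.span_singleton_le_iff_mem _).2 hπ)
    rcases eq_or_ne x 0 with rfl | hx0
    · exact zero_mem _
    obtain ⟨m, n, r, s, hr, hs, h⟩ := main x hx0
    rcases Nat.lt_or_ge n m with hmn | hmn
    · obtain ⟨j, rfl⟩ := Nat.exists_eq_add_of_lt hmn
      have h' : x * (s : W) = (π : W) * ((π : W) ^ j * r) :=
        mul_left_cancel₀ (pow_ne_zero n hπW) (by linear_combination h)
      rw [← Ideal.mul_unit_mem_iff_mem _ hs, h']
      exact Ideal.mul_mem_right _ _ (Ideal.mem_span_singleton_self _)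
    · obtain ⟨j, rfl⟩ := Nat.exists_eq_add_of_le hmn
      have h' : x * ((π : W) ^ j * s) = r := mul_left_cancel₀ (pow_ne_zero m hπW) (by linear_combination h)
      exact absurd (isUnit_of_mul_isUnit_left (h' ▸ hr)) ((mem_maximalIdeal _).1 hx)
  refine ⟨hle, fun z => ?_⟩
  obtain ⟨x, rfl⟩ := residue_surjective z
  by_cases hu : IsUnit x
  swap
  · exact ⟨0, by rw [Subring.coe_zero, map_zero, eq_comm, residue_eq_zero_iff]; exact hu⟩
  obtain ⟨m, n, r, s, hr, hs, h⟩ := main x hu.ne_zero
  have hmn : m = n := by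
    by_contra hne
    have hnu : ¬ IsUnit ((π : W)) := (mem_maximalIdeal _).1 hπ
    rcases Nat.lt_or_gt_of_ne hne with hlt | hlt
    · obtain ⟨j, rfl⟩ := Nat.exists_eq_add_of_lt hlt
      have h' : (π : W) * ((π : W) ^ j * (x * s)) = r := mul_left_cancel₀ (pow_ne_zero m hπW) (by linear_combination h)
      exact hnu (isUnit_of_mul_isUnit_left (h' ▸ hr))
    · obtain ⟨j, rfl⟩ := Nat.exists_eq_add_of_lt hlt
      have h' : x * (s : W) = (π : W) * ((π : W) ^ j * r) := mul_left_cancel₀ (pow_ne_zero n hπW) (by linear_combination h)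
      exact hnu (isUnit_of_mul_isUnit_left (h' ▸ hu.mul hs))
  subst hmn
  have h' : x * (s : W) = r := mul_left_cancel₀ (pow_ne_zero m hπW) (by linear_combination h)
  obtain ⟨y, hy⟩ := hvn s
  obtain ⟨c, hc⟩ := Ideal.mem_span_singleton'.1 hy
  refine ⟨r * y, ?_⟩
  have hπz : residue W (π : W) = 0 := (residue_eq_zero_iff _).2 hπ
  have hsy : residue W (s : W) * residue W (y : W) = 1 := by
    have h2 := congrArg (fun a : R₀ => residue W (a : W)) hc
    simp only [Subring.coe_mul, AddSubgroupClass.coe_sub, map_mul, map_sub, hπz, mul_zero] at h2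
    refine mul_left_cancel₀ (hs.map (residue W)).ne_zero ?_
    linear_combination h2
  rw [Subring.coe_mul, map_mul, ← h', map_mul, mul_assoc, hsy, mul_one]

end Groth.Agent.H1Ram
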