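import Groth.Agent.H1Ram.TotRam
import Groth.Agent.H1Ram.Generic
import Groth.Agent.KrullAkiExt.Basic
import Mathlib.RingTheory.Nilpotent.GeometricallyReduced

/-!
# Base change of weakly unramified extensions with separable residue fields
-/

set_option autoImplicit false

universe u

open IsLocalRing TensorProduct
open scoped Pointwise

namespace Groth.Agent.H1Ram

theorem isGeometricallyReduced_baseChange (κA κB κU : Type u) [Field κA] [Field κB] [Field κU] [Algebra κA κB]
    [Algebra κA κU] [Module.Finite κA κU] [Algebra.IsGeometricallyReduced κA κB] :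
    Algebra.IsGeometricallyReduced κU (κU ⊗[κA] κB) := by
  rw [Algebra.isGeometricallyReduced_field_iff]
  haveI : Algebra.IsAlgebraic κA (AlgebraicClosure κU) := Algebra.IsAlgebraic.trans κA κU _
  exact isReduced_of_injective (Algebra.TensorProduct.cancelBaseChange κA κU (AlgebraicClosure κU)
    (AlgebraicClosure κU) κB).toRingHom (AlgEquiv.injective _)

theorem isArtinianRing_baseChange (κA κB κU : Type u) [Field κA] [Field κB] [Field κU] [Algebra κA κB]
    [Algebra κA κU] [Module.Finite κA κU] : IsArtinianRing (κU ⊗[κA] κB) := by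
  haveI : IsArtinianRing (κB ⊗[κA] κU) := IsArtinianRing.of_finite κB (κB ⊗[κA] κU)
  exact Function.Surjective.isArtinianRing (f := (Algebra.TensorProduct.comm κA κB κU).toRingHom)
    (Algebra.TensorProduct.comm κA κB κU).surjective

variable {A K : Type u} [CommRing A] [IsDomain A] [IsDiscreteValuationRing A] [Field K] [Algebra A K]
  [IsFractionRing A K]

theorem isDVR_of_dominates_finite {L : Type u} [Field L] [Algebra K L] [FiniteDimensional K L]
    (V : ValuationSubring L) (hV : EtRam.Dominates A ((algebraMap K L).comp (algebraMap A K)) V) :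
    IsDiscreteValuationRing V ∧
      (letI : Algebra A V := (RingHom.codRestrict ((algebraMap K L).comp (algebraMap A K)) V hV.1).toAlgebra
       ∀ {a : A}, a ≠ 0 → IsFiniteLength A (V ⧸ (a • (⊤ : Submodule A V)))) := by
  letI : Algebra A V := (RingHom.codRestrict ((algebraMap K L).comp (algebraMap A K)) V hV.1).toAlgebra
  letI : Algebra A L := ((algebraMap K L).comp (algebraMap A K)).toAlgebra
  haveI : IsScalarTower A K L := IsScalarTower.of_algebraMap_eq fun _ => rfl
  haveI : IsScalarTower A V L := IsScalarTower.of_algebraMap_eq fun _ => rfl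
  haveI : Ring.KrullDimLE 1 A := inferInstance
  refine ⟨?_, fun ha => KrullAkiExt.isFiniteLength_quotient_map (K := K) L V (IsFractionRing.injective V L) ha⟩
  haveI : IsNoetherianRing V :=
    KrullAkiExt.isNoetherianRing_of_injective (R := A) (K := K) L V (IsFractionRing.injective V L)
  obtain ⟨π, hπ⟩ := IsDiscreteValuationRing.exists_irreducible A
  have hlt := hV.2 π (hπ.maximalIdeal_eq ▸ Ideal.mem_span_singleton_self π)
  have hne : ((algebraMap K L).comp (algebraMap A K)) π ≠ 0 :=
    fun h => hπ.ne_zero (((algebraMap K L).injective.comp (IsFractionRing.injective A K)) (by simp only [Function.comp_apply, map_zero]; exact h))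
  refine Rat20Lib.isDVR_of_isNoetherianRing V (x := (((algebraMap K L).comp (algebraMap A K)) π)⁻¹) fun hmem => ?_
  have h1 := (V.valuation_le_one_iff _).2 hmem
  rw [map_inv₀, inv_le_one₀ (zero_lt_iff.2 ((V.valuation).ne_zero_iff.2 hne))] at h1
  exact absurd hlt (not_lt.2 h1)

theorem finite_residueField {L : Type u} [Field L] [Algebra K L] [FiniteDimensional K L]
    (V : ValuationSubring L) (hV : EtRam.Dominates A ((algebraMap K L).comp (algebraMap A K)) V) :
    letI : Algebra A V := (RingHom.codRestrict ((algebraMap K L).comp (algebraMap A K)) V hV.1).toAlgebra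
    ∀ [IsLocalHom (algebraMap A V)], Module.Finite (ResidueField A) (ResidueField V) := by
  letI : Algebra A V := (RingHom.codRestrict ((algebraMap K L).comp (algebraMap A K)) V hV.1).toAlgebra
  intro _
  obtain ⟨π, hπ⟩ := IsDiscreteValuationRing.exists_irreducible A
  obtain ⟨hN, -⟩ := isFiniteLength_iff_isNoetherian_isArtinian.1 ((isDVR_of_dominates_finite V hV).2 hπ.ne_zero)
  let g : V →ₗ[A] ResidueField V := (IsScalarTower.toAlgHom A V (ResidueField V)).toLinearMap
  have hle : (π • (⊤ : Submodule A V)) ≤ LinearMap.ker g := fun x hx => by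
    obtain ⟨y, _, rfl⟩ := (Submodule.mem_smul_pointwise_iff_exists _ _ _).1 hx
    rw [LinearMap.mem_ker]
    show residue V (π • y) = 0
    rw [residue_eq_zero_iff, Algebra.smul_def]
    exact Ideal.mul_mem_right _ _ ((mem_maximalIdeal _).2 fun hu =>
      hπ.not_isUnit ((isUnit_map_iff (algebraMap A V) π).1 hu))
  haveI : Module.Finite A (ResidueField V) := Module.Finite.of_surjective (Submodule.liftQ _ g hle) fun x => by
    obtain ⟨y, rfl⟩ := residue_surjective x
    exact ⟨Submodule.Quotient.mk y, rfl⟩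
  exact Module.Finite.of_restrictScalars_finite A _ _

theorem exists_fibre_gen {B U W : Type u} [CommRing B] [CommRing U] [CommRing W] [IsLocalRing B] [IsLocalRing U]
    [Algebra A B] [Algebra A U] [IsLocalHom (algebraMap A B)] [IsLocalHom (algebraMap A U)]
    [IsArtinianRing (ResidueField U ⊗[ResidueField A] ResidueField B)]
    [IsReduced (ResidueField U ⊗[ResidueField A] ResidueField B)]
    (ιU : U →+* W) (ιB : B →+* W) (hA : ∀ a, ιU (algebraMap A U a) = ιB (algebraMap A B a))
    (R₀ : Subring W) (hR₀ : R₀ = Subring.closure (Set.range ιU ∪ Set.range ιB))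
    (hB : maximalIdeal B = (maximalIdeal A).map (algebraMap A B))
    (πU : U) (hπU : maximalIdeal U = Ideal.span {πU}) (π : R₀) (hπ : (π : W) = ιU πU) :
    ∀ x : R₀, ∃ y : R₀, x - x * x * y ∈ Ideal.span {π} := by
  subst hR₀
  let fU : U →+* Subring.closure (Set.range ιU ∪ Set.range ιB) :=
    ιU.codRestrict _ fun u => Subring.subset_closure (Or.inl ⟨u, rfl⟩)
  let fB : B →+* Subring.closure (Set.range ιU ∪ Set.range ιB) :=
    ιB.codRestrict _ fun b => Subring.subset_closure (Or.inr ⟨b, rfl⟩)
  let qU := (Ideal.Quotient.mk (Ideal.span {π})).comp fU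
  let qB := (Ideal.Quotient.mk (Ideal.span {π})).comp fB
  have hU0 : ∀ u ∈ maximalIdeal U, qU u = 0 := fun u hu => by
    obtain ⟨c, rfl⟩ := Ideal.mem_span_singleton'.1 (hπU ▸ hu)
    refine Ideal.Quotient.eq_zero_iff_mem.2 ?_
    rw [map_mul, show fU πU = π from Subtype.ext hπ.symm]
    exact Ideal.mul_mem_left _ _ (Ideal.mem_span_singleton_self _)
  have hB0 : ∀ b ∈ maximalIdeal B, qB b = 0 := by
    intro b hb
    rw [hB] at hb
    refine (Ideal.map_le_iff_le_comap (K := RingHom.ker qB)).2 (fun a ha => ?_) hb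
    show qB (algebraMap A B a) = 0
    rw [show qB (algebraMap A B a) = qU (algebraMap A U a) from congrArg _ (Subtype.ext (hA a).symm)]
    exact hU0 _ ((mem_maximalIdeal _).2 fun hu => (mem_maximalIdeal _).1 ha ((isUnit_map_iff _ a).1 hu))
  let rU : ResidueField U →+* _ := Ideal.Quotient.lift (maximalIdeal U) qU hU0
  let rB : ResidueField B →+* _ := Ideal.Quotient.lift (maximalIdeal B) qB hB0
  letI : Algebra (ResidueField A) (Subring.closure (Set.range ιU ∪ Set.range ιB) ⧸ Ideal.span {π}) :=
    (rU.comp (algebraMap (ResidueField A) (ResidueField U))).toAlgebra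
  let ψU : ResidueField U →ₐ[ResidueField A] _ := { rU with commutes' := fun _ => rfl }
  let ψB : ResidueField B →ₐ[ResidueField A] (Subring.closure (Set.range ιU ∪ Set.range ιB) ⧸ Ideal.span {π}) :=
    { rB with
      commutes' := fun a => by
        obtain ⟨a, rfl⟩ := residue_surjective a
        show qB (algebraMap A B a) = qU (algebraMap A U a)
        exact congrArg _ (Subtype.ext (hA a).symm) }
  let Φ := Algebra.TensorProduct.lift ψU ψB fun _ _ => Commute.all _ _
  have hsurj : ∀ x : Subring.closure (Set.range ιU ∪ Set.range ιB), Ideal.Quotient.mk _ x ∈ Φ.range := by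
    rintro ⟨x, hx⟩
    induction hx using Subring.closure_induction with
    | mem z hz =>
      rcases hz with ⟨u, rfl⟩ | ⟨b, rfl⟩
      · exact ⟨residue U u ⊗ₜ 1, (Algebra.TensorProduct.lift_tmul _ _ _ _ _).trans (by rw [map_one, mul_one]; rfl)⟩
      · exact ⟨1 ⊗ₜ residue B b, (Algebra.TensorProduct.lift_tmul _ _ _ _ _).trans (by rw [map_one, one_mul]; rfl)⟩
    | zero => exact zero_mem Φ.range
    | one => exact one_mem Φ.range
    | add a b _ _ ha hb => exact add_mem ha hb
    | neg a _ ha => exact neg_mem ha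
    | mul a b _ _ ha hb => exact mul_mem ha hb
  intro x
  obtain ⟨t, ht⟩ := hsurj x
  obtain ⟨s, hs⟩ := exists_sq t
  obtain ⟨y, hy⟩ := Ideal.Quotient.mk_surjective (Φ.toRingHom s)
  refine ⟨y, ?_⟩
  rw [← Ideal.Quotient.eq, map_mul, map_mul, hy, ← ht]
  show Φ t = Φ t * Φ t * Φ s
  rw [← map_mul, ← map_mul, ← hs]

variable {B L : Type u} [CommRing B] [IsDomain B] [IsDiscreteValuationRing B] [Algebra A B]
  [IsLocalHom (algebraMap A B)] [Field L] [Algebra B L] [IsFractionRing B L]
  [Algebra K L] [Algebra A L] [IsScalarTower A K L] [IsScalarTower A B L]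
  {K₁ : Type u} [Field K₁] [Algebra K K₁] [FiniteDimensional K K₁]
  {M : Type u} [Field M] [Algebra K M] [Algebra L M] [Algebra K₁ M] [IsScalarTower K L M] [IsScalarTower K K₁ M]

include K in
theorem solution_core (hw : EtRam.IsWeaklyUnramified A B)
    [Algebra.IsGeometricallyReduced (ResidueField A) (ResidueField B)]
    (hgen : Algebra.adjoin L (Set.range (algebraMap K₁ M)) = ⊤) (W : ValuationSubring M)
    (hW : EtRam.Dominates B ((algebraMap L M).comp (algebraMap B L)) W) :
    (letI : Algebra (W.comap (algebraMap K₁ M)) W := (EtRam.inclOfComap W (algebraMap K₁ M)).toAlgebra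
     EtRam.IsWeaklyUnramified (W.comap (algebraMap K₁ M)) W) ∧
      @Algebra.IsGeometricallyReduced (ResidueField (W.comap (algebraMap K₁ M))) (ResidueField W) _ _
        (ResidueField.map (EtRam.inclOfComap W (algebraMap K₁ M))).toAlgebra := by
  haveI : FiniteDimensional L M := Module.Finite.of_surjective
    (prodHom (K := K) (L := L) (K₁ := K₁) (M := M)).toLinearMap (prodHom_surjective hgen)
  have e : ∀ a : A, ((algebraMap L M).comp (algebraMap B L)) (algebraMap A B a) =
      ((algebraMap K M).comp (algebraMap A K)) a := fun a => by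
    rw [RingHom.comp_apply, RingHom.comp_apply, ← IsScalarTower.algebraMap_apply A B L,
      IsScalarTower.algebraMap_apply A K L, ← IsScalarTower.algebraMap_apply K L M]
  have hWA : EtRam.Dominates A ((algebraMap K M).comp (algebraMap A K)) W :=
    ⟨fun a => e a ▸ hW.1 _, fun a ha => e a ▸ hW.2 _
      ((mem_maximalIdeal _).2 fun hu => (mem_maximalIdeal _).1 ha ((isUnit_map_iff _ a).1 hu))⟩
  have hU := dominates_comap (L := K₁) W hWA
  letI : Algebra A (W.comap (algebraMap K₁ M)) :=
    (RingHom.codRestrict ((algebraMap K K₁).comp (algebraMap A K)) (W.comap (algebraMap K₁ M)) hU.1).toAlgebra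
  letI : Algebra B W := (RingHom.codRestrict ((algebraMap L M).comp (algebraMap B L)) W hW.1).toAlgebra
  haveI hdvW := (isDVR_of_dominates_finite (A := B) (K := L) W hW).1
  haveI hdvU := (isDVR_of_dominates_finite (W.comap (algebraMap K₁ M)) hU).1
  haveI : IsLocalHom (algebraMap A (W.comap (algebraMap K₁ M))) := ⟨fun a ha => by
    by_contra hna
    exact (mem_maximalIdeal _).1 (((W.comap (algebraMap K₁ M)).valuation_lt_one_iff _).2
      (hU.2 a ((mem_maximalIdeal a).2 hna))) ha⟩
  haveI : IsLocalHom (algebraMap B W) := ⟨fun a ha => by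
    by_contra hna
    exact (mem_maximalIdeal _).1 ((W.valuation_lt_one_iff _).2 (hW.2 a ((mem_maximalIdeal a).2 hna))) ha⟩
  haveI := finite_residueField (W.comap (algebraMap K₁ M)) hU
  haveI := isArtinianRing_baseChange (ResidueField A) (ResidueField B) (ResidueField (W.comap (algebraMap K₁ M)))
  haveI hgr := isGeometricallyReduced_baseChange (ResidueField A) (ResidueField B)
    (ResidueField (W.comap (algebraMap K₁ M)))
  haveI : IsReduced (ResidueField (W.comap (algebraMap K₁ M)) ⊗[ResidueField A] ResidueField B) :=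
    Algebra.isReduced_of_isGeometricallyReduced (ResidueField (W.comap (algebraMap K₁ M)))
  obtain ⟨πU, hπU⟩ := IsDiscreteValuationRing.exists_irreducible (W.comap (algebraMap K₁ M))
  generalize hR₀ : Subring.closure (Set.range (EtRam.inclOfComap W (algebraMap K₁ M)) ∪ Set.range (algebraMap B W)) = R₀
  have hmemU : ∀ u, EtRam.inclOfComap W (algebraMap K₁ M) u ∈ R₀ := fun u =>
    hR₀ ▸ Subring.subset_closure (Or.inl ⟨u, rfl⟩)
  have hmemB : ∀ b, algebraMap B W b ∈ R₀ := fun b => hR₀ ▸ Subring.subset_closure (Or.inr ⟨b, rfl⟩)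
  have hA : ∀ a, EtRam.inclOfComap W (algebraMap K₁ M) (algebraMap A (W.comap (algebraMap K₁ M)) a) =
      algebraMap B W (algebraMap A B a) := fun a =>
    Subtype.ext ((IsScalarTower.algebraMap_apply K K₁ M _).symm.trans (e a).symm)
  have hvn := exists_fibre_gen (A := A) (EtRam.inclOfComap W (algebraMap K₁ M)) (algebraMap B W) hA R₀ hR₀.symm
    hw.symm πU hπU.maximalIdeal_eq ⟨_, hmemU πU⟩ rfl
  have hπ0 : (⟨_, hmemU πU⟩ : R₀) ≠ 0 := fun h => hπU.ne_zero (Subtype.ext ((algebraMap K₁ M).injective (by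
    rw [ZeroMemClass.coe_zero, map_zero]
    exact congrArg (fun r : R₀ => ((r : W) : M)) h)))
  have hfrac : ∀ x : M, ∃ r s : R₀, s ≠ 0 ∧ x * ((s : W) : M) = ((r : W) : M) := by
    intro x
    have hx : x ∈ Algebra.adjoin L (Set.range (algebraMap K₁ M)) := hgen ▸ Algebra.mem_top
    induction hx using Algebra.adjoin_induction with
    | mem z hz =>
      obtain ⟨k, rfl⟩ := hz
      obtain ⟨p, q, hq, rfl⟩ := IsFractionRing.div_surjective (A := W.comap (algebraMap K₁ M)) k
      have hq0 : algebraMap K₁ M (q : K₁) ≠ 0 :=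
        (map_ne_zero _).2 fun h => nonZeroDivisors.ne_zero hq (Subtype.ext h)
      refine ⟨⟨_, hmemU p⟩, ⟨_, hmemU q⟩, fun h => hq0 (congrArg (fun r : R₀ => ((r : W) : M)) h), ?_⟩
      show algebraMap K₁ M ((p : K₁) / (q : K₁)) * algebraMap K₁ M (q : K₁) = algebraMap K₁ M (p : K₁)
      rw [map_div₀, div_mul_cancel₀ _ hq0]
    | algebraMap l =>
      obtain ⟨p, q, hq, rfl⟩ := IsFractionRing.div_surjective (A := B) l
      have hq0 : algebraMap L M (algebraMap B L q) ≠ 0 :=
        (map_ne_zero _).2 (IsFractionRing.to_map_ne_zero_of_mem_nonZeroDivisors hq)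
      refine ⟨⟨_, hmemB p⟩, ⟨_, hmemB q⟩, fun h => hq0 (congrArg (fun r : R₀ => ((r : W) : M)) h), ?_⟩
      show algebraMap L M (_ / _) * algebraMap L M (algebraMap B L q) = algebraMap L M (algebraMap B L p)
      rw [map_div₀, div_mul_cancel₀ _ hq0]
    | add a b _ _ ha hb =>
      obtain ⟨r₁, s₁, hs₁, h₁⟩ := ha; obtain ⟨r₂, s₂, hs₂, h₂⟩ := hb
      refine ⟨r₁ * s₂ + r₂ * s₁, s₁ * s₂, mul_ne_zero hs₁ hs₂, ?_⟩
      push_cast
      linear_combination ((s₂ : W) : M) * h₁ + ((s₁ : W) : M) * h₂
    | mul a b _ _ ha hb =>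
      obtain ⟨r₁, s₁, hs₁, h₁⟩ := ha; obtain ⟨r₂, s₂, hs₂, h₂⟩ := hb
      refine ⟨r₁ * r₂, s₁ * s₂, mul_ne_zero hs₁ hs₂, ?_⟩
      push_cast
      linear_combination (b * ((s₂ : W) : M)) * h₁ + ((r₁ : W) : M) * h₂
  obtain ⟨hmax, hres⟩ := maximalIdeal_eq_span_of_fibre W R₀ ⟨_, hmemU πU⟩
    ((mem_maximalIdeal _).2 fun hu => hπU.not_isUnit ((isUnit_map_iff _ πU).1 hu)) hπ0 hvn hfrac
  refine ⟨?_, ?_⟩
  · show Ideal.map _ _ = _
    rw [hπU.maximalIdeal_eq, Ideal.map_span, Set.image_singleton, hmax]
    rfl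
  letI : Algebra (ResidueField (W.comap (algebraMap K₁ M))) (ResidueField W) :=
    (ResidueField.map (EtRam.inclOfComap W (algebraMap K₁ M))).toAlgebra
  letI : Algebra (ResidueField A) (ResidueField W) :=
    ((algebraMap (ResidueField (W.comap (algebraMap K₁ M))) (ResidueField W)).comp (algebraMap (ResidueField A) _)).toAlgebra
  haveI : IsScalarTower (ResidueField A) (ResidueField (W.comap (algebraMap K₁ M))) (ResidueField W) :=
    IsScalarTower.of_algebraMap_eq fun _ => rfl
  let ψB : ResidueField B →ₐ[ResidueField A] ResidueField W :=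
    { ResidueField.map (algebraMap B W) with
      commutes' := fun a => by
        obtain ⟨a, rfl⟩ := residue_surjective a
        show residue W (algebraMap B W (algebraMap A B a)) =
          residue W (EtRam.inclOfComap W (algebraMap K₁ M) (algebraMap A (W.comap (algebraMap K₁ M)) a))
        rw [hA] }
  let Φ := Algebra.TensorProduct.lift (Algebra.ofId (ResidueField (W.comap (algebraMap K₁ M))) (ResidueField W))
    ψB fun _ _ => Commute.all _ _
  refine geomReduced_of_surjective _ Φ fun z => ?_
  obtain ⟨⟨r, hr⟩, rfl⟩ := hres z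
  show residue W r ∈ Φ.range
  rw [← hR₀] at hr
  induction hr using Subring.closure_induction with
  | mem z hz =>
    rcases hz with ⟨u, rfl⟩ | ⟨b, rfl⟩
    · exact ⟨residue (W.comap (algebraMap K₁ M)) u ⊗ₜ 1,
        (Algebra.TensorProduct.lift_tmul _ _ _ _ _).trans (by rw [map_one, mul_one]; rfl)⟩
    · exact ⟨1 ⊗ₜ residue B b, (Algebra.TensorProduct.lift_tmul _ _ _ _ _).trans (by rw [map_one, one_mul]; rfl)⟩
  | zero => rw [map_zero]; exact zero_mem Φ.range
  | one => rw [map_one]; exact one_mem Φ.range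
  | add a b _ _ ha hb => rw [map_add]; exact add_mem ha hb
  | neg a _ ha => rw [map_neg]; exact neg_mem ha
  | mul a b _ _ ha hb => rw [map_mul]; exact mul_mem ha hb

end Groth.Agent.H1Ram
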