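import Groth.Agent.H1Ram.DegPStep

/-!
# The polynomial `((1 + wt)^p - 1) / w^p`
-/

set_option autoImplicit false

universe u

open IsLocalRing Polynomial

namespace Groth.Agent.H1Ram

variable {p : ℕ} {A : Type u} [CommRing A] [IsDomain A] [IsDiscreteValuationRing A]
  [CharP (ResidueField A) p] [CharZero A] {ζ : A} {P : A[X]}

omit [IsDiscreteValuationRing A] [CharP (ResidueField A) p] in
theorem isPrimitiveRoot_of_aeval (hp : p.Prime) (hζ : aeval ζ (cyclotomic p ℤ) = 0) : IsPrimitiveRoot ζ p := by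
  haveI : NeZero (p : A) := ⟨Nat.cast_ne_zero.2 hp.ne_zero⟩
  refine isRoot_cyclotomic_iff.1 ?_
  rwa [← map_cyclotomic p (algebraMap ℤ A), IsRoot.def, eval_map_algebraMap]

omit [CharZero A] in
theorem residue_zeta (hp : p.Prime) (hprim : IsPrimitiveRoot ζ p) : residue A ζ = 1 := by
  haveI : Fact p.Prime := ⟨hp⟩
  refine frobenius_inj (ResidueField A) p ?_
  rw [frobenius_def, ← map_pow, hprim.pow_eq_one, map_one, map_one]

omit [CharZero A] in
theorem w_mem (hp : p.Prime) (hprim : IsPrimitiveRoot ζ p) : 1 - ζ ∈ maximalIdeal A ∧ 1 - ζ ≠ 0 :=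
  ⟨(residue_eq_zero_iff _).1 (by rw [map_sub, map_one, residue_zeta hp hprim, sub_self]),
    sub_ne_zero.2 (hprim.ne_one hp.one_lt).symm⟩

omit [CharZero A] in
theorem exists_unit_mul_pow (hp : p.Prime) (hprim : IsPrimitiveRoot ζ p) :
    ∃ u : A, IsUnit u ∧ (p : A) = u * (1 - ζ) ^ (p - 1) := by
  obtain ⟨q, rfl⟩ : ∃ q, p = q + 1 := ⟨p - 1, by have := hp.pos; omega⟩
  refine ⟨∏ k ∈ Finset.range q, ∑ i ∈ Finset.range (k + 1), ζ ^ i, ?_, ?_⟩
  · refine IsUnit.prod_iff.2 fun k hk => IsLocalRing.notMem_maximalIdeal.1 fun h => ?_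
    have h' := (residue_eq_zero_iff _).2 h
    simp only [map_sum, map_pow, residue_zeta hp hprim, one_pow, Finset.sum_const, Finset.card_range,
      nsmul_eq_mul, mul_one] at h'
    have hd := Nat.le_of_dvd k.succ_pos ((CharP.cast_eq_zero_iff (ResidueField A) (q + 1) (k + 1)).1 h')
    have := Finset.mem_range.1 hk
    omega
  · rw [Nat.add_sub_cancel, Nat.cast_add, Nat.cast_one, ← hprim.prod_one_sub_pow_eq_order,
      show (1 - ζ) ^ q = ∏ _k ∈ Finset.range q, (1 - ζ) by rw [Finset.prod_const, Finset.card_range],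
      ← Finset.prod_mul_distrib]
    exact Finset.prod_congr rfl fun k _ => (geom_sum_mul_neg ζ (k + 1)).symm

omit [CharZero A] in
theorem kummerPoly_monic (hp : p.Prime) (hprim : IsPrimitiveRoot ζ p)
    (hP : C ((1 - ζ) ^ p) * P = (1 + C (1 - ζ) * X) ^ p - 1) : P.Monic ∧ P.natDegree = p := by
  have hw := pow_ne_zero p (w_mem hp hprim).2
  have h1 : (1 + C (1 - ζ) * X : A[X]).natDegree = 1 := by
    rw [add_comm, ← C_1, natDegree_add_C, natDegree_C_mul_X _ (w_mem hp hprim).2]
  have h2 : ((1 + C (1 - ζ) * X : A[X]) ^ p).natDegree = p := by rw [natDegree_pow, h1, mul_one]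
  have h3 : ((1 + C (1 - ζ) * X : A[X]) ^ p).leadingCoeff = (1 - ζ) ^ p := by
    rw [leadingCoeff_pow, leadingCoeff, h1, coeff_add, coeff_one, if_neg one_ne_zero, zero_add, coeff_C_mul,
      coeff_X_one, mul_one]
  have hd := congrArg natDegree hP
  rw [natDegree_C_mul hw, ← C_1, natDegree_sub_C, C_1, h2] at hd
  refine ⟨?_, hd⟩
  have hl := congrArg (fun q : A[X] => q.coeff p) hP
  simp only [coeff_C_mul, coeff_sub, coeff_one, hp.ne_zero, if_false, sub_zero] at hl
  rw [Monic, leadingCoeff, hd]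
  refine mul_left_cancel₀ hw ?_
  rw [hl, mul_one, ← h3, leadingCoeff, h2]

omit [CharZero A] in
theorem kummerPoly_derivative (hp : p.Prime) (hprim : IsPrimitiveRoot ζ p)
    (hP : C ((1 - ζ) ^ p) * P = (1 + C (1 - ζ) * X) ^ p - 1) :
    ∃ c : ResidueField A, c ≠ 0 ∧ derivative (P.map (residue A)) = C c := by
  obtain ⟨u, hu, hpu⟩ := exists_unit_mul_pow hp hprim
  refine ⟨residue A u, (hu.map _).ne_zero, ?_⟩
  have hder : derivative P = C u * (1 + C (1 - ζ) * X) ^ (p - 1) := by
    have h := congrArg derivative hP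
    rw [derivative_C_mul, derivative_sub, derivative_one, sub_zero, derivative_pow, hpu,
      show derivative (1 + C (1 - ζ) * X) = C (1 - ζ) by simp] at h
    refine mul_left_cancel₀ (fun h0 => pow_ne_zero p (w_mem hp hprim).2 (C_eq_zero.1 h0)) (h.trans ?_)
    conv_rhs => rw [show p = p - 1 + 1 from (Nat.succ_pred_eq_of_pos hp.pos).symm, pow_succ]
    rw [map_mul, map_mul, Nat.add_sub_cancel]; ring
  have hw : residue A (1 - ζ) = 0 := (residue_eq_zero_iff _).2 (w_mem hp hprim).1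
  rw [derivative_map, hder, Polynomial.map_mul, Polynomial.map_pow, Polynomial.map_add, Polynomial.map_one,
    Polynomial.map_mul, map_C, map_C, hw, C_0, zero_mul, add_zero, one_pow, mul_one]

end Groth.Agent.H1Ram
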