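import Groth.Agent.KrullAkiExt.Basic
import Mathlib

/-!
# Noetherian integral closures after a change of field
-/

set_option autoImplicit false
universe u
open scoped TensorProduct

namespace Groth.Agent.H1Ram.NoethClosure

theorem isNoetherianRing_integralClosure_field (A B A' F : Type u) [CommRing A] [CommRing B] [IsDomain B]
    [IsDiscreteValuationRing B] [Algebra A B] [Algebra.EssFiniteType A B] [CommRing A'] [Algebra A A']
    [IsNoetherianRing A'] [Algebra.IsIntegral A A'] [Field F] [Algebra B F] [Algebra A F]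
    [IsScalarTower A B F] (hB : Function.Injective (algebraMap B F)) (g : A' →ₐ[A] F)
    (hgen : ∀ z : F, z ∈ Subfield.closure (Set.range (algebraMap B F) ∪ Set.range g)) :
    IsNoetherianRing (integralClosure B F) := by
  let φ : B ⊗[A] A' →ₐ[B] F := Algebra.TensorProduct.lift (Algebra.ofId B F) g fun _ _ => Commute.all _ _
  let C := φ.range
  haveI : IsNoetherianRing (B ⊗[A] A') := by
    haveI := Algebra.EssFiniteType.isNoetherianRing A' (A' ⊗[A] B)
    exact isNoetherianRing_of_ringEquiv _ (Algebra.TensorProduct.comm A A' B).toRingEquiv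
  haveI : IsNoetherianRing C :=
    isNoetherianRing_of_surjective _ _ φ.rangeRestrict.toRingHom φ.rangeRestrict_surjective
  haveI : Algebra.IsIntegral B C :=
    Algebra.IsIntegral.of_surjective φ.rangeRestrict φ.rangeRestrict_surjective
  haveI : Ring.KrullDimLE 1 C := by
    refine Ring.krullDimLE_one_iff_of_noZeroDivisors.2 fun P hP0 hP => ?_
    have hc : P.comap (algebraMap B C) ≠ ⊥ := fun h => hP0 (Ideal.eq_bot_of_comap_eq_bot h)
    exact Ideal.isMaximal_of_isIntegral_of_isMaximal_comap P
      (Ideal.IsPrime.isMaximal inferInstance hc)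
  haveI : IsFractionRing C F := by
    refine IsFractionRing.of_field _ _ fun z => ?_
    have hle : Subring.closure (Set.range (algebraMap B F) ∪ Set.range g) ≤ C.toSubring := by
      refine Subring.closure_le.2 (Set.union_subset ?_ ?_)
      · rintro - ⟨b, rfl⟩; exact C.algebraMap_mem b
      · rintro - ⟨a, rfl⟩; exact ⟨1 ⊗ₜ a, by simp [φ]⟩
    obtain ⟨x, hx, y, hy, rfl⟩ := Subfield.mem_closure_iff.1 (hgen z)
    exact ⟨⟨x, hle hx⟩, ⟨y, hle hy⟩, rfl⟩
  have hCB : C ≤ integralClosure B F := fun x hx =>
    (Algebra.IsIntegral.isIntegral (R := B) (⟨x, hx⟩ : C)).map C.val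
  letI : Algebra C (integralClosure B F) := (Subalgebra.inclusion hCB).toRingHom.toAlgebra
  haveI : IsScalarTower C (integralClosure B F) F := IsScalarTower.of_algebraMap_eq fun _ => rfl
  exact KrullAkiExt.isNoetherianRing_of_injective (R := C) (K := F) F (integralClosure B F)
    Subtype.val_injective

theorem isNoetherianRing_integralClosure_of_artinian (B L' : Type u) [CommRing B] [CommRing L']
    [IsReduced L'] [IsArtinianRing L'] [Algebra B L']
    (h : ∀ I : MaximalSpectrum L', IsNoetherianRing (integralClosure B (L' ⧸ I.asIdeal))) :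
    IsNoetherianRing (integralClosure B L') := by
  classical
  haveI := Fintype.ofFinite (MaximalSpectrum L')
  let e : L' ≃ₐ[B] ∀ I : MaximalSpectrum L', L' ⧸ I.asIdeal := (IsArtinianRing.equivPi L').restrictScalars B
  let ψ : integralClosure B L' →+* ∀ I : MaximalSpectrum L', integralClosure B (L' ⧸ I.asIdeal) :=
    RingHom.pi fun I =>
      { toFun := fun x => ⟨Ideal.Quotient.mkₐ B I.asIdeal x, x.2.map (Ideal.Quotient.mkₐ B I.asIdeal)⟩
        map_one' := Subtype.ext (map_one _)
        map_mul' := fun x y => Subtype.ext (map_mul (Ideal.Quotient.mkₐ B I.asIdeal) x.1 y.1)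
        map_zero' := Subtype.ext (map_zero _)
        map_add' := fun x y => Subtype.ext (map_add (Ideal.Quotient.mkₐ B I.asIdeal) x.1 y.1) }
  have hval : ∀ x I, (ψ x I : L' ⧸ I.asIdeal) = e x I := fun x I => rfl
  have hinj : Function.Injective ψ := fun x y hxy => by
    refine Subtype.ext (e.injective (funext fun I => ?_))
    rw [← hval, ← hval, hxy]
  have hsurj : Function.Surjective ψ := fun y => by
    choose p hp hp0 using fun I => (y I).2
    refine ⟨⟨e.symm fun I => y I, ⟨∏ I, p I, Polynomial.monic_prod_of_monic _ _ fun I _ => hp I, ?_⟩⟩, ?_⟩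
    · refine e.injective (funext fun J => ?_)
      rw [← Polynomial.aeval_def, ← Polynomial.aeval_algHom_apply, AlgEquiv.apply_symm_apply, map_zero]
      refine (Polynomial.aeval_algHom_apply (Pi.evalAlgHom B (fun I : MaximalSpectrum L' => L' ⧸ I.asIdeal) J)
        (fun I : MaximalSpectrum L' => (y I : L' ⧸ I.asIdeal)) (∏ I, p I)).symm.trans ?_
      rw [map_prod]
      exact Finset.prod_eq_zero (Finset.mem_univ J) (hp0 J)
    · refine funext fun I => Subtype.ext ?_
      rw [hval]
      exact congrFun (e.apply_symm_apply _) I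
  haveI := h
  exact isNoetherianRing_of_ringEquiv _ (RingEquiv.ofBijective ψ ⟨hinj, hsurj⟩).symm

end Groth.Agent.H1Ram.NoethClosure
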