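import Groth.Agent.H1Ram.Deform

/-!
# Valuation rings over a point of the integral closure in a finite reduced algebra, and their deformations
-/

set_option autoImplicit false

universe u

open IsLocalRing Polynomial
open scoped TensorProduct

namespace Groth.Agent.H1Ram

/-- In a reduced Artinian ring an element is killed by one minus an idempotent multiple of it. -/
theorem exists_idem {R : Type u} [CommRing R] [IsArtinianRing R] [IsReduced R] (x : R) :
    ∃ y, IsIdempotentElem (x * y) ∧ (1 - x * y) * x = 0 := by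
  obtain ⟨y, hy⟩ := exists_sq x
  exact ⟨y, show x * y * (x * y) = x * y by linear_combination (-y) * hy, by linear_combination hy⟩

theorem isIntegral_idem {B R : Type u} [CommRing B] [Nontrivial B] [CommRing R] [Algebra B R] {e : R} (he : IsIdempotentElem e) :
    IsIntegral B e :=
  ⟨X ^ 2 - X, monic_X_pow_sub (by rw [degree_X]; exact_mod_cast one_lt_two), by
    simp [sq, he.eq]⟩

section

variable {B L R F : Type u} [CommRing B] [IsDomain B] [IsDiscreteValuationRing B] [Field L] [Algebra B L]
  [IsFractionRing B L] [CommRing R] [Algebra L R] [Algebra B R] [IsScalarTower B L R]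
  [Field F] [Algebra L F] [Algebra B F] [IsScalarTower B L F]

theorem integral_mem {W : ValuationSubring F} (hW : EtRam.Dominates B (algebraMap B F) W) {y : F}
    (hy : IsIntegral B y) : y ∈ W := by
  letI : Algebra B W := (RingHom.codRestrict (algebraMap B F) W hW.1).toAlgebra
  haveI : IsScalarTower B W F := IsScalarTower.of_algebraMap_eq fun _ => rfl
  obtain ⟨w, hw⟩ := IsIntegrallyClosed.isIntegral_iff.1 (hy.tower_top (A := W))
  exact hw ▸ w.2

theorem exists_multiple_mem [Module.Finite L R] (r : R) : ∃ b : B, b ≠ 0 ∧ b • r ∈ integralClosure B R := by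
  obtain ⟨b, hb⟩ := IsIntegral.exists_multiple_integral_of_isLocalization (nonZeroDivisors B) (Rₘ := L) r
    (IsIntegral.of_finite L r)
  exact ⟨b, nonZeroDivisors.ne_zero b.2, hb⟩

/-- Elements of a valuation ring dominating `B` are fractions of integral elements. -/
theorem point_fractions [IsReduced R] [Module.Finite L R] [Module.Finite B (integralClosure B R)]
    (φ : R →ₐ[L] F) (hφ : Function.Surjective φ) (W : ValuationSubring F)
    (hW : EtRam.Dominates B (algebraMap B F) W) :
    ∀ x ∈ W, ∃ a s : integralClosure B R, W.valuation (φ s) = 1 ∧ x * φ s = φ a := by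
  classical
  haveI : IsArtinianRing R := IsArtinianRing.of_finite L R
  haveI : Module.Finite L F := Module.Finite.of_surjective φ.toLinearMap hφ
  have hlift : ∀ y : F, IsIntegral B y → ∃ a : integralClosure B R, φ a = y := by
    rintro y ⟨g, hg, hgy⟩
    obtain ⟨r, rfl⟩ := hφ y
    have hker : φ (aeval r g) = 0 := by
      rw [← hgy]
      show (φ.restrictScalars B) (aeval r g) = _
      rw [← aeval_algHom_apply]; rfl
    obtain ⟨y', hidem, hkill⟩ := exists_idem (aeval r g)
    obtain ⟨v, hv⟩ : ∃ v, v = 1 - aeval r g * y' := ⟨_, rfl⟩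
    have hv2 : v * v = v := by
      have := hidem.eq; rw [hv]; linear_combination this
    have hpow : ∀ i : ℕ, (v * r) ^ (i + 1) = v * r ^ (i + 1) := by
      intro i
      induction i with
      | zero => rw [zero_add, pow_one, pow_one]
      | succ i ih => rw [pow_succ, ih, pow_succ r (i + 1)]; linear_combination r ^ (i + 1) * r * hv2
    have hint : IsIntegral B (v * r) := by
      refine ⟨X * g, monic_X.mul hg, ?_⟩
      show aeval (v * r) (X * g) = 0
      rw [map_mul, aeval_X, aeval_eq_sum_range (p := g), Finset.mul_sum]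
      have h2 : ∑ i ∈ Finset.range (g.natDegree + 1), v * r * (g.coeff i • (v * r) ^ i) =
          v * r * aeval r g := by
        rw [aeval_eq_sum_range (p := g), Finset.mul_sum]
        refine Finset.sum_congr rfl fun i _ => ?_
        rw [mul_smul_comm, mul_smul_comm, ← pow_succ', hpow, pow_succ', mul_assoc]
      rw [h2, mul_right_comm, show v * aeval r g = 0 by rw [hv]; exact hkill, zero_mul]
    refine ⟨⟨v * r, hint⟩, ?_⟩
    show φ (v * r) = φ r
    rw [map_mul, hv, map_sub, map_one, map_mul, hker, zero_mul, sub_zero, one_mul]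
  let φ' : integralClosure B R →ₐ[B] integralClosure B F :=
    ((φ.restrictScalars B).comp (integralClosure B R).val).codRestrict (integralClosure B F)
      fun x => x.2.map (φ.restrictScalars B)
  haveI : Module.Finite B (integralClosure B F) := Module.Finite.of_surjective φ'.toLinearMap fun y => by
    obtain ⟨a, ha⟩ := hlift y y.2
    exact ⟨a, Subtype.ext ha⟩
  haveI : IsFractionRing (integralClosure B F) F := integralClosure.isFractionRing_of_finite_extension L F
  haveI : IsIntegrallyClosed (integralClosure B F) := integralClosure.isIntegrallyClosedOfFiniteExtension L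
  haveI : IsNoetherianRing (integralClosure B F) := IsNoetherianRing.of_finite B _
  haveI : IsDedekindRing (integralClosure B F) :=
    (isDedekindRing_iff (integralClosure B F) F).2 ⟨inferInstance, inferInstance,
      fun {x} hx => IsIntegrallyClosed.isIntegral_iff.1 hx⟩
  haveI : IsDedekindDomain (integralClosure B F) := {}
  have hmemW : ∀ y : integralClosure B F, (y : F) ∈ W := fun y => integral_mem hW y.2
  let P : Ideal (integralClosure B F) :=
    (maximalIdeal W).comap ((integralClosure B F).val.toRingHom.codRestrict W.toSubring hmemW)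
  haveI : P.IsPrime := Ideal.IsPrime.comap _
  have hmemP : ∀ y, y ∈ P ↔ W.valuation (y : F) < 1 := fun y => W.valuation_lt_one_iff _
  have hP0 : P ≠ ⊥ := by
    obtain ⟨π, hπ⟩ := IsDiscreteValuationRing.exists_irreducible B
    intro h
    have hm : algebraMap B (integralClosure B F) π ∈ P :=
      (hmemP _).2 (hW.2 π ((mem_maximalIdeal _).2 hπ.not_isUnit))
    rw [h, Ideal.mem_bot] at hm
    have h1 : algebraMap B F π = 0 := congrArg Subtype.val hm
    exact hπ.ne_zero (algebraMap_injective' (A := B) (L := F) L (h1.trans (map_zero _).symm))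
  haveI := IsLocalization.AtPrime.isDiscreteValuationRing_of_dedekind_domain (integralClosure B F) hP0
    (Localization.AtPrime P)
  intro x hxW
  have hclaim : ∃ a s : integralClosure B F, W.valuation (s : F) = 1 ∧ x * s = a := by
    obtain ⟨a, b, hb, hab⟩ := IsFractionRing.div_surjective (A := integralClosure B F) x
    have hb0 : (b : F) ≠ 0 := fun h => nonZeroDivisors.ne_zero hb (Subtype.ext h)
    have hone : ∀ y, y ∉ P → W.valuation (y : F) = 1 := fun y hy => by
      rw [hmemP, not_lt] at hy
      exact le_antisymm ((W.valuation_le_one_iff _).2 (hmemW y)) hy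
    have hxab : x * b = a := by
      rw [← hab]
      exact div_mul_cancel₀ _ hb0
    rcases ValuationRing.dvd_total (algebraMap _ (Localization.AtPrime P) b)
        (algebraMap _ (Localization.AtPrime P) a) with ⟨c, hc⟩ | ⟨c, hc⟩
    · obtain ⟨⟨c', s⟩, hcs⟩ := IsLocalization.surj P.primeCompl c
      refine ⟨c', s, hone s s.2, ?_⟩
      have h : algebraMap (integralClosure B F) (Localization.AtPrime P) (a * s) =
          algebraMap _ (Localization.AtPrime P) (b * c') := by
        rw [map_mul, hc, mul_assoc, hcs, map_mul]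
      have h' : (a : F) * ((s : integralClosure B F) : F) = (b : F) * (c' : F) := congrArg Subtype.val
        (IsLocalization.injective (Localization.AtPrime P) P.primeCompl_le_nonZeroDivisors h)
      refine mul_left_cancel₀ hb0 ?_
      rw [← h', ← hxab]; ring
    · obtain ⟨⟨c', s⟩, hcs⟩ := IsLocalization.surj P.primeCompl c
      have h : algebraMap (integralClosure B F) (Localization.AtPrime P) (b * s) =
          algebraMap _ (Localization.AtPrime P) (a * c') := by
        rw [map_mul, hc, mul_assoc, hcs, map_mul]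
      have h' : (b : F) * ((s : integralClosure B F) : F) = (a : F) * (c' : F) := congrArg Subtype.val
        (IsLocalization.injective (Localization.AtPrime P) P.primeCompl_le_nonZeroDivisors h)
      rw [← hxab, mul_comm x, mul_assoc] at h'
      have h'' : x * (c' : F) = ((s : integralClosure B F) : F) := (mul_left_cancel₀ hb0 h').symm
      refine ⟨s, c', hone c' fun hc' => ?_, h''⟩
      have hlt : W.valuation (x * (c' : F)) < 1 := by
        rw [map_mul, mul_comm]
        exact mul_lt_one_of_lt_of_le ((hmemP c').1 hc') ((W.valuation_le_one_iff _).2 hxW)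
      rw [h''] at hlt
      exact (not_le.2 hlt) (hone s s.2).ge
  obtain ⟨a, s, hs, has⟩ := hclaim
  obtain ⟨a', ha'⟩ := hlift a a.2
  obtain ⟨s', hs'⟩ := hlift s s.2
  exact ⟨a', s', by rw [hs', hs], by rw [hs', ha', has]⟩

/-- If the maximal ideal of `W` is generated by `ρ`, the centre is locally generated by `ρ`. -/
theorem point_principal [IsReduced R] [Module.Finite L R] [Module.Finite B (integralClosure B R)]
    (φ : R →ₐ[L] F) (hφ : Function.Surjective φ) (W : ValuationSubring F)
    (hW : EtRam.Dominates B (algebraMap B F) W) (ρ : integralClosure B R)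
    (hgen : ∀ x, W.valuation x < 1 → ∃ w ∈ W, x = φ ρ * w) (t : integralClosure B R)
    (ht : W.valuation (φ t) < 1) : ∃ s : integralClosure B R, W.valuation (φ s) = 1 ∧ ρ ∣ s * t := by
  haveI : IsArtinianRing R := IsArtinianRing.of_finite L R
  obtain ⟨w, hw, hwe⟩ := hgen _ ht
  obtain ⟨a, s, hs, has⟩ := point_fractions φ hφ W hW w hw
  obtain ⟨z, hz⟩ : ∃ z : R, z = (s : R) * t - ρ * a := ⟨_, rfl⟩
  have hzker : φ z = 0 := by
    rw [hz, map_sub, map_mul, map_mul, hwe, ← has]; ring
  obtain ⟨y, hidem, hkill⟩ := exists_idem z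
  let v : integralClosure B R := 1 - ⟨z * y, isIntegral_idem hidem⟩
  refine ⟨v * s, ?_, ⟨v * a, Subtype.ext ?_⟩⟩
  · show W.valuation (φ ((1 - z * y) * (s : R))) = 1
    rw [map_mul φ, map_sub, map_one, map_mul φ, hzker, zero_mul, sub_zero, one_mul]
    exact hs
  · show (1 - z * y) * (s : R) * (t : R) = (ρ : R) * ((1 - z * y) * (a : R))
    rw [hz] at hkill ⊢
    linear_combination hkill

end

section Deform

variable {B L R R' F : Type u} [CommRing B] [IsDomain B] [IsDiscreteValuationRing B] [Field L] [Algebra B L]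
  [IsFractionRing B L] [CommRing R] [Algebra L R] [Algebra B R] [IsScalarTower B L R]
  [CommRing R'] [Algebra L R'] [Algebra B R'] [IsScalarTower B L R']
  [Field F] [Algebra L F] [Algebra B F] [IsScalarTower B L F]

/-- Transfer of the local structure along a small deformation. -/
theorem deform_point [Module.Finite L R] (O : Subalgebra B R) [Module.Finite B O]
    (hO : ∀ r : R, ∃ b : B, b ≠ 0 ∧ b • r ∈ O) (Ψ : R ≃ₗ[L] R') (hone : Ψ 1 = 1) {τ : B}
    (hτ : τ ∈ maximalIdeal B) (hτ0 : τ ≠ 0)
    (hmul : ∀ x ∈ O, ∀ y ∈ O, ∃ d ∈ O, Ψ x * Ψ y = Ψ (x * y + τ ^ 2 • d)) (ρ u : O)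
    (hτρ : algebraMap B O τ = ρ * u) (hρ : ∀ P : Ideal O, P.IsMaximal → ρ ∈ P)
    (hloc : ∀ P : Ideal O, P.IsMaximal → ∀ t ∈ P, ∃ s, s ∉ P ∧ ρ ∣ s * t)
    (φ : R' →ₐ[L] F) (hφ : Function.Surjective φ) (W : ValuationSubring F)
    (hW : EtRam.Dominates B (algebraMap B F) W) :
    ∃ χ : O →+* ResidueField W, Function.Surjective χ ∧ (RingHom.ker χ).IsMaximal ∧
      (∀ x : O, ∃ h : φ (Ψ (x : R)) ∈ W, χ x = residue W ⟨_, h⟩) ∧
      W.valuation (φ (Ψ (ρ : R))) < 1 ∧ ∀ x, W.valuation x < 1 → ∃ w ∈ W, x = φ (Ψ (ρ : R)) * w := by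
  classical
  have hsm : ∀ (b : B) (x : R), Ψ (b • x) = b • Ψ x := fun b x => by
    rw [← algebraMap_smul L b x, map_smul, algebraMap_smul]
  have hmul' : ∀ x ∈ O, ∀ y ∈ O, Ψ.symm (Ψ x * Ψ y) ∈ O := by
    intro x hx y hy
    obtain ⟨d, hd, he⟩ := hmul x hx y hy
    rw [he, Ψ.symm_apply_apply]
    exact add_mem (mul_mem hx hy) (O.smul_mem hd _)
  let O' := deformedOrder O Ψ hone hmul'
  haveI : Module.Finite B O' := finite_deformedOrder O Ψ hone hmul'
  haveI : IsNoetherianRing O' := IsNoetherianRing.of_finite B O'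
  haveI : Algebra.IsIntegral B O' := Algebra.IsIntegral.of_finite B O'
  let φB : O' →ₐ[B] F := (φ.restrictScalars B).comp O'.val
  have hW' : ∀ y, φB y ∈ W := fun y => integral_mem hW ((Algebra.IsIntegral.isIntegral y).map φB)
  have hmemO : ∀ x : O, Ψ (x : R) ∈ O' := fun x => show Ψ.symm (Ψ (x : R)) ∈ O by
    rw [Ψ.symm_apply_apply]; exact x.2
  let g : O → O' := fun x => ⟨Ψ (x : R), hmemO x⟩
  have hg : ∀ y : O', ∃ x : O, g x = y := fun y => ⟨⟨Ψ.symm (y : R'), y.2⟩, Subtype.ext (Ψ.apply_symm_apply _)⟩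
  let θ : O → ResidueField W := fun x => residue W ⟨φB (g x), hW' _⟩
  have hτW : W.valuation (algebraMap B F τ) < 1 := hW.2 τ hτ
  have hg1 : g 1 = 1 := Subtype.ext hone
  have hgadd : ∀ x y, g (x + y) = g x + g y := fun x y => Subtype.ext (map_add Ψ _ _)
  have hgmul : ∀ x y : O, ∃ d : O, g x * g y = g (x * y) + algebraMap B O' (τ ^ 2) * g d ∧
      g x * g y = g (x * y + algebraMap B O (τ ^ 2) * d) := by
    intro x y
    obtain ⟨d, hd, he⟩ := hmul x x.2 y y.2
    refine ⟨⟨d, hd⟩, Subtype.ext ?_, Subtype.ext ?_⟩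
    · show Ψ (x : R) * Ψ (y : R) = Ψ ((x : R) * y) + algebraMap B R' (τ ^ 2) * Ψ d
      rw [he, map_add, hsm, Algebra.smul_def]
    · show Ψ (x : R) * Ψ (y : R) = Ψ ((x : R) * y + algebraMap B R (τ ^ 2) * d)
      rw [he, Algebra.smul_def]
  let χ : O →+* ResidueField W :=
    { toFun := θ
      map_one' := by
        show residue W ⟨φB (g 1), hW' _⟩ = 1
        rw [← map_one (residue W)]
        exact congrArg _ (Subtype.ext (show φB (g 1) = (1 : F) by rw [hg1, map_one]))
      map_mul' := fun x y => by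
        obtain ⟨d, hd, -⟩ := hgmul x y
        show residue W ⟨φB (g (x * y)), hW' _⟩ = residue W ⟨φB (g x), hW' _⟩ * residue W ⟨φB (g y), hW' _⟩
        rw [← map_mul, ← sub_eq_zero, ← map_sub, residue_eq_zero_iff, W.valuation_lt_one_iff]
        show W.valuation (φB (g (x * y)) - φB (g x) * φB (g y)) < 1
        rw [← map_mul φB, hd, map_add, sub_add_cancel_left, Valuation.map_neg, map_mul φB, AlgHom.commutes,
          map_mul, map_pow, map_pow]
        exact mul_lt_one_of_lt_of_le (pow_lt_one₀ zero_le' hτW two_ne_zero) ((W.valuation_le_one_iff _).2 (hW' _))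
      map_zero' := by
        show residue W ⟨φB (g 0), hW' _⟩ = 0
        rw [← map_zero (residue W)]
        exact congrArg _ (Subtype.ext (by
          show φ (Ψ (0 : R)) = 0
          rw [map_zero, map_zero]))
      map_add' := fun x y => by
        show residue W ⟨φB (g (x + y)), hW' _⟩ = residue W ⟨φB (g x), hW' _⟩ + residue W ⟨φB (g y), hW' _⟩
        rw [← map_add]
        exact congrArg _ (Subtype.ext (show φB (g (x + y)) = φB (g x) + φB (g y) by rw [hgadd, map_add])) }
  have hker : ∀ x, x ∈ RingHom.ker χ ↔ W.valuation (φB (g x)) < 1 := fun x => by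
    rw [RingHom.mem_ker]
    show residue W ⟨φB (g x), hW' _⟩ = 0 ↔ _
    rw [residue_eq_zero_iff, W.valuation_lt_one_iff]
  haveI hPprime : (RingHom.ker χ).IsPrime := RingHom.ker_isPrime χ
  haveI : Algebra.IsIntegral B O := Algebra.IsIntegral.of_finite B O
  have hτP : ∀ x : O, χ (algebraMap B O τ * x) = 0 := fun x => by
    have h : algebraMap B O τ * x ∈ RingHom.ker χ := by
      rw [hker]
      have e : φB (g (algebraMap B O τ * x)) = algebraMap B F τ * φB (g x) := by
        show φ (Ψ (algebraMap B R τ * (x : R))) = _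
        rw [← Algebra.smul_def, hsm, ← algebraMap_smul L τ (Ψ (x : R)), map_smul, algebraMap_smul,
          Algebra.smul_def]
        rfl
      rw [e, map_mul]
      exact mul_lt_one_of_lt_of_le hτW ((W.valuation_le_one_iff _).2 (hW' _))
    exact RingHom.mem_ker.1 h
  have hmax : (RingHom.ker χ).IsMaximal := by
    refine Ideal.isMaximal_of_isIntegral_of_isMaximal_comap (R := B) _ ?_
    have : (RingHom.ker χ).comap (algebraMap B O) = maximalIdeal B := by
      haveI : ((RingHom.ker χ).comap (algebraMap B O)).IsPrime := Ideal.IsPrime.comap _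
      refine IsLocalRing.eq_maximalIdeal (Ideal.IsPrime.isMaximal inferInstance fun h => hτ0 ?_)
      have : τ ∈ (RingHom.ker χ).comap (algebraMap B O) := by
        rw [Ideal.mem_comap, RingHom.mem_ker, ← mul_one (algebraMap B O τ), hτP]
      rwa [h, Ideal.mem_bot] at this
    rw [this]; infer_instance
  have hρlt : W.valuation (φB (g ρ)) < 1 := (hker ρ).1 (hρ _ hmax)
  have hone' : ∀ x : O, x ∉ RingHom.ker χ → W.valuation (φB (g x)) = 1 := fun x hx => by
    rw [hker, not_lt] at hx
    exact le_antisymm ((W.valuation_le_one_iff _).2 (hW' _)) hx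
  obtain ⟨δ, hδ, hδ'⟩ : ∃ δ : O, g ρ * g u = algebraMap B O' τ * g (1 + algebraMap B O τ * δ) ∧
      W.valuation (φB (g (1 + algebraMap B O τ * δ))) = 1 := by
    obtain ⟨δ, -, hδ⟩ := hgmul ρ u
    refine ⟨δ, ?_, hone' _ fun h => ?_⟩
    · rw [hδ, ← hτρ]
      refine Subtype.ext ?_
      show Ψ (algebraMap B R τ + algebraMap B R (τ ^ 2) * (δ : R)) = algebraMap B R' τ * Ψ (1 + algebraMap B R τ * δ)
      rw [← Algebra.smul_def τ (Ψ _), ← hsm, Algebra.smul_def, map_pow, mul_add, mul_one, ← mul_assoc, ← sq]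
    · rw [RingHom.mem_ker, map_add, map_one, hτP, add_zero] at h
      exact one_ne_zero h
  have hloc' : ∀ y : O', W.valuation (φB y) < 1 → ∃ s, W.valuation (φB s) = 1 ∧ g ρ ∣ s * y := by
    intro y hy
    obtain ⟨t, rfl⟩ := hg y
    obtain ⟨s, hs, a, ha⟩ := hloc _ hmax t ((hker t).2 hy)
    obtain ⟨d₁, h1, -⟩ := hgmul s t
    obtain ⟨d₂, h2, -⟩ := hgmul ρ a
    refine ⟨g (1 + algebraMap B O τ * δ) * g s, by rw [map_mul φB, map_mul, hδ', hone' s hs, one_mul],
      g (1 + algebraMap B O τ * δ) * g a + g u * algebraMap B O' τ * (g d₁ - g d₂), ?_⟩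
    rw [ha] at h1
    rw [map_pow] at h1 h2
    linear_combination g (1 + algebraMap B O τ * δ) * (h1 - h2) - algebraMap B O' τ * (g d₁ - g d₂) * hδ
  have hfrac : ∀ x : F, ∃ a b, φB b ≠ 0 ∧ x * φB b = φB a := by
    intro x
    obtain ⟨r, rfl⟩ := hφ x
    obtain ⟨b, hb, hbr⟩ := hO (Ψ.symm r)
    refine ⟨g ⟨_, hbr⟩, algebraMap B O' b, ?_, ?_⟩
    · rw [AlgHom.commutes, Ne, map_eq_zero_iff _ (algebraMap_injective' (A := B) (L := F) L)]
      exact hb
    · show φ r * φB (algebraMap B O' b) = φ (Ψ (b • Ψ.symm r))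
      rw [AlgHom.commutes, hsm, Ψ.apply_symm_apply, ← algebraMap_smul L b r, map_smul, algebraMap_smul,
        Algebra.smul_def, mul_comm]
  have hρ0 : φB (g ρ) ≠ 0 := by
    intro h
    have h' := congrArg φB hδ
    rw [map_mul, h, zero_mul, map_mul, AlgHom.commutes, eq_comm, mul_eq_zero,
      map_eq_zero_iff _ (algebraMap_injective' (A := B) (L := F) L)] at h'
    rcases h' with h' | h'
    · exact hτ0 h'
    · rw [h', map_zero] at hδ'; exact zero_ne_one hδ'
  obtain ⟨hres, hgenW⟩ := center_structure φB.toRingHom W hW' (ρ := g ρ) hρlt hρ0 hloc' hfrac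
  refine ⟨χ, fun z => ?_, hmax, fun x => ⟨hW' (g x), rfl⟩, hρlt, hgenW⟩
  obtain ⟨x, rfl⟩ := residue_surjective z
  obtain ⟨a, s, hs, has⟩ := hres x x.2
  obtain ⟨a₀, rfl⟩ := hg a
  obtain ⟨s₀, rfl⟩ := hg s
  obtain ⟨v, hv⟩ : ∃ v, v * s₀ - 1 ∈ RingHom.ker χ := by
    obtain ⟨v, i, hi, hv⟩ := hmax.exists_inv (x := s₀) fun h => by
      have := (hker s₀).1 h
      rw [show φB (g s₀) = φB.toRingHom (g s₀) from rfl, hs] at this
      exact lt_irrefl _ this
    exact ⟨v, by rw [show v * s₀ - 1 = -i by linear_combination hv]; exact neg_mem hi⟩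
  refine ⟨a₀ * v, ?_⟩
  rw [RingHom.mem_ker, map_sub, map_mul, map_one, sub_eq_zero] at hv
  have hxs : residue W x * χ s₀ = χ a₀ := by
    show residue W x * residue W ⟨φB (g s₀), hW' _⟩ = residue W ⟨φB (g a₀), hW' _⟩
    rw [← map_mul]
    exact congrArg _ (Subtype.ext has)
  rw [map_mul, ← hxs, mul_assoc, mul_comm (χ s₀), hv, mul_one]

end Deform

end Groth.Agent.H1Ram
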