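import Groth.Agent.S7151
import Mathlib.FieldTheory.SeparableClosure
import Mathlib.FieldTheory.PurelyInseparable.Tower

/-!
# A solution gives a separable solution
-/

set_option autoImplicit false

universe u

open IntermediateField

namespace Groth.Agent.H1Ram

/-- An inseparable finite extension has a purely inseparable top step of degree `p`. -/
theorem exists_top_step (p : ℕ) [Fact p.Prime] (K K₂ : Type u) [Field K] [Field K₂] [Algebra K K₂] [CharP K p]
    [FiniteDimensional K K₂] (h : ¬ Algebra.IsSeparable K K₂) :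
    ∃ K₁ : IntermediateField K K₂, IsPurelyInseparable K₁ K₂ ∧ Module.finrank K₁ K₂ = p := by
  classical
  haveI : CharP K₂ p := charP_of_injective_algebraMap (algebraMap K K₂).injective p
  let S := separableClosure K K₂
  have hS : IsPurelyInseparable S K₂ := separableClosure.isPurelyInseparable K K₂
  have hne : {d : ℕ | ∃ K₁ : IntermediateField K K₂, S ≤ K₁ ∧ K₁ ≠ ⊤ ∧ Module.finrank K₁ K₂ = d}.Nonempty :=
    ⟨_, S, le_rfl, fun htop => h ((separableClosure.eq_top_iff K K₂).1 htop), rfl⟩
  obtain ⟨K₁, hSK, hK₁, hd⟩ := Nat.sInf_mem hne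
  have hmin : ∀ K' : IntermediateField K K₂, S ≤ K' → K' ≠ ⊤ → Module.finrank K₁ K₂ ≤ Module.finrank K' K₂ :=
    fun K' h1 h2 => hd ▸ Nat.sInf_le ⟨K', h1, h2, rfl⟩
  letI : Algebra S K₁ := (IntermediateField.inclusion hSK).toRingHom.toAlgebra
  haveI : IsScalarTower S K₁ K₂ := IsScalarTower.of_algebraMap_eq fun _ => rfl
  haveI hpi : IsPurelyInseparable K₁ K₂ := IsPurelyInseparable.tower_top S K₁ K₂
  refine ⟨K₁, hpi, ?_⟩
  obtain ⟨α, -, hα⟩ := SetLike.exists_of_lt (lt_top_iff_ne_top.2 hK₁)
  haveI : CharP K₁ p := charP_of_injective_algebraMap (algebraMap K K₁).injective p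
  haveI : ExpChar K₁ p := .prime Fact.out
  obtain ⟨k, a, hmin'⟩ := IsPurelyInseparable.minpoly_eq_X_pow_sub_C K₁ p α
  have hint : IsIntegral K₁ α := .of_finite _ _
  have hαp : α ^ p ^ k = (a : K₂) := by
    have := minpoly.aeval K₁ α
    rwa [hmin', map_sub, map_pow, Polynomial.aeval_X, Polynomial.aeval_C, sub_eq_zero] at this
  have hdeg : (minpoly K₁ α).natDegree = p ^ k := by rw [hmin', Polynomial.natDegree_X_pow_sub_C]
  have hk0 : k ≠ 0 := by
    rintro rfl
    rw [pow_zero, pow_one] at hαp
    exact hα (hαp ▸ a.2)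
  -- a strictly larger intermediate field would be everything
  have hbig : ∀ β : K₂, β ∉ K₁ → IntermediateField.adjoin K₁ {β} = ⊤ := by
    intro β hβ
    by_contra htop
    have hT : (IntermediateField.adjoin K₁ {β}).restrictScalars K ≠ ⊤ := fun h' => htop (by
      rw [eq_top_iff]
      intro x _
      have : x ∈ (IntermediateField.adjoin K₁ {β}).restrictScalars K := h' ▸ IntermediateField.mem_top
      exact this)
    have hle := hmin _ (le_trans hSK fun x hx => IntermediateField.algebraMap_mem (IntermediateField.adjoin K₁ {β}) (⟨x, hx⟩ : K₁)) hT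
    have hmul := Module.finrank_mul_finrank K₁ (IntermediateField.adjoin K₁ {β}) K₂
    have h1 : 1 < Module.finrank K₁ (IntermediateField.adjoin K₁ {β}) := by
      by_contra h1
      have h2 : Module.finrank K₁ (IntermediateField.adjoin K₁ {β}) = 1 := le_antisymm (not_lt.1 h1) Module.finrank_pos
      obtain ⟨c, hc⟩ := IntermediateField.mem_bot.1 ((IntermediateField.finrank_eq_one_iff.1 h2) ▸
        IntermediateField.mem_adjoin_simple_self K₁ β)
      exact hβ (hc ▸ c.2)
    have h3 : 0 < Module.finrank (IntermediateField.adjoin K₁ {β}) K₂ := Module.finrank_pos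
    have h4 : Module.finrank K₁ K₂ ≤ Module.finrank (IntermediateField.adjoin K₁ {β}) K₂ := hle
    nlinarith
  have htop := hbig α hα
  have hfin : Module.finrank K₁ K₂ = p ^ k := by
    rw [← hdeg, ← IntermediateField.adjoin.finrank hint, htop, IntermediateField.finrank_top']
  rcases Nat.lt_or_ge k 2 with hk | hk
  · rw [hfin, show k = 1 by omega, pow_one]
  exfalso
  have hp1 : 1 < p := (Fact.out : p.Prime).one_lt
  by_cases hβ : α ^ p ∈ K₁
  · have hle : (minpoly K₁ α).natDegree ≤ p := by
      refine le_trans (Polynomial.natDegree_le_of_dvd (minpoly.dvd K₁ α (p := Polynomial.X ^ p - Polynomial.C (⟨_, hβ⟩ : K₁)) ?_)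
        (Polynomial.X_pow_sub_C_ne_zero (by omega) _)) (by rw [Polynomial.natDegree_X_pow_sub_C])
      rw [map_sub, map_pow, Polynomial.aeval_X, Polynomial.aeval_C]
      exact sub_self _
    rw [hdeg] at hle
    exact absurd hle (not_le.2 (by simpa using Nat.pow_lt_pow_right hp1 hk))
  · have h5 := hbig _ hβ
    have hint' : IsIntegral K₁ (α ^ p) := .of_finite _ _
    have hle : (minpoly K₁ (α ^ p)).natDegree ≤ p ^ (k - 1) := by
      refine le_trans (Polynomial.natDegree_le_of_dvd (minpoly.dvd K₁ _ (p := Polynomial.X ^ p ^ (k - 1) - Polynomial.C a) ?_)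
        (Polynomial.X_pow_sub_C_ne_zero (by positivity) _)) (by rw [Polynomial.natDegree_X_pow_sub_C])
      rw [map_sub, map_pow, Polynomial.aeval_X, Polynomial.aeval_C, ← pow_mul, ← pow_succ', Nat.sub_add_cancel (by omega), hαp]
      exact sub_self _
    rw [← IntermediateField.adjoin.finrank hint', h5, IntermediateField.finrank_top', hfin] at hle
    exact absurd hle (not_le.2 (Nat.pow_lt_pow_right hp1 (by omega)))

/-- A solution gives a separable one when `B` is Nagata and `L/K` is geometrically reduced. -/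
theorem exists_separable_solution (A B K L : Type u) [CommRing A] [IsDomain A] [IsDiscreteValuationRing A]
    [CommRing B] [IsDomain B] [IsDiscreteValuationRing B] [Algebra A B] [IsLocalHom (algebraMap A B)]
    (hinj : Function.Injective (algebraMap A B))
    [Field K] [Field L] [Algebra A K] [IsFractionRing A K] [Algebra B L] [IsFractionRing B L]
    [Algebra K L] [Algebra A L] [IsScalarTower A K L] [IsScalarTower A B L] [Algebra.IsGeometricallyReduced K L]
    (hB : CAlg.IsNagata B) :
    ∀ (n : ℕ) (K₂ : Type u) [Field K₂] [Algebra K K₂] [FiniteDimensional K K₂],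
      Field.finInsepDegree K K₂ = n → EtRam.IsSolution B K L K₂ →
      ∃ (K₃ : Type u) (_ : Field K₃) (_ : Algebra K K₃) (_ : FiniteDimensional K K₃) (_ : Algebra.IsSeparable K K₃),
        EtRam.IsSolution B K L K₃ := by
  intro n
  induction n using Nat.strong_induction_on with
  | _ n ih =>
  intro K₂ _ _ _ hn hsol
  by_cases hsep : Algebra.IsSeparable K K₂
  · exact ⟨K₂, inferInstance, inferInstance, inferInstance, hsep, hsol⟩
  obtain ⟨p, hpc⟩ := CharP.exists K
  have hp : p.Prime := (CharP.char_is_prime_or_zero K p).resolve_right fun hp0 => by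
    subst hp0
    haveI := CharP.charP_to_charZero K
    exact hsep inferInstance
  haveI : Fact p.Prime := ⟨hp⟩
  obtain ⟨K₁, hpi, hdeg⟩ := exists_top_step p K K₂ hsep
  haveI := hpi
  obtain ⟨K₃, _, _, _, _, hfd, hsep₃, hsol₃⟩ :=
    Groth.Agent.S7151.result p hp A B K L hinj hB K₁ K₂ hsol hdeg
  haveI := hfd; haveI := hsep₃
  haveI : FiniteDimensional K K₃ := FiniteDimensional.trans K K₁ K₃
  refine ih (Field.finInsepDegree K K₃) ?_ K₃ rfl hsol₃
  rw [← hn, ← Field.finInsepDegree_mul_finInsepDegree_of_isAlgebraic K K₁ K₃,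
    ← Field.finInsepDegree_mul_finInsepDegree_of_isAlgebraic K K₁ K₂,
    IsPurelyInseparable.finInsepDegree_eq K₁ K₂, Algebra.IsSeparable.finInsepDegree_eq K₁ K₃, hdeg, mul_one]
  exact lt_mul_of_one_lt_right (Nat.pos_of_ne_zero (NeZero.ne _)) hp.one_lt

end Groth.Agent.H1Ram
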