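import Groth.Agent.H1Ram.DegPStep
import Groth.Agent.H1Ram.Formal
import Groth.Agent.H1N2.Transfer

/-!
# Purely inseparable extensions of degree `p`: separable totally ramified weak solutions
-/

set_option autoImplicit false

universe u

open IsLocalRing Polynomial

namespace Groth.Agent.H1Ram

/-- A valuation subring `W` with `W ∩ K₁` containing a generator of the maximal ideal of `W`. -/
theorem weaklyUnramified_of_gen {K₁ M : Type u} [Field K₁] [Field M] (W : ValuationSubring M) (f : K₁ →+* M)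
    (z : K₁) (hz : W.valuation (f z) < 1) (h : ∀ x, W.valuation x < 1 → ∃ w ∈ W, x = f z * w) :
    letI : Algebra (W.comap f) W := (EtRam.inclOfComap W f).toAlgebra
    EtRam.IsWeaklyUnramified (W.comap f) W := by
  letI : Algebra (W.comap f) W := (EtRam.inclOfComap W f).toAlgebra
  refine le_antisymm (Ideal.map_le_iff_le_comap.2 fun a ha => ?_) fun x hx => ?_
  · exact fun hu => (mem_maximalIdeal _).1 ha
      ((EtRam.isLocalHom_inclOfComap W f).map_nonunit a hu)
  · obtain ⟨w, hw, hxe⟩ := h x ((W.valuation_lt_one_iff x).1 hx)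
    have hzmem : z ∈ W.comap f := (W.valuation_le_one_iff _).1 hz.le
    have hxW : x = algebraMap (W.comap f) W ⟨z, hzmem⟩ * ⟨w, hw⟩ := Subtype.ext hxe
    rw [hxW]
    refine Ideal.mul_mem_right _ _ (Ideal.mem_map_of_mem _ ((mem_maximalIdeal _).2 fun hu => ?_))
    exact (lt_irrefl (1 : W.ValueGroup)) (lt_of_eq_of_lt
      ((W.valuation_eq_one_iff _).1 (hu.map (EtRam.inclOfComap W f))).symm hz)

variable {B L : Type u} [CommRing B] [IsDomain B] [IsDiscreteValuationRing B] [Field L] [Algebra B L]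
  [IsFractionRing B L]

/-- Over a Nagata discrete valuation ring the approximation of `t` by `p`-th powers of `B[π^(1/p)]` is bounded. -/
theorem exists_best_approx {p : ℕ} (hp : p.Prime) [CharP L p] (hB : CAlg.IsNagata B) {π : B}
    (hπ : maximalIdeal B = Ideal.span {π}) {M : Type u} [Field M] [Algebra L M] [Algebra B M] [IsScalarTower B L M]
    [FiniteDimensional L M] {q : M} {t : B} (hq : q ^ p = algebraMap B M t)
    (hqL : ∀ l : L, q ≠ algebraMap L M l) (hπM : ∀ x : M, x ^ p ≠ algebraMap B M π) :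
    ∃ (m : ℕ) (b : Fin p → B) (r : B), t = ∑ i, b i ^ p * π ^ (i : ℕ) + π ^ m * r ∧
      ∀ r' : B, residue B r ≠ residue B r' ^ p := by
  classical
  haveI : Fact p.Prime := ⟨hp⟩
  haveI : CharP B p := ((algebraMap B L).charP_iff (IsFractionRing.injective B L) p).2 ‹_›
  by_contra hno
  push Not at hno
  have happ : ∀ N : ℕ, ∃ (b : Fin p → B) (r : B), t = ∑ i, b i ^ p * π ^ (i : ℕ) + π ^ N * r := by
    intro N
    induction N with
    | zero => exact ⟨0, t, by simp [hp.ne_zero]⟩
    | succ N ih =>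
      obtain ⟨b, r, hbr⟩ := ih
      obtain ⟨r', hr'⟩ := hno N b r hbr
      rw [← map_pow, ← sub_eq_zero, ← map_sub, residue_eq_zero_iff, hπ, Ideal.mem_span_singleton] at hr'
      obtain ⟨r'', hr''⟩ := hr'
      let j : Fin p := ⟨N % p, Nat.mod_lt _ hp.pos⟩
      refine ⟨b + Pi.single j (π ^ (N / p) * r'), r'', ?_⟩
      have he : ∀ i, (b + Pi.single j (π ^ (N / p) * r') : Fin p → B) i ^ p * π ^ (i : ℕ) =
          b i ^ p * π ^ (i : ℕ) + if i = j then π ^ N * r' ^ p else 0 := by
        intro i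
        rw [Pi.add_apply, add_pow_char, add_mul]
        congr 1
        split_ifs with h
        · subst h
          rw [Pi.single_eq_same, mul_pow, ← pow_mul, mul_right_comm, ← pow_add]
          congr 2
          exact Nat.div_add_mod' N p
        · rw [Pi.single_eq_of_ne h, zero_pow hp.ne_zero, zero_mul]
      rw [Finset.sum_congr rfl fun i _ => he i, Finset.sum_add_distrib, Finset.sum_ite_eq' Finset.univ j,
        if_pos (Finset.mem_univ j), hbr, show r = r' ^ p + π * r'' by linear_combination hr'']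
      ring
  have hirr : Irreducible (X ^ p - C (algebraMap B M π)) :=
    X_pow_sub_C_irreducible_of_prime hp hπM
  haveI : Fact (Irreducible (X ^ p - C (algebraMap B M π))) := ⟨hirr⟩
  let M' := AdjoinRoot (X ^ p - C (algebraMap B M π))
  let s : M' := AdjoinRoot.root _
  haveI : IsScalarTower B L M' := IsScalarTower.of_algebraMap_eq fun b =>
    (IsScalarTower.algebraMap_apply B M M' b).trans ((congrArg _ (IsScalarTower.algebraMap_apply B L M b)).trans
      (IsScalarTower.algebraMap_apply L M M' _).symm)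
  haveI : FiniteDimensional M M' := (AdjoinRoot.powerBasis hirr.ne_zero).finite
  haveI : FiniteDimensional L M' := FiniteDimensional.trans L M M'
  haveI : Algebra.IsAlgebraic L M' := Algebra.IsAlgebraic.of_finite L M'
  letI : Algebra (FractionRing B) M' :=
    ((algebraMap L M').comp (FractionRing.algEquiv B L).toRingEquiv.toRingHom).toAlgebra
  haveI : IsScalarTower B (FractionRing B) M' := IsScalarTower.of_algebraMap_eq fun b => by
    show _ = algebraMap L M' (FractionRing.algEquiv B L (algebraMap B (FractionRing B) b))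
    rw [AlgEquiv.commutes, ← IsScalarTower.algebraMap_apply]
  haveI : FiniteDimensional (FractionRing B) M' := by
    refine Module.Finite.of_surjective (⟨⟨id, fun _ _ => rfl⟩, ?_⟩ :
      M' →ₛₗ[((FractionRing.algEquiv B L).symm.toRingEquiv.toRingHom)] M') Function.surjective_id
    intro c x
    show c • x = (FractionRing.algEquiv B L).symm c • x
    rw [Algebra.smul_def, Algebra.smul_def]
    show _ = algebraMap L M' (FractionRing.algEquiv B L ((FractionRing.algEquiv B L).symm c)) * x
    rw [AlgEquiv.apply_symm_apply]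
  haveI : Module.Finite B (integralClosure B M') := H1N2.isN2_of_isNagata hB M' inferInstance
  have hs : s ^ p = algebraMap B M' π := by
    have h := AdjoinRoot.eval₂_root (X ^ p - C (algebraMap B M π))
    rw [eval₂_sub, eval₂_X_pow, eval₂_C, sub_eq_zero] at h
    exact h
  have hsint : IsIntegral B s := IsIntegral.of_pow hp.pos (hs ▸ isIntegral_algebraMap)
  have hq' : algebraMap M M' q ^ p = algebraMap B M' t := by
    rw [← map_pow, hq, ← IsScalarTower.algebraMap_apply]
  have hqint : IsIntegral B (algebraMap M M' q) := IsIntegral.of_pow hp.pos (hq' ▸ isIntegral_algebraMap)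
  haveI : CharP M' p := charP_of_injective_algebraMap (algebraMap L M').injective p
  let φ : (Fin p → B) →ₗ[B] integralClosure B M' :=
    Fintype.linearCombination B fun i : Fin p => (⟨s, hsint⟩ : integralClosure B M') ^ (i : ℕ)
  have hφ : ∀ b, ((φ b : integralClosure B M') : M') = ∑ i, algebraMap B M' (b i) * s ^ (i : ℕ) := by
    intro b
    simp [φ, Fintype.linearCombination_apply, Algebra.smul_def]
  have hmem : (⟨_, hqint⟩ : integralClosure B M') ∈ LinearMap.range φ := by
    rw [← Submodule.Quotient.mk_eq_zero]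
    refine Submodule.mem_bot B |>.1 ?_
    rw [← Ideal.iInf_pow_smul_eq_bot_of_isLocalRing (maximalIdeal B) (maximalIdeal.isMaximal B).ne_top]
    refine Submodule.mem_iInf _ |>.2 fun k => ?_
    obtain ⟨b, r, hbr⟩ := happ (p * k)
    have hπM' : algebraMap B M' π ≠ 0 := by
      rw [IsScalarTower.algebraMap_apply B L M', Ne, map_eq_zero_iff _ (algebraMap L M').injective,
        map_eq_zero_iff _ (IsFractionRing.injective B L)]
      exact ((IsDiscreteValuationRing.irreducible_iff_uniformizer π).2 hπ).ne_zero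
    have hd : IsIntegral B ((algebraMap M M' q - ((φ b : integralClosure B M') : M')) / algebraMap B M' π ^ k) := by
      refine IsIntegral.of_pow hp.pos ?_
      have : ((algebraMap M M' q - ((φ b : integralClosure B M') : M')) / algebraMap B M' π ^ k) ^ p =
          algebraMap B M' r := by
        rw [div_pow, sub_pow_char, hq', hφ, sum_pow_char, hbr, map_add, map_sum, map_mul, map_pow,
          ← pow_mul, mul_comm k p, eq_comm, eq_div_iff (pow_ne_zero _ hπM')]
        have : ∀ i : Fin p, (algebraMap B M' (b i) * s ^ (i : ℕ)) ^ p = algebraMap B M' (b i ^ p * π ^ (i : ℕ)) := by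
          intro i
          rw [mul_pow, ← pow_mul, mul_comm (i : ℕ) p, pow_mul, hs, map_mul, map_pow, map_pow]
        rw [Finset.sum_congr rfl fun i _ => this i]
        ring
      exact this ▸ isIntegral_algebraMap
    have he : (⟨_, hqint⟩ : integralClosure B M') - φ b = π ^ k • (⟨_, hd⟩ : integralClosure B M') := by
      apply Subtype.ext
      show _ = π ^ k • _
      rw [Algebra.smul_def, map_pow, mul_div_cancel₀ _ (pow_ne_zero _ hπM')]
      rfl
    have h0 : Submodule.Quotient.mk (p := LinearMap.range φ) (φ b) = 0 :=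
      (Submodule.Quotient.mk_eq_zero _).2 ⟨b, rfl⟩
    rw [← sub_zero (Submodule.Quotient.mk (p := LinearMap.range φ) ⟨_, hqint⟩), ← h0,
      ← Submodule.Quotient.mk_sub, he, Submodule.Quotient.mk_smul]
    exact Submodule.smul_mem_smul (Ideal.pow_mem_pow (hπ ▸ Ideal.mem_span_singleton_self π) k) Submodule.mem_top
  obtain ⟨b, hb⟩ := hmem
  have hb' : ∑ i, algebraMap B M' (b i) * s ^ (i : ℕ) = algebraMap M M' q := by rw [← hφ, hb]
  let P : M[X] := C q - ∑ i : Fin p, C (algebraMap B M (b i)) * X ^ (i : ℕ)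
  have hP : AdjoinRoot.mk (X ^ p - C (algebraMap B M π)) P = 0 := by
    simp only [P, map_sub, map_sum, map_mul, map_pow, AdjoinRoot.mk_C, AdjoinRoot.mk_X]
    rw [sub_eq_zero]
    exact hb'.symm.trans (Finset.sum_congr rfl fun i _ => by rw [IsScalarTower.algebraMap_apply B M M']; rfl)
  have hP0 : P = 0 := by
    refine eq_zero_of_dvd_of_degree_lt (AdjoinRoot.mk_eq_zero.1 hP) ?_
    rw [degree_X_pow_sub_C hp.pos]
    refine lt_of_le_of_lt (degree_sub_le _ _) (max_lt ?_ ?_)
    · exact lt_of_le_of_lt degree_C_le (by exact_mod_cast hp.pos)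
    · refine lt_of_le_of_lt (degree_sum_le _ _) ((Finset.sup_lt_iff (WithBot.bot_lt_coe p)).2 fun i _ => ?_)
      exact lt_of_le_of_lt (degree_C_mul_X_pow_le _ _) (WithBot.coe_lt_coe.2 i.isLt)
  have hcoef := congrArg (fun P : M[X] => P.coeff 0) hP0
  simp only [P, coeff_sub, coeff_C_zero, finsetSum_coeff, coeff_C_mul_X_pow, coeff_zero] at hcoef
  rw [Finset.sum_eq_single (⟨0, hp.pos⟩ : Fin p) (fun i _ hi => if_neg fun h => hi (Fin.ext h.symm))
    (by simp), if_pos rfl, sub_eq_zero] at hcoef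
  exact hqL _ (hcoef.trans (IsScalarTower.algebraMap_apply B L M _))

section Root

variable {L₁ : Type u} [Field L₁] [Algebra L L₁] [Algebra B L₁] [IsScalarTower B L L₁] {π : B} {z : L₁} {p m : ℕ}

/-- A root of `X^p + π^(m+2) X - π`. -/
theorem root_facts (hp : 1 < p) (hπ : maximalIdeal B = Ideal.span {π})
    (hz : z ^ p + algebraMap B L₁ π ^ (m + 2) * z = algebraMap B L₁ π) (V : ValuationSubring L₁)
    (hV : EtRam.Dominates B (algebraMap B L₁) V) :
    V.valuation z < 1 ∧ V.valuation z ^ p = V.valuation (algebraMap B L₁ π) := by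
  have hπ1 := hV.2 π (hπ ▸ Ideal.mem_span_singleton_self π)
  have hz1 : V.valuation z < 1 := by
    by_contra hge
    rw [not_lt] at hge
    have hle : V.valuation z ≤ V.valuation (z ^ p) := by
      rw [map_pow]; exact le_self_pow₀ hge (by omega)
    have h2 : V.valuation (algebraMap B L₁ π ^ (m + 2) * z) < V.valuation (z ^ p) := by
      refine lt_of_lt_of_le ?_ hle
      rw [map_mul, map_pow]
      exact lt_of_lt_of_eq (mul_lt_mul_of_pos_right (pow_lt_one₀ zero_le' hπ1 (by omega))
        (zero_lt_one.trans_le hge)) (one_mul _)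
    have h3 := V.valuation.map_add_eq_of_lt_left h2
    rw [hz] at h3
    exact not_lt.2 (h3 ▸ hge.trans hle) hπ1
  refine ⟨hz1, ?_⟩
  have hε : V.valuation (1 - algebraMap B L₁ π ^ (m + 1) * z) = 1 :=
    V.valuation.map_one_sub_of_lt (by
      rw [map_mul, map_pow]
      exact mul_lt_one_of_lt_of_le (pow_lt_one₀ zero_le' hπ1 (by omega)) hz1.le)
  rw [← map_pow, show z ^ p = algebraMap B L₁ π * (1 - algebraMap B L₁ π ^ (m + 1) * z) by linear_combination hz,
    map_mul, hε, mul_one]

theorem root_structure (hp : 1 < p) (hπ : maximalIdeal B = Ideal.span {π})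
    (hz : z ^ p + algebraMap B L₁ π ^ (m + 2) * z = algebraMap B L₁ π)
    (hgen : IntermediateField.adjoin L {z} = ⊤) :
    FiniteDimensional L L₁ ∧ Module.finrank L L₁ = p ∧ EtRam.IsTotallyRamified B (algebraMap B L₁) ∧
      ∀ (V : ValuationSubring L₁), EtRam.Dominates B (algebraMap B L₁) V →
        (∀ x ∈ V, ∃ c : B, ∃ w ∈ V, x = algebraMap B L₁ c + z * w) ∧
        ∀ x, V.valuation x < 1 → ∃ w ∈ V, x = z * w := by
  have hdeg : (X ^ p + C (π ^ (m + 2)) * X : B[X]).natDegree = p := by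
    rw [natDegree_add_eq_left_of_degree_lt, natDegree_X_pow]
    rw [degree_X_pow]
    exact lt_of_le_of_lt (degree_C_mul_X_le _) (by exact_mod_cast hp)
  have hmon : (X ^ p + C (π ^ (m + 2)) * X : B[X]).Monic :=
    monic_X_pow_add (lt_of_le_of_lt (degree_C_mul_X_le _) (by exact_mod_cast hp))
  obtain ⟨hfd, hfin⟩ := finrank_le_of_root (A := B) (K := L) (ξ := algebraMap B L π) hmon (by omega)
    (z := z) (by
      rw [map_add, map_mul, map_pow, aeval_X, aeval_C, map_pow, ← IsScalarTower.algebraMap_apply, hz]) hgen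
  rw [hdeg] at hfin
  haveI := hfd
  have hy : ∀ V : ValuationSubring L₁, EtRam.Dominates B (algebraMap B L₁) V →
      V.valuation z ^ p = V.valuation (algebraMap B L₁ π) := fun V hV => (root_facts hp hπ hz V hV).2
  obtain ⟨htot, hrk⟩ := case3_of_pow (K := L) (by omega) hfin hπ hy
  obtain ⟨-, hspan, -⟩ := structure_of_basis (K := L) hfin hπ
    (basisProp_of_pow (by omega) hπ hy (algebraMap_injective' L))
  refine ⟨hfd, hrk, htot, fun V hV => ?_⟩
  have hzV : z ∈ V := (V.valuation_le_one_iff _).1 (root_facts hp hπ hz V hV).1.le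
  have hdec : ∀ x ∈ V, ∃ c : B, ∃ w ∈ V, x = algebraMap B L₁ c + z * w := by
    intro x hx
    obtain ⟨a, rfl⟩ := hspan V hV x hx
    obtain ⟨k, rfl⟩ : ∃ k, p = k + 1 := ⟨p - 1, by omega⟩
    refine ⟨a 0, ∑ i : Fin k, algebraMap B L₁ (a i.succ) * z ^ (i : ℕ), sum_mem fun i _ =>
      V.mul_mem _ _ (hV.1 _) (pow_mem hzV _), ?_⟩
    rw [Fin.sum_univ_succ, Finset.mul_sum]
    simp only [Fin.val_zero, pow_zero, mul_one, Fin.val_succ]
    congr 1
    exact Finset.sum_congr rfl fun i _ => by ring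
  refine ⟨hdec, fun x hx => ?_⟩
  obtain ⟨c, w, hw, rfl⟩ := hdec x ((V.valuation_le_one_iff _).1 hx.le)
  have hc : c ∈ maximalIdeal B := (mem_maximalIdeal _).2 fun hu => by
    have h1 := valuation_unit hV hu
    have h2 : V.valuation (z * w) < V.valuation (algebraMap B L₁ c) := by
      rw [h1, map_mul]
      exact mul_lt_one_of_lt_of_le (root_facts hp hπ hz V hV).1 ((V.valuation_le_one_iff _).2 hw)
    rw [V.valuation.map_add_eq_of_lt_left h2, h1] at hx
    exact lt_irrefl _ hx
  rw [hπ, Ideal.mem_span_singleton] at hc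
  obtain ⟨d, rfl⟩ := hc
  refine ⟨(z ^ (p - 1) + algebraMap B L₁ π ^ (m + 2)) * algebraMap B L₁ d + w,
    V.add_mem _ _ (V.mul_mem _ _ (V.add_mem _ _ (pow_mem hzV _) (pow_mem (hV.1 π) _)) (hV.1 d)) hw, ?_⟩
  rw [map_mul]
  conv_lhs => rw [← hz]
  have : z ^ p = z * z ^ (p - 1) := by rw [← pow_succ', Nat.sub_add_cancel hp.le]
  rw [this]
  ring

variable {M' : Type u} [Field M'] [Algebra L₁ M'] [Algebra B M'] [IsScalarTower B L₁ M']

/-- `M' = L₁(q)` with `q^p = t`: the extension `L₁ ∩ W → W` is weakly unramified. -/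
theorem inseparable_step (hp : p.Prime) [CharP L p] (hπ : maximalIdeal B = Ideal.span {π})
    (hz : z ^ p + algebraMap B L₁ π ^ (m + 2) * z = algebraMap B L₁ π)
    (hgen : IntermediateField.adjoin L {z} = ⊤) {q : M'} {t r : B} {b : Fin p → B}
    (hq : q ^ p = algebraMap B M' t) (hqgen : IntermediateField.adjoin L₁ {q} = ⊤)
    (hbr : t = ∑ i, b i ^ p * π ^ (i : ℕ) + π ^ m * r)
    (hr : ∀ r' : B, residue B r ≠ residue B r' ^ p)
    (W : ValuationSubring M') (hW : EtRam.Dominates B (algebraMap B M') W) :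
    Module.finrank L₁ M' = p ∧ W.valuation (algebraMap L₁ M' z) < 1 ∧
      ∀ x, W.valuation x < 1 → ∃ w ∈ W, x = algebraMap L₁ M' z * w := by
  classical
  haveI : Fact p.Prime := ⟨hp⟩
  obtain ⟨hfd, -, htot, hV'⟩ := root_structure hp.one_lt hπ hz hgen
  haveI := hfd
  let V : ValuationSubring L₁ := W.comap (algebraMap L₁ M')
  have hinjB : ∀ a, algebraMap B M' a = algebraMap L₁ M' (algebraMap B L₁ a) :=
    IsScalarTower.algebraMap_apply B L₁ M'
  have hV : EtRam.Dominates B (algebraMap B L₁) V := by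
    have h := dominates_comap (A := B) (K := L₁) (L := L₁) W
    refine ⟨fun a => show algebraMap L₁ M' _ ∈ W from hinjB a ▸ hW.1 a, fun a ha => ?_⟩
    by_contra hge
    rw [not_lt] at hge
    have h1 : W.valuation (algebraMap B M' a) < 1 := hW.2 a ha
    have hne : algebraMap B L₁ a ≠ 0 := by
      intro h0; rw [h0, map_zero] at hge; exact not_lt.2 hge zero_lt_one
    have h2 : (algebraMap B L₁ a)⁻¹ ∈ V := (V.valuation_le_one_iff _).1 (by
      rw [map_inv₀]; exact inv_le_one_of_one_le₀ hge)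
    have h3 : W.valuation (algebraMap L₁ M' (algebraMap B L₁ a)⁻¹) ≤ 1 := (W.valuation_le_one_iff _).2 h2
    rw [map_inv₀, map_inv₀, ← hinjB] at h3
    have h4 : W.valuation (algebraMap B M' a) ≠ 0 := by
      rw [Ne, map_eq_zero, hinjB, map_eq_zero]; exact hne
    exact not_le.2 h1 ((inv_le_one₀ (zero_lt_iff.2 h4)).1 h3)
  obtain ⟨hz1, hz2⟩ := root_facts hp.one_lt hπ hz V hV
  have hzV : z ∈ V := (V.valuation_le_one_iff _).1 hz1.le
  obtain ⟨hdec, hlt⟩ := hV' V hV
  haveI : IsScalarTower B L L₁ := ‹_›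
  have hV0 : EtRam.Dominates B ((algebraMap L L₁).comp (algebraMap B L)) V := by
    rw [← IsScalarTower.algebraMap_eq]; exact hV
  haveI : IsDiscreteValuationRing V := (isDVR_of_dominates_finite V hV0).1
  letI : Algebra V M' := ((algebraMap L₁ M').comp V.subtype).toAlgebra
  haveI : IsScalarTower V L₁ M' := IsScalarTower.of_algebraMap_eq fun _ => rfl
  have hmaxV : maximalIdeal V = Ideal.span {(⟨z, hzV⟩ : V)} := by
    refine le_antisymm (fun x hx => ?_) ((Ideal.span_singleton_le_iff_mem _).2 ((V.valuation_lt_one_iff _).2 hz1))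
    obtain ⟨w, hw, hxe⟩ := hlt x ((V.valuation_lt_one_iff x).1 hx)
    exact Ideal.mem_span_singleton'.2 ⟨⟨w, hw⟩, Subtype.ext (by rw [hxe]; exact mul_comm w z)⟩
  letI : Algebra B V := (RingHom.codRestrict (algebraMap B L₁) V hV.1).toAlgebra
  haveI : IsLocalHom (algebraMap B V) := isLocalHom_dom V hV
  haveI : CharP L₁ p := charP_of_injective_algebraMap (algebraMap L L₁).injective p
  haveI : CharP M' p := charP_of_injective_algebraMap (algebraMap L₁ M').injective p
  haveI : CharP V p := (RingHom.charP_iff V.subtype Subtype.val_injective p).2 ‹_›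
  haveI : CharP (ResidueField V) p := by
    refine (CharP.charP_iff_prime_eq_zero hp).2 ?_
    rw [← map_natCast (residue V), CharP.cast_eq_zero, map_zero]
  have hna : ∀ r' : V, residue V (algebraMap B V r) ≠ residue V r' ^ p := by
    intro r' he
    obtain ⟨c, w, hw, hce⟩ := hdec r' r'.2
    have hr' : residue V r' = residue V (algebraMap B V c) := by
      rw [← sub_eq_zero, ← map_sub, residue_eq_zero_iff, hmaxV, Ideal.mem_span_singleton']
      refine ⟨⟨w, hw⟩, Subtype.ext ?_⟩
      show w * z = (r' : L₁) - algebraMap B L₁ c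
      rw [hce]; ring
    rw [hr', ← map_pow, ← map_pow, ← ResidueField.algebraMap_residue, ← ResidueField.algebraMap_residue] at he
    exact hr c ((algebraMap (ResidueField B) (ResidueField V)).injective he |>.trans (map_pow _ _ _))
  obtain ⟨hfd', hfin'⟩ := finrank_le_of_root (A := V) (K := L₁) (ξ := algebraMap B L₁ t) (monic_X_pow (R := V) p)
    (by rw [natDegree_X_pow]; exact hp.pos) (z := q) (by rw [map_pow, aeval_X, hq, hinjB]) hqgen
  rw [natDegree_X_pow] at hfin'
  haveI := hfd'
  let Z : M' := algebraMap L₁ M' z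
  let P : M' := algebraMap B M' π
  let β : M' := ∑ i, algebraMap B M' (b i) * Z ^ (i : ℕ)
  have hZ : Z ^ p + P ^ (m + 2) * Z = P := by
    show algebraMap L₁ M' z ^ p + algebraMap B M' π ^ (m + 2) * algebraMap L₁ M' z = algebraMap B M' π
    rw [hinjB, ← map_pow, ← map_pow, ← map_mul, ← map_add, hz]
  obtain ⟨ε, hεdef⟩ : ∃ e, e = 1 - P ^ (m + 1) * Z := ⟨_, rfl⟩
  have hZp : Z ^ p = P * ε := by rw [hεdef]; linear_combination hZ
  obtain ⟨G, hG⟩ : ∃ G, G = ∑ i : Fin p, algebraMap B M' (b i) ^ p * P ^ (i : ℕ) *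
      ∑ j ∈ Finset.range (i : ℕ), ε ^ j := ⟨_, rfl⟩
  have hkey : q ^ p - β ^ p = P ^ m * (algebraMap B M' r + P * Z * G) := by
    have hb : ∀ i : Fin p, (algebraMap B M' (b i) * Z ^ (i : ℕ)) ^ p =
        algebraMap B M' (b i ^ p * π ^ (i : ℕ)) -
          algebraMap B M' (b i) ^ p * P ^ (i : ℕ) * (∑ j ∈ Finset.range (i : ℕ), ε ^ j) * (P ^ (m + 1) * Z) := by
      intro i
      have hgs := geom_sum_mul_neg ε (i : ℕ)
      rw [show 1 - ε = P ^ (m + 1) * Z by rw [hεdef]; ring] at hgs
      rw [mul_pow, ← pow_mul, mul_comm (i : ℕ) p, pow_mul, hZp, mul_pow, map_mul, map_pow, map_pow,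
        mul_assoc _ (∑ j ∈ Finset.range (i : ℕ), ε ^ j), hgs]
      ring
    rw [sum_pow_char, Finset.sum_congr rfl fun i _ => hb i, Finset.sum_sub_distrib, ← Finset.sum_mul, ← hG,
      ← map_sum, hq, hbr, map_add, map_mul, map_pow]
    ring
  have hεne : ε ≠ 0 := by
    intro h0
    rw [h0, mul_zero, eq_comm] at hZp
    have : Z = 0 := pow_eq_zero_iff hp.ne_zero |>.1 hZp.symm
    rw [hεdef, this, mul_zero, sub_zero] at h0
    exact one_ne_zero h0
  have hπM : P ≠ 0 := by
    show algebraMap B M' π ≠ 0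
    rw [hinjB, Ne, map_eq_zero, map_eq_zero_iff _ (algebraMap_injective' L)]
    exact ((IsDiscreteValuationRing.irreducible_iff_uniformizer π).2 hπ).ne_zero
  let y : M' := (q - β) / Z ^ m
  have hy : ∀ W' : ValuationSubring M', EtRam.Dominates V (algebraMap V M') W' →
      y ∈ W' ∧ W'.valuation (y ^ p - algebraMap V M' (algebraMap B V r)) < 1 := by
    intro W' hW'
    have hB' : ∀ a, algebraMap B M' a ∈ W' := fun a => hinjB a ▸ hW'.1 (algebraMap B V a)
    have hPW : P ∈ W' := hB' π
    have hZ1 : W'.valuation Z < 1 := hW'.2 ⟨z, hzV⟩ (hmaxV ▸ Ideal.mem_span_singleton_self _)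
    have hZW : Z ∈ W' := (W'.valuation_le_one_iff _).1 hZ1.le
    have hεW : ε ∈ W' := hεdef ▸ sub_mem (one_mem _) (W'.mul_mem _ _ (pow_mem hPW _) hZW)
    have hε : W'.valuation ε = 1 := by
      rw [hεdef]
      refine W'.valuation.map_one_sub_of_lt ?_
      rw [map_mul]
      rw [mul_comm]
      exact mul_lt_one_of_lt_of_le hZ1 ((W'.valuation_le_one_iff _).2 (pow_mem hPW _))
    have hεinv : ε⁻¹ ∈ W' := (W'.valuation_le_one_iff _).1 (by rw [map_inv₀, hε, inv_one])
    have hGW : G ∈ W' := hG ▸ sum_mem fun i _ => W'.mul_mem _ _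
      (W'.mul_mem _ _ (pow_mem (hB' _) _) (pow_mem hPW _)) (sum_mem fun j _ => pow_mem hεW _)
    have hyp : y ^ p = (algebraMap B M' r + P * Z * G) * (ε⁻¹) ^ m := by
      show ((q - β) / Z ^ m) ^ p = _
      rw [div_pow, sub_pow_char, hkey, ← pow_mul, mul_comm m p, pow_mul, hZp, mul_pow, inv_pow]
      field_simp
    have hsub : y ^ p - algebraMap V M' (algebraMap B V r) =
        (P * Z * G) * (ε⁻¹) ^ m + algebraMap B M' r * ((∑ j ∈ Finset.range m, (ε⁻¹) ^ j) *
          (ε⁻¹ * (P ^ (m + 1) * Z))) := by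
      rw [hyp, show algebraMap V M' (algebraMap B V r) = algebraMap B M' r from (hinjB r).symm]
      have h1 : ε⁻¹ * (P ^ (m + 1) * Z) = ε⁻¹ - 1 := by
        rw [show P ^ (m + 1) * Z = 1 - ε by rw [hεdef]; ring, mul_sub, mul_one, inv_mul_cancel₀ hεne]
      rw [h1, geom_sum_mul]
      ring
    refine ⟨(W'.valuation_le_one_iff _).1 (le_of_not_gt fun hgt => ?_), ?_⟩
    · have h1 : 1 < W'.valuation (y ^ p) := by rw [map_pow]; exact one_lt_pow₀ hgt hp.ne_zero
      refine not_le.2 h1 ((W'.valuation_le_one_iff _).2 ?_)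
      rw [hyp]
      exact W'.mul_mem _ _ (W'.add_mem _ _ (hB' r) (W'.mul_mem _ _ (W'.mul_mem _ _ hPW hZW) hGW))
        (pow_mem hεinv _)
    · rw [hsub]
      refine W'.valuation.map_add_lt ?_ ?_
      · rw [show P * Z * G * ε⁻¹ ^ m = Z * (P * G * ε⁻¹ ^ m) by ring, map_mul]
        exact mul_lt_one_of_lt_of_le hZ1 ((W'.valuation_le_one_iff _).2
          (W'.mul_mem _ _ (W'.mul_mem _ _ hPW hGW) (pow_mem hεinv _)))
      · rw [show algebraMap B M' r * ((∑ j ∈ Finset.range m, ε⁻¹ ^ j) * (ε⁻¹ * (P ^ (m + 1) * Z))) =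
          Z * (algebraMap B M' r * (∑ j ∈ Finset.range m, ε⁻¹ ^ j) * ε⁻¹ * P ^ (m + 1)) by ring, map_mul]
        exact mul_lt_one_of_lt_of_le hZ1 ((W'.valuation_le_one_iff _).2
          (W'.mul_mem _ _ (W'.mul_mem _ _ (W'.mul_mem _ _ (hB' r) (sum_mem fun j _ => pow_mem hεinv _)) hεinv)
            (pow_mem hPW _)))
  obtain ⟨hc4, hrk⟩ := case4_of_pow (K := L₁) hp hfin' hmaxV hna hy
  have hWV : EtRam.Dominates V (algebraMap V M') W := by
    refine ⟨fun a => a.2, fun a ha => ?_⟩
    have h := (V.valuation_lt_one_iff a).1 ha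
    by_contra hge
    rw [not_lt] at hge
    have hne : (a : L₁) ≠ 0 := fun h0 => not_lt.2 hge (by
      rw [show algebraMap V M' a = algebraMap L₁ M' (a : L₁) from rfl, h0, map_zero, map_zero]; exact zero_lt_one)
    have h2 : ((a : L₁))⁻¹ ∈ V := show algebraMap L₁ M' _ ∈ W from (W.valuation_le_one_iff _).1 (by
      rw [map_inv₀, map_inv₀]; exact inv_le_one_of_one_le₀ hge)
    have h3 := (V.valuation_le_one_iff _).2 h2
    rw [map_inv₀] at h3
    exact not_le.2 h ((inv_le_one₀ (zero_lt_iff.2 (by rw [Ne, map_eq_zero]; exact hne))).1 h3)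
  have hzW : W.valuation (algebraMap L₁ M' z) < 1 := hWV.2 ⟨z, hzV⟩ (hmaxV ▸ Ideal.mem_span_singleton_self _)
  refine ⟨hrk, hzW, fun x hx => ?_⟩
  letI : Algebra V W := (RingHom.codRestrict (algebraMap V M') W hWV.1).toAlgebra
  haveI : IsLocalHom (algebraMap V W) := isLocalHom_dom W hWV
  have hwu : EtRam.IsWeaklyUnramified V W := (hc4.2.2 W hWV).1
  have hxm : (⟨x, (W.valuation_le_one_iff _).1 hx.le⟩ : W) ∈ maximalIdeal W := (W.valuation_lt_one_iff _).2 hx
  rw [← hwu, hmaxV, Ideal.map_span, Set.image_singleton, Ideal.mem_span_singleton'] at hxm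
  obtain ⟨w, hw⟩ := hxm
  exact ⟨w, w.2, (congrArg Subtype.val hw).symm.trans (mul_comm _ _)⟩

end Root

end Groth.Agent.H1Ram
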